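import Mathlib

set_option autoImplicit false
set_option maxRecDepth 100000
set_option synthInstance.maxSize 4000
set_option synthInstance.maxHeartbeats 1000000

/-!
Automorphisms of quaternion groups: odd order is only possible for `Q₈`, whose automorphisms
permute four classes faithfully.
-/

namespace Cfsg.Agent.FPFStructure

open QuaternionGroup

/-- An automorphism is determined by the images of `a 1` and `xa 0`. -/
theorem quat_ext {n : ℕ} [NeZero n] {G : Type*} [Group G] {φ χ : QuaternionGroup n →* G}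
    (h1 : φ (a 1) = χ (a 1)) (h2 : φ (xa 0) = χ (xa 0)) : φ = χ := by
  have ha : ∀ i : ZMod (2 * n), φ (a i) = χ (a i) := fun i => by
    haveI : NeZero (2 * n) := ⟨Nat.mul_ne_zero two_ne_zero (NeZero.ne n)⟩
    rw [← ZMod.natCast_zmod_val i, ← a_one_pow, map_pow, map_pow, h1]
  refine MonoidHom.ext fun g => ?_
  cases g with
  | a i => exact ha i
  | xa i =>
    have e : xa i = xa 0 * a i := by rw [xa_mul_a, zero_add]
    rw [e, map_mul, map_mul, h2, ha]

/-- Odd order automorphisms are trivial away from `Q₈`. -/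
theorem quat_aut_trivial' {k n : ℕ} (hk : k ≠ 1) (hn : n = 2 ^ k)
    (φ : MulAut (QuaternionGroup n)) (hφ : Odd (orderOf φ)) : φ = 1 := by
  haveI : NeZero n := ⟨by rw [hn]; positivity⟩
  haveI : NeZero (2 * n) := ⟨Nat.mul_ne_zero two_ne_zero (NeZero.ne n)⟩
  -- the cyclic subgroup is invariant
  obtain ⟨i, hi⟩ : ∃ i, φ (a 1) = a i := by
    have ho : orderOf (φ (a 1 : QuaternionGroup n)) = 2 * n := by
      rw [MulEquiv.orderOf_eq, orderOf_a_one]
    cases hv : φ (a 1) with
    | a i => exact ⟨i, rfl⟩
    | xa i =>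
      exfalso
      rw [hv, orderOf_xa] at ho
      rcases k with _ | _ | k
      · norm_num [hn] at ho
      · exact hk rfl
      · rw [hn, pow_succ, pow_succ] at ho
        have : 0 < 2 ^ k := by positivity
        omega
  have hpow : ∀ j : ℕ, (φ ^ j) (a 1) = a (i ^ j) := by
    intro j
    induction j with
    | zero => simp
    | succ j ih =>
      rw [pow_succ', MulAut.mul_apply, ih, ← ZMod.natCast_zmod_val (i ^ j), ← a_one_pow, map_pow, hi]
      have : ∀ (m : ℕ), (a i : QuaternionGroup n) ^ m = a (i * (m : ZMod (2 * n))) := by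
        intro m
        induction m with
        | zero => simp
        | succ m ihm => rw [pow_succ, ihm, a_mul_a, Nat.cast_succ, mul_add, mul_one]
      rw [this, ZMod.natCast_zmod_val, pow_succ']
  have hcard : Fintype.card (ZMod (2 * n))ˣ = 2 ^ k := by
    rw [ZMod.card_units_eq_totient, hn, ← pow_succ', Nat.totient_prime_pow_succ Nat.prime_two]
    norm_num
  have hio : i ^ orderOf φ = 1 := by
    have h := hpow (orderOf φ)
    rw [pow_orderOf_eq_one, MulAut.one_apply] at h
    exact (QuaternionGroup.a.injEq _ _ ▸ h : (1 : ZMod (2 * n)) = i ^ orderOf φ).symm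
  have hi1 : i = 1 := by
    let u : (ZMod (2 * n))ˣ :=
      Units.ofPowEqOne i (orderOf φ) hio (orderOf_pos φ).ne'
    have h1 : orderOf u ∣ orderOf φ :=
      orderOf_dvd_of_pow_eq_one (Units.ext (by simpa [u] using hio))
    have h2 : orderOf u ∣ 2 ^ k := hcard ▸ orderOf_dvd_card
    have h3 : orderOf u = 1 :=
      Nat.eq_one_of_dvd_coprimes ((Nat.coprime_two_left.2 hφ).pow_left k) h2 h1
    have := congrArg Units.val (orderOf_eq_one_iff.1 h3)
    simpa [u] using this
  subst hi1
  obtain ⟨j, hj⟩ : ∃ j, φ (xa 0) = xa j := by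
    cases hv : φ (xa 0) with
    | xa j => exact ⟨j, rfl⟩
    | a j =>
      exfalso
      have h : φ (a j) = a j := by
        rw [← ZMod.natCast_zmod_val j, ← a_one_pow, map_pow, hi]
      have := φ.injective (hv.trans h.symm)
      simp at this
  have hpow2 : ∀ l : ℕ, (φ ^ l) (xa 0) = xa ((l : ZMod (2 * n)) * j) := by
    intro l
    induction l with
    | zero => simp
    | succ l ih =>
      rw [pow_succ', MulAut.mul_apply, ih]
      have e : (xa ((l : ZMod (2 * n)) * j) : QuaternionGroup n) = xa 0 * a ((l : ZMod (2 * n)) * j) := by rw [xa_mul_a, zero_add]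
      have h : φ (a ((l : ZMod (2 * n)) * j)) = a ((l : ZMod (2 * n)) * j) := by
        rw [← ZMod.natCast_zmod_val ((l : ZMod (2 * n)) * j), ← a_one_pow, map_pow, hi]
      rw [e, map_mul, hj, h, xa_mul_a, Nat.cast_succ, add_mul, one_mul, add_comm]
  have hj0 : j = 0 := by
    have h := hpow2 (orderOf φ)
    rw [pow_orderOf_eq_one, MulAut.one_apply] at h
    have h0 : (0 : ZMod (2 * n)) = (orderOf φ : ZMod (2 * n)) * j :=
      (QuaternionGroup.xa.injEq _ _).mp h
    have hcop : (orderOf φ).Coprime (2 * n) :=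
      (show 2 * n = 2 ^ (k + 1) by rw [pow_succ', ← hn]) ▸
        ((Nat.coprime_two_left.2 hφ).pow_left _).symm
    exact ((ZMod.isUnit_iff_coprime _ _).2 hcop).mul_right_eq_zero.1 h0.symm
  exact MulEquiv.toMonoidHom_injective
    (quat_ext (φ := φ.toMonoidHom) (χ := (1 : MulAut _).toMonoidHom) hi (hj0 ▸ hj))

theorem quat_aut_trivial {k : ℕ} (hk : k ≠ 1) (φ : MulAut (QuaternionGroup (2 ^ k)))
    (hφ : Odd (orderOf φ)) : φ = 1 :=
  quat_aut_trivial' hk rfl φ hφ

/-- The class of a pair of non-commuting elements. -/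
def frame (u v : QuaternionGroup 2) : Finset (Finset (QuaternionGroup 2)) :=
  {{u, v, u * v}, {u⁻¹, v⁻¹, (u * v)⁻¹}}

/-- The four classes. -/
def frames : Finset (Finset (Finset (QuaternionGroup 2))) :=
  ((Finset.univ : Finset (QuaternionGroup 2 × QuaternionGroup 2)).filter
    fun p => p.1 * p.2 ≠ p.2 * p.1).image fun p => frame p.1 p.2

theorem card_frames : frames.card = 4 := by decide +kernel

/-- The word giving the value at `q` of the map with images `u`, `v`. -/
def wordImage (u v : QuaternionGroup 2) : QuaternionGroup 2 → QuaternionGroup 2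
  | a i => u ^ i.val
  | xa i => v * u ^ i.val

theorem frames_faithful : ∀ u v : QuaternionGroup 2, u * v ≠ v * u →
    (∀ p ∈ [(a (1 : ZMod 4), xa (0 : ZMod 4)), (xa 0, a 3), (xa 2, a 1), (xa 0, a 1)],
      frame (wordImage u v p.1) (wordImage u v p.2) = frame p.1 p.2) → u = a 1 ∧ v = xa 0 := by
  decide +kernel

theorem reps_noncomm :
    ∀ p ∈ [((a 1 : QuaternionGroup 2), (xa 0 : QuaternionGroup 2)), (xa 0, a 3), (xa 2, a 1),
      (xa 0, a 1)], p.1 * p.2 ≠ p.2 * p.1 := by
  decide +kernel

theorem image_frame (φ : MulAut (QuaternionGroup 2)) (u v : QuaternionGroup 2) :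
    (frame u v).image (fun T => T.image φ) = frame (φ u) (φ v) := by
  simp [frame, Finset.image_insert, map_mul, map_inv]

theorem aut_eq_word (φ : MulAut (QuaternionGroup 2)) :
    ∀ q, φ q = wordImage (φ (a 1)) (φ (xa 0)) q := by
  intro q
  cases q with
  | a i => rw [wordImage, ← map_pow, a_one_pow, ZMod.natCast_zmod_val]
  | xa i => rw [wordImage, ← map_pow, a_one_pow, ZMod.natCast_zmod_val, ← map_mul, xa_mul_a, zero_add]

theorem mem_frames {u v : QuaternionGroup 2} (h : u * v ≠ v * u) : frame u v ∈ frames :=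
  Finset.mem_image.2 ⟨(u, v), Finset.mem_filter.2 ⟨Finset.mem_univ _, h⟩, rfl⟩

theorem image_mem_frames (φ : MulAut (QuaternionGroup 2)) {S : Finset (Finset (QuaternionGroup 2))}
    (hS : S ∈ frames) : S.image (fun T => T.image φ) ∈ frames := by
  obtain ⟨⟨u, v⟩, hp, rfl⟩ := Finset.mem_image.1 hS
  have h : φ u * φ v ≠ φ v * φ u := by
    rw [← map_mul, ← map_mul]
    exact fun e => (Finset.mem_filter.1 hp).2 (φ.injective e)
  have : (frame u v).image (fun T => T.image φ) = frame (φ u) (φ v) := by
    simp [frame, Finset.image_insert, map_mul, map_inv]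
  rw [this]
  exact mem_frames h

/-- Automorphisms act on the four classes. -/
def frameHom : MulAut (QuaternionGroup 2) →* Equiv.Perm {S // S ∈ frames} :=
  letI : MulAction (MulAut (QuaternionGroup 2)) {S // S ∈ frames} :=
    { smul := fun φ S => ⟨S.1.image (fun T => T.image φ), image_mem_frames φ S.2⟩
      one_smul := fun S => Subtype.ext (by
        show S.1.image (fun T => T.image (1 : MulAut (QuaternionGroup 2))) = S.1
        simp)
      mul_smul := fun φ χ S => Subtype.ext (by
        show S.1.image (fun T => T.image (φ * χ : MulAut (QuaternionGroup 2))) =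
          (S.1.image (fun T => T.image χ)).image (fun T => T.image φ)
        rw [Finset.image_image]
        refine Finset.image_congr fun T _ => ?_
        simp [Finset.image_image, Function.comp_def]) }
  MulAction.toPermHom _ _

theorem frameHom_injective : Function.Injective frameHom := by
  refine (injective_iff_map_eq_one _).2 fun φ hφ => ?_
  have hne : φ (a 1) * φ (xa 0) ≠ φ (xa 0) * φ (a 1) := by
    rw [← map_mul, ← map_mul]
    intro h
    exact absurd (φ.injective h) (by decide)
  have h := frames_faithful _ _ hne fun p hp => by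
    rw [← aut_eq_word φ, ← aut_eq_word φ, ← image_frame]
    exact congrArg Subtype.val (Equiv.ext_iff.1 hφ ⟨_, mem_frames (reps_noncomm p hp)⟩)
  exact MulEquiv.toMonoidHom_injective
    (quat_ext (φ := φ.toMonoidHom) (χ := (1 : MulAut _).toMonoidHom) h.1 h.2)

/-- `Aut Q₈` embeds in `S₄`. -/
theorem exists_aut_quat_hom :
    ∃ f : MulAut (QuaternionGroup 2) →* Equiv.Perm (Fin 4), Function.Injective f := by
  let e : {S // S ∈ frames} ≃ Fin 4 :=
    Fintype.equivFinOfCardEq (by rw [Fintype.card_coe, card_frames])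
  exact ⟨e.permCongrHom.toMonoidHom.comp frameHom, e.permCongrHom.injective.comp frameHom_injective⟩

theorem perm_four_centralizer : ∀ σ τ : Equiv.Perm (Fin 4), σ * σ * σ = 1 → τ * τ = 1 → τ ≠ 1 →
    σ * τ = τ * σ → σ = 1 := by decide +kernel

theorem perm_four_odd_order : ∀ σ : Equiv.Perm (Fin 4),
    σ * σ * σ = 1 ∨ σ * σ * σ * σ = 1 := by decide +kernel

theorem perm_four_center : ∀ z : Equiv.Perm (Fin 4), (∀ σ, σ * z = z * σ) → z = 1 := by
  decide +kernel

theorem alt_four_center : ∀ z : alternatingGroup (Fin 4), (∀ σ, σ * z = z * σ) → z = 1 := by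
  decide +kernel

/-- The map of a quaternion group onto the four-group. -/
theorem exists_quat_hom {m : ℕ} [NeZero m] (hm : 2 ∣ m) :
    ∃ f : QuaternionGroup m →* DihedralGroup 2, Function.Surjective f ∧
      ∀ g, f g = 1 → g ∈ Subgroup.zpowers (a 1 : QuaternionGroup m) ∧
        g ∈ Subgroup.closure (Set.range fun q : QuaternionGroup m => q * q) := by
  let c : ZMod (2 * m) →+* ZMod 2 := ZMod.castHom (dvd_mul_right 2 m) (ZMod 2)
  let f : QuaternionGroup m →* DihedralGroup 2 := MonoidHom.mk'
    (fun g => match g with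
      | a i => DihedralGroup.r (c i)
      | xa i => DihedralGroup.sr (c i))
    (by
      have hmz : c (m : ZMod (2 * m)) = 0 := by
        rw [map_natCast]
        exact (ZMod.natCast_eq_zero_iff _ _).2 hm
      rintro (i | i) (j | j)
      · simp
      · simp
      · simp
      · simp [hmz])
  refine ⟨f, ?_, ?_⟩
  · rintro (i | i)
    · refine ⟨a ((i.val : ℕ) : ZMod (2 * m)), ?_⟩
      show DihedralGroup.r (c _) = _
      rw [map_natCast, ZMod.natCast_zmod_val]
    · refine ⟨xa ((i.val : ℕ) : ZMod (2 * m)), ?_⟩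
      show DihedralGroup.sr (c _) = _
      rw [map_natCast, ZMod.natCast_zmod_val]
  · rintro (i | i) hg
    · haveI : NeZero (2 * m) := ⟨Nat.mul_ne_zero two_ne_zero (NeZero.ne m)⟩
      have hci : c i = 0 := DihedralGroup.r.inj hg
      rw [← ZMod.natCast_zmod_val i, map_natCast, ZMod.natCast_eq_zero_iff] at hci
      obtain ⟨l, hl⟩ := hci
      refine ⟨Subgroup.mem_zpowers_iff.2 ⟨i.val, ?_⟩, Subgroup.subset_closure ⟨a l, ?_⟩⟩
      · rw [zpow_natCast, a_one_pow, ZMod.natCast_zmod_val]
      · show a (l : ZMod (2 * m)) * a l = a i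
        rw [a_mul_a, ← Nat.cast_add, ← two_mul, ← hl, ZMod.natCast_zmod_val]
    · exact nomatch (show DihedralGroup.sr (c i) = DihedralGroup.r 0 from hg)

end Cfsg.Agent.FPFStructure
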