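import Cfsg.Agent.FPFStructure.Classify

set_option autoImplicit false
set_option linter.style.haveILetI false

/-!
The subgroups generated by two or three elements of order three in a group with a representation
without fixed points.
-/

namespace Cfsg.Agent.FPFStructure

universe u v

open Subgroup

variable {A : Type u} [Group A]

/-- `x` has order three. -/
def Ord3 (x : A) : Prop := x * x * x = 1 ∧ x ≠ 1

/-- The product is a square root of `ζ`. -/
def Adj (ζ x y : A) : Prop := x * y * (x * y) = ζ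

/-- `H` is a double cover of `A_n` with kernel `{1, ζ}`. -/
def Cover (ζ : A) (H : Subgroup A) (n : ℕ) : Prop :=
  ζ ∈ H ∧ ∃ f : H →* alternatingGroup (Fin n), Function.Surjective f ∧
    ∀ g : H, f g = 1 ↔ (g : A) = 1 ∨ (g : A) = ζ

theorem Ord3.sq {x : A} (h : Ord3 x) : Ord3 (x * x) := by
  refine ⟨?_, fun he => h.2 ?_⟩
  · calc x * x * (x * x) * (x * x) = (x * x * x) * (x * x * x) := by simp only [mul_assoc]
      _ = 1 := by rw [h.1, one_mul]
  · have := h.1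
    rwa [he, one_mul] at this

theorem Ord3.sq_sq {x : A} (h : Ord3 x) : x * x * (x * x) = x := by
  rw [← mul_assoc, h.1, one_mul]

theorem Ord3.conj {x : A} (h : Ord3 x) (g : A) : Ord3 (g * x * g⁻¹) := by
  refine ⟨?_, fun he => h.2 (conj_eq_one_iff.1 he)⟩
  calc g * x * g⁻¹ * (g * x * g⁻¹) * (g * x * g⁻¹) = g * (x * x * x) * g⁻¹ := by group
    _ = 1 := by rw [h.1]; group

theorem Ord3.inv_eq {x : A} (h : Ord3 x) : x⁻¹ = x * x := inv_eq_of_mul_eq_one_left h.1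

theorem Ord3.orderOf {x : A} (h : Ord3 x) : orderOf x = 3 := orderOf_cube h.1 h.2

section
variable {R : Type v} [Ring R] {ρ : A →* R} {ζ : A}

theorem Adj.symm (hr : Rep ρ) (hζ : IsInv2 ζ) {x y : A} (h : Adj ζ x y) : Adj ζ y x := by
  show y * x * (y * x) = ζ
  calc y * x * (y * x) = y * (x * y * (x * y)) * y⁻¹ := by group
    _ = ζ := by rw [show x * y * (x * y) = ζ from h, ← hr.central hζ y, mul_inv_cancel_right]

theorem Adj.conj (hr : Rep ρ) (hζ : IsInv2 ζ) {x y : A} (h : Adj ζ x y) (g : A) :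
    Adj ζ (g * x * g⁻¹) (g * y * g⁻¹) := by
  show _ = ζ
  calc g * x * g⁻¹ * (g * y * g⁻¹) * (g * x * g⁻¹ * (g * y * g⁻¹))
      = g * (x * y * (x * y)) * g⁻¹ := by group
    _ = ζ := by rw [show x * y * (x * y) = ζ from h, ← hr.central hζ g, mul_inv_cancel_right]

/-- `x y = ζ y² x²`. -/
theorem Adj.swap (hζ : IsInv2 ζ) {x y : A} (hx : Ord3 x) (hy : Ord3 y) (h : Adj ζ x y) :
    x * y = ζ * (y * y * (x * x)) := by
  have e : ζ * (y * y * (x * x)) = x * y * (x * y) * (y⁻¹ * x⁻¹) := by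
    rw [hx.inv_eq, hy.inv_eq, show x * y * (x * y) = ζ from h]
  rw [e]; group

/-- The closure of a set together with `ζ`. -/
abbrev cl (ζ : A) (S : Set A) : Subgroup A := closure (insert ζ S)

theorem zeta_mem_cl (S : Set A) : ζ ∈ cl ζ S := subset_closure (Set.mem_insert _ _)

theorem mem_cl {S : Set A} {x : A} (h : x ∈ S) : x ∈ cl ζ S :=
  subset_closure (Set.mem_insert_of_mem _ h)

theorem cl_le {S : Set A} {H : Subgroup A} (hζ : ζ ∈ H) (h : ∀ s ∈ S, s ∈ H) : cl ζ S ≤ H :=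
  (closure_le H).2 (by rintro x (rfl | hx); exacts [hζ, h x hx])

theorem cover_of_twoDim [Finite A] (hr : Rep ρ) {S : Set A}
    (hT : TwoDim (⟨ζ, zeta_mem_cl S⟩ : cl ζ S)) (hS : ∀ s ∈ S, Ord3 s) {x y : A} (hx : x ∈ S)
    (hy : y ∈ S) (hxy : ¬ Commute x y) : Cover ζ (cl ζ S) 4 ∨ Cover ζ (cl ζ S) 5 := by
  have hgen : closure (insert (⟨ζ, zeta_mem_cl S⟩ : cl ζ S) (Subtype.val ⁻¹' S)) = ⊤ := by
    refine top_unique (le_trans (closure_closure_coe_preimage (k := insert ζ S)).ge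
      (closure_mono fun w hw => ?_))
    rcases hw with hw | hw
    exacts [Or.inl (Subtype.ext hw), Or.inr hw]
  have hmk : ∀ {a : A} (ha : a ∈ S), (⟨a, mem_cl ha⟩ : cl ζ S) *
      (⟨a, mem_cl ha⟩ : cl ζ S) * (⟨a, mem_cl ha⟩ : cl ζ S) = 1 ∧
      (⟨a, mem_cl ha⟩ : cl ζ S) ≠ 1 := fun {a} ha =>
    ⟨Subtype.ext (hS a ha).1, fun h => (hS a ha).2 (congrArg Subtype.val h)⟩
  refine Or.imp ?_ ?_ (classify hT (hr.comp (cl ζ S).subtype Subtype.val_injective) (hmk hx)
    (hmk hy) (fun h => hxy (congrArg Subtype.val h)) (fun s hs => Subtype.ext (hS _ hs).1) hgen) <;>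
  · rintro ⟨f, hf, hk⟩
    refine ⟨zeta_mem_cl S, f, hf, fun g => (hk g).trans (or_congr ?_ ?_)⟩ <;>
      exact Subtype.ext_iff

theorem cover_pair [Finite A] (hr : Rep ρ) (hζ : IsInv2 ζ) {x y : A} (hx : Ord3 x) (hy : Ord3 y)
    (hxy : ¬ Commute x y) : Cover ζ (cl ζ {x, y}) 4 ∨ Cover ζ (cl ζ {x, y}) 5 := by
  refine cover_of_twoDim hr ?_ (by rintro s (rfl | rfl); exacts [hx, hy]) (Or.inl rfl)
    (Or.inr rfl) hxy
  refine (hr.comp (cl ζ {x, y}).subtype Subtype.val_injective).twoDim_pair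
    (x := ⟨x, mem_cl (Or.inl rfl)⟩) (y := ⟨y, mem_cl (Or.inr rfl)⟩)
    ⟨fun h => hζ.1 (congrArg Subtype.val h), Subtype.ext hζ.2⟩
    ⟨Subtype.ext hx.1, fun h => hx.2 (congrArg Subtype.val h)⟩
    ⟨Subtype.ext hy.1, fun h => hy.2 (congrArg Subtype.val h)⟩ ?_
  refine top_unique (le_trans (closure_closure_coe_preimage (k := insert ζ {x, y})).ge
    (closure_mono fun w hw => ?_))
  rcases hw with hw | hw | hw
  exacts [Or.inr (Or.inr (Subtype.ext hw)), Or.inl (Subtype.ext hw),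
    Or.inr (Or.inl (Subtype.ext hw))]

theorem not_commute_of_adj (hr : Rep ρ) (hζ : IsInv2 ζ) {x y : A} (hx : Ord3 x) (hy : Ord3 y)
    (h : Adj ζ x y) : ¬ Commute x y := by
  intro hc
  rcases hr.commute_cube hx.1 hx.2 hy.1 hy.2 hc with rfl | rfl
  · have h' : y * y * (y * y) = ζ := h
    rw [hy.sq_sq] at h'
    have := hy.1
    rw [h', hζ.2, one_mul] at this
    exact hζ.1 this
  · have h' : x * (x * x) * (x * (x * x)) = ζ := h
    rw [← mul_assoc x x x, hx.1, one_mul] at h'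
    exact hζ.1 h'.symm

theorem cover_triple [Finite A] (hr : Rep ρ) (hζ : IsInv2 ζ) {x y z : A} (hx : Ord3 x)
    (hy : Ord3 y) (hz : Ord3 z) (hxy : Adj ζ x y) (hxz : Adj ζ x z) :
    Cover ζ (cl ζ {x, y, z}) 4 ∨ Cover ζ (cl ζ {x, y, z}) 5 := by
  refine cover_of_twoDim hr ?_ (by rintro s (rfl | rfl | rfl); exacts [hx, hy, hz]) (Or.inl rfl)
    (Or.inr (Or.inl rfl)) (not_commute_of_adj hr hζ hx hy hxy)
  refine (hr.comp (cl ζ {x, y, z}).subtype Subtype.val_injective).twoDim_triple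
    (x := ⟨x, mem_cl (Or.inl rfl)⟩) (y := ⟨y, mem_cl (Or.inr (Or.inl rfl))⟩)
    (z := ⟨z, mem_cl (Or.inr (Or.inr rfl))⟩)
    ⟨fun h => hζ.1 (congrArg Subtype.val h), Subtype.ext hζ.2⟩
    ⟨Subtype.ext hx.1, fun h => hx.2 (congrArg Subtype.val h)⟩
    ⟨Subtype.ext hy.1, fun h => hy.2 (congrArg Subtype.val h)⟩
    ⟨Subtype.ext hz.1, fun h => hz.2 (congrArg Subtype.val h)⟩
    (Subtype.ext hxy) (Subtype.ext hxz) ?_
  refine top_unique (le_trans (closure_closure_coe_preimage (k := insert ζ {x, y, z})).ge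
    (closure_mono fun w hw => ?_))
  rcases hw with hw | hw | hw | hw
  exacts [Or.inr (Or.inr (Or.inr (Subtype.ext hw))), Or.inl (Subtype.ext hw),
    Or.inr (Or.inl (Subtype.ext hw)), Or.inr (Or.inr (Or.inl (Subtype.ext hw)))]

theorem Cover.card [Finite A] {H : Subgroup A} {n : ℕ} (hζ : IsInv2 ζ) (h : Cover ζ H n) :
    Nat.card H = 2 * Nat.card (alternatingGroup (Fin n)) := by
  obtain ⟨hz, f, hf, hk⟩ := h
  have hker : f.ker = zpowers (⟨ζ, hz⟩ : H) := by
    ext g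
    rw [MonoidHom.mem_ker, hk]
    refine ⟨fun hg => hg.elim (fun e => ?_) (fun e => ?_), fun hg => ?_⟩
    · rw [show g = 1 from Subtype.ext e]; exact one_mem _
    · rw [show g = ⟨ζ, hz⟩ from Subtype.ext e]; exact Subgroup.mem_zpowers _
    · have h1 : g ∈ f.ker := (zpowers_le.2 ((hk ⟨ζ, hz⟩).2 (Or.inr rfl))) hg
      exact (hk g).1 h1
  have h2 : Nat.card f.ker = 2 := by
    rw [hker, Nat.card_zpowers]
    refine orderOf_eq_prime ?_ fun h => hζ.1 (congrArg Subtype.val h)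
    rw [pow_two]; exact Subtype.ext hζ.2
  have := card_mul_index f.ker
  rw [h2, index_ker, MonoidHom.range_eq_top.2 hf, Subgroup.card_top] at this
  omega

theorem Cover.card_four [Finite A] {H : Subgroup A} (hζ : IsInv2 ζ) (h : Cover ζ H 4) :
    Nat.card H = 24 := by
  rw [h.card hζ, nat_card_alternatingGroup]; simp [Nat.factorial]

theorem Cover.card_five [Finite A] {H : Subgroup A} (hζ : IsInv2 ζ) (h : Cover ζ H 5) :
    Nat.card H = 120 := by
  rw [h.card hζ, nat_card_alternatingGroup]; simp [Nat.factorial]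

variable {H : Subgroup A} {n : ℕ} {f : H →* alternatingGroup (Fin n)}
  (hk : ∀ g : H, f g = 1 ↔ (g : A) = 1 ∨ (g : A) = ζ)
include hk

theorem adj_iff (hr : Rep ρ) (hζ : IsInv2 ζ) (a b : H) :
    Adj ζ (a : A) b ↔ Adj1 (f a) (f b) := by
  unfold Adj1
  rw [← map_mul, ← map_mul, ne_eq, hk, hk, not_or]
  simp only [Subgroup.coe_mul]
  constructor
  · intro h
    have h' : (a : A) * b * (a * b) = ζ := h
    refine ⟨⟨fun e => ?_, fun e => ?_⟩, Or.inr h⟩
    · rw [e, one_mul] at h'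
      exact hζ.1 h'.symm
    · rw [e, hζ.2] at h'
      exact hζ.1 h'.symm
  · rintro ⟨⟨h1, h2⟩, h3 | h3⟩
    · rcases hr.invol hζ h3 with e | e
      exacts [absurd e h1, absurd e h2]
    · exact h3

theorem commute_of_map (hr : Rep ρ) (hζ : IsInv2 ζ) {a b : H} (hb : Ord3 (b : A)) (h : Commute (f a) (f b)) : Commute (a : A) b := by
  have h1 : f (a * b * a⁻¹ * b⁻¹) = 1 := by
    rw [map_mul, map_mul, map_mul, map_inv, map_inv, h.eq]; group
  rcases (hk _).1 h1 with e | e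
  · simp only [Subgroup.coe_mul, Subgroup.coe_inv] at e
    exact mul_inv_eq_iff_eq_mul.1 (mul_inv_eq_one.1 e)
  · exfalso
    simp only [Subgroup.coe_mul, Subgroup.coe_inv] at e
    have e' : (a : A) * b * (a : A)⁻¹ = ζ * b := by rw [← e]; group
    have := (hb.conj (a : A)).1
    rw [e'] at this
    have e2 : ζ * (b : A) * (ζ * b) * (ζ * b) = ζ * ((b : A) * b * b) := by
      have h3 : ∀ u v : A, (ζ * u) * (ζ * v) = u * v := fun u v => by
        rw [hr.central hζ u, mul_assoc, ← mul_assoc ζ ζ, hζ.2, one_mul]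
      rw [h3, ← mul_assoc _ ζ, ← hr.central hζ, mul_assoc]
    rw [e2, hb.1, mul_one] at this
    exact hζ.1 this

theorem eq_of_map (hζ : IsInv2 ζ) (hcen : ∀ g, ζ * g = g * ζ) {a b : H} (ha : Ord3 (a : A))
    (hb : Ord3 (b : A)) (h : f a = f b) : (a : A) = b := by
  have h1 : f (a * b⁻¹) = 1 := by rw [map_mul, map_inv, h, mul_inv_cancel]
  rcases (hk _).1 h1 with e | e
  · simp only [Subgroup.coe_mul, Subgroup.coe_inv] at e
    exact mul_inv_eq_one.1 e
  · exfalso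
    simp only [Subgroup.coe_mul, Subgroup.coe_inv] at e
    rw [mul_inv_eq_iff_eq_mul] at e
    have := ha.1
    rw [e] at this
    have e2 : ζ * (b : A) * (ζ * b) * (ζ * b) = ζ * ((b : A) * b * b) := by
      have h3 : ∀ u v : A, (ζ * u) * (ζ * v) = u * v := fun u v => by
        rw [hcen u, mul_assoc, ← mul_assoc ζ ζ, hζ.2, one_mul]
      rw [h3, ← mul_assoc _ ζ, ← hcen, mul_assoc]
    rw [e2, hb.1, mul_one] at this
    exact hζ.1 this

theorem map_ord3 {a : H} (hζ : IsInv2 ζ) (ha : Ord3 (a : A)) : Ord3 (f a) := by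
  refine ⟨?_, fun h => ?_⟩
  · rw [← map_mul, ← map_mul, show a * a * a = 1 from Subtype.ext ha.1, map_one]
  · rcases (hk a).1 h with e | e
    · exact ha.2 e
    · have := ha.1
      rw [e, hζ.2, one_mul] at this
      exact hζ.1 this

theorem exists_lift (hf : Function.Surjective f) (hcen : ∀ g, ζ * g = g * ζ) (hζ : IsInv2 ζ)
    (hzH : ζ ∈ H) {a' : alternatingGroup (Fin n)} (ha : Ord3 a') :
    ∃ a : H, Ord3 (a : A) ∧ f a = a' := by
  obtain ⟨a, rfl⟩ := hf a'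
  have hne : (a : A) ≠ 1 ∧ (a : A) ≠ ζ :=
    ⟨fun h => ha.2 ((hk a).2 (Or.inl h)), fun h => ha.2 ((hk a).2 (Or.inr h))⟩
  have h3 : f (a * a * a) = 1 := by rw [map_mul, map_mul, ha.1]
  rcases (hk _).1 h3 with e | e <;> simp only [Subgroup.coe_mul] at e
  · exact ⟨a, ⟨e, hne.1⟩, rfl⟩
  · have h3' : ∀ u v : A, (ζ * u) * (ζ * v) = u * v := fun u v => by
      rw [hcen u, mul_assoc, ← mul_assoc ζ ζ, hζ.2, one_mul]
    refine ⟨⟨ζ, hzH⟩ * a, ⟨?_, ?_⟩, ?_⟩
    · show ζ * (a : A) * (ζ * a) * (ζ * a) = 1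
      rw [h3', ← mul_assoc _ ζ, ← hcen, mul_assoc, e, hζ.2]
    · intro h
      refine hne.2 ?_
      have h' : ζ * (a : A) = 1 := h
      calc (a : A) = ζ * ζ * a := by rw [hζ.2, one_mul]
        _ = ζ := by rw [mul_assoc, h', mul_one]
    · rw [map_mul, (hk ⟨ζ, hzH⟩).2 (Or.inr rfl), one_mul]

end

end Cfsg.Agent.FPFStructure
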