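import Cfsg.Agent.FPFStructure.Pres
import Cfsg.Agent.FPFStructure.Cover

set_option autoImplicit false
set_option linter.style.haveILetI false

/-!
`A₅` and `SL(2, 5)` by generators and relations.
-/

namespace Cfsg.Agent.FPFStructure

open Subgroup

theorem Pres.bijective {G H : Type*} [Group G] [Group H] [Finite H] {x y z : G} {m : ℕ}
    (hm : 0 < m) (h : Pres.Rels x y z m) (hgen : closure ({x, y} : Set G) = ⊤) (φ : G →* H)
    (hsurj : Function.Surjective φ) (hcard : Nat.card H = 12 * (m * 5)) :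
    Function.Bijective φ := by
  haveI := Pres.finite hm h hgen
  refine (Nat.bijective_iff_injective_and_card φ).2 ⟨?_, ?_⟩
  · have hle : Nat.card G ≤ Nat.card H := hcard ▸ Pres.card_le hm h hgen
    have heq : Nat.card G = Nat.card H := le_antisymm hle (Nat.card_le_card_of_surjective φ hsurj)
    exact ((Nat.bijective_iff_surjective_and_card φ).2 ⟨hsurj, heq⟩).1
  · exact le_antisymm (hcard ▸ Pres.card_le hm h hgen) (Nat.card_le_card_of_surjective φ hsurj)

/-- The relations of the double cover. -/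
def rels120 : Set (FreeGroup (Fin 3)) :=
  {FreeGroup.of (0 : Fin 3) ^ 3, FreeGroup.of (1 : Fin 3) ^ 5, FreeGroup.of (2 : Fin 3) ^ 2,
    (FreeGroup.of (2 : Fin 3))⁻¹ * FreeGroup.of 0 * FreeGroup.of 2 * (FreeGroup.of (0 : Fin 3))⁻¹,
    (FreeGroup.of (2 : Fin 3))⁻¹ * FreeGroup.of 1 * FreeGroup.of 2 * (FreeGroup.of (1 : Fin 3))⁻¹,
    (FreeGroup.of (0 : Fin 3) * FreeGroup.of 1) ^ 2 * (FreeGroup.of (2 : Fin 3))⁻¹}

/-- The presented double cover. -/
abbrev P120 := PresentedGroup rels120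

theorem exists_equiv_P120 {H : Type*} [Group H] [Finite H] {x y z : H} (h : Pres.Rels x y z 2)
    (hgen : closure ({x, y} : Set H) = ⊤) (hcard : Nat.card H = 120) :
    Nonempty (P120 ≃* H) := by
  let f : Fin 3 → H := ![x, y, z]
  have hrel : ∀ r ∈ rels120, FreeGroup.lift f r = 1 := by
    rintro r (rfl | rfl | rfl | rfl | rfl | rfl) <;>
      simp only [map_mul, map_pow, map_inv, FreeGroup.lift_apply_of, f, Matrix.cons_val]
    · simpa [pow_succ] using h.cube
    · simpa [pow_succ] using h.five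
    · exact h.zm
    · rw [mul_assoc z⁻¹ x z, ← h.zx, inv_mul_cancel_left, mul_inv_cancel]
    · rw [mul_assoc z⁻¹ y z, ← h.zy, inv_mul_cancel_left, mul_inv_cancel]
    · rw [pow_two, h.sq, mul_inv_cancel]
  let φ : P120 →* H := PresentedGroup.toGroup hrel
  let a : Fin 3 → P120 := PresentedGroup.of
  have hr : ∀ r ∈ rels120, PresentedGroup.mk rels120 r = 1 := fun r hr =>
    PresentedGroup.one_of_mem hr
  have h1 := hr (FreeGroup.of (0 : Fin 3) ^ 3) (by simp [rels120])
  have h2 := hr (FreeGroup.of (1 : Fin 3) ^ 5) (by simp [rels120])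
  have h3 := hr (FreeGroup.of (2 : Fin 3) ^ 2) (by simp [rels120])
  have h4 := hr ((FreeGroup.of (2 : Fin 3))⁻¹ * FreeGroup.of 0 * FreeGroup.of 2 *
    (FreeGroup.of (0 : Fin 3))⁻¹) (by simp [rels120])
  have h5 := hr ((FreeGroup.of (2 : Fin 3))⁻¹ * FreeGroup.of 1 * FreeGroup.of 2 *
    (FreeGroup.of (1 : Fin 3))⁻¹) (by simp [rels120])
  have h6 := hr ((FreeGroup.of (0 : Fin 3) * FreeGroup.of 1) ^ 2 * (FreeGroup.of (2 : Fin 3))⁻¹)
    (by simp [rels120])
  simp only [map_mul, map_pow, map_inv] at h1 h2 h3 h4 h5 h6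
  have hR : Pres.Rels (a 0) (a 1) (a 2) 2 := by
    refine ⟨?_, ?_, ?_, ?_, ?_, h3⟩
    · rw [mul_assoc, ← pow_three]; exact h1
    · have e : a 1 ^ 5 = 1 := h2
      simpa [pow_succ] using e
    · have e : (a 2)⁻¹ * a 0 * a 2 = a 0 := mul_inv_eq_one.1 h4
      calc a 2 * a 0 = a 2 * ((a 2)⁻¹ * a 0 * a 2) := by rw [e]
        _ = a 0 * a 2 := by group
    · have e : (a 2)⁻¹ * a 1 * a 2 = a 1 := mul_inv_eq_one.1 h5
      calc a 2 * a 1 = a 2 * ((a 2)⁻¹ * a 1 * a 2) := by rw [e]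
        _ = a 1 * a 2 := by group
    · have e : (a 0 * a 1) ^ 2 = a 2 := mul_inv_eq_one.1 h6
      rwa [pow_two] at e
  have hgenP : closure ({a 0, a 1} : Set P120) = ⊤ := by
    refine top_unique ((PresentedGroup.closure_range_of rels120).ge.trans ((closure_le _).2 ?_))
    rintro _ ⟨i, rfl⟩
    fin_cases i
    · exact subset_closure (Or.inl rfl)
    · exact subset_closure (Or.inr rfl)
    · show a 2 ∈ closure ({a 0, a 1} : Set P120)
      rw [← hR.sq]
      exact mul_mem (mul_mem (subset_closure (Or.inl rfl)) (subset_closure (Or.inr rfl)))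
        (mul_mem (subset_closure (Or.inl rfl)) (subset_closure (Or.inr rfl)))
  have hsurj : Function.Surjective φ := by
    rw [← MonoidHom.range_eq_top]
    refine top_unique (hgen.ge.trans ((closure_le _).2 ?_))
    rintro w (rfl | rfl)
    · exact ⟨a 0, PresentedGroup.toGroup.of hrel⟩
    · exact ⟨a 1, PresentedGroup.toGroup.of hrel⟩
  exact ⟨MulEquiv.ofBijective φ (Pres.bijective two_pos hR hgenP φ hsurj hcard)⟩

theorem nonempty_P120_sl :
    Nonempty (P120 ≃* Matrix.SpecialLinearGroup (Fin 2) (ZMod 5)) :=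
  exists_equiv_P120 Pres.relsS Pres.genS Pres.card_sl25

/-- A double cover of `A₅` with one involution is `SL(2, 5)`. -/
theorem equiv_sl {G : Type*} [Group G] [Finite G] {ζ : G} (hζ : IsInv2 ζ)
    (hcen : ∀ g, ζ * g = g * ζ) (hinv : ∀ t : G, t * t = 1 → t = 1 ∨ t = ζ) (hq : IsQuot ζ 5) :
    Nonempty (G ≃* Matrix.SpecialLinearGroup (Fin 2) (ZMod 5)) := by
  obtain ⟨f, hf, hk⟩ := hq
  have hmem : f ζ = 1 := (hk ζ).2 (Or.inr rfl)
  have h3 : ∀ u v : G, (ζ * u) * (ζ * v) = u * v := fun u v => by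
    rw [hcen u, mul_assoc, ← mul_assoc ζ ζ, hζ.2, one_mul]
  have hcom : ∀ g, Commute ζ g := hcen
  -- lift the generators
  obtain ⟨x, hxc, hx⟩ : ∃ x : G, x * x * x = 1 ∧ f x = Pres.x5 := by
    obtain ⟨x, hx⟩ := hf Pres.x5
    have h' : f (x * x * x) = 1 := by rw [map_mul, map_mul, hx, Pres.rels5.cube]
    rcases (hk _).1 h' with e | e
    · exact ⟨x, e, hx⟩
    · refine ⟨ζ * x, ?_, by rw [map_mul, hmem, one_mul, hx]⟩
      rw [h3, ← mul_assoc _ ζ, ← hcen, mul_assoc, e, hζ.2]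
  obtain ⟨y, hyc, hy⟩ : ∃ y : G, y * y * y * y * y = 1 ∧ f y = Pres.y5 := by
    obtain ⟨y, hy⟩ := hf Pres.y5
    have h' : f (y * y * y * y * y) = 1 := by simp only [map_mul, hy, Pres.rels5.five]
    rcases (hk _).1 h' with e | e
    · exact ⟨y, e, hy⟩
    · refine ⟨ζ * y, ?_, by rw [map_mul, hmem, one_mul, hy]⟩
      have e5 : (ζ * y) ^ 5 = 1 := by
        rw [(hcom y).mul_pow, show ζ ^ 5 = ζ by simp [pow_succ, hζ.2]]
        rw [show y ^ 5 = y * y * y * y * y by simp [pow_succ], e, hζ.2]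
      simpa [pow_succ] using e5
  have hsq : x * y * (x * y) = ζ := by
    have h' : f (x * y * (x * y)) = 1 := by
      simp only [map_mul, hx, hy]; exact Pres.rels5.sq
    rcases (hk _).1 h' with e | e
    · exfalso
      have hne : f (x * y) ≠ 1 := by
        rw [map_mul, hx, hy]; decide +kernel
      rcases hinv _ e with e' | e'
      · exact hne ((hk _).2 (Or.inl e'))
      · exact hne ((hk _).2 (Or.inr e'))
    · exact e
  have hgen : closure ({x, y} : Set G) = ⊤ := by
    have hz : ζ ∈ closure ({x, y} : Set G) := by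
      rw [← hsq]
      exact mul_mem (mul_mem (subset_closure (Or.inl rfl)) (subset_closure (Or.inr rfl)))
        (mul_mem (subset_closure (Or.inl rfl)) (subset_closure (Or.inr rfl)))
    refine eq_top_iff.2 fun g _ => ?_
    have himg : f g ∈ (closure ({x, y} : Set G)).map f := by
      rw [MonoidHom.map_closure, Set.image_pair, hx, hy, Pres.gen5]
      exact mem_top _
    obtain ⟨k, hk', he⟩ := himg
    have : f (k⁻¹ * g) = 1 := by rw [map_mul, map_inv, he, inv_mul_cancel]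
    rcases (hk _).1 this with e | e
    · rw [← inv_mul_eq_one.1 e]; exact hk'
    · rw [show g = k * ζ by rw [← e, mul_inv_cancel_left]]; exact mul_mem hk' hz
  have hR : Pres.Rels x y ζ 2 :=
    ⟨hxc, hyc, hcen x, hcen y, hsq, by rw [pow_two, hζ.2]⟩
  have hcard : Nat.card G = 120 := by
    have h2 : Nat.card f.ker = 2 := by
      have hkz : f.ker = zpowers ζ := by
        ext g
        rw [MonoidHom.mem_ker, hk]
        refine ⟨fun hg => hg.elim (fun e => e ▸ one_mem _) (fun e => e ▸ Subgroup.mem_zpowers ζ),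
          fun hg => (hk g).1 ((zpowers_le.2 (MonoidHom.mem_ker.2 hmem) : zpowers ζ ≤ f.ker) hg)⟩
      rw [hkz, Nat.card_zpowers]
      exact orderOf_eq_prime (by rw [pow_two, hζ.2]) hζ.1
    have := card_mul_index f.ker
    rw [h2, index_ker, MonoidHom.range_eq_top.2 hf, Subgroup.card_top, Pres.card_alt5] at this
    omega
  obtain ⟨e₁⟩ := exists_equiv_P120 hR hgen hcard
  obtain ⟨e₂⟩ := nonempty_P120_sl
  exact ⟨e₁.symm.trans e₂⟩

theorem Cover.equiv_sl {A R : Type*} [Group A] [Finite A] [Ring R] {ρ : A →* R} {ζ : A}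
    (hr : Rep ρ) (hζ : IsInv2 ζ) {B : Subgroup A} (hB : Cover ζ B 5) :
    Nonempty (B ≃* Matrix.SpecialLinearGroup (Fin 2) (ZMod 5)) := by
  obtain ⟨hz, f, hf, hk⟩ := hB
  refine FPFStructure.equiv_sl (ζ := ⟨ζ, hz⟩) ⟨fun h => hζ.1 (congrArg Subtype.val h), Subtype.ext hζ.2⟩
    (fun g => Subtype.ext (hr.central hζ g)) (fun t ht => ?_) ⟨f, hf, fun g => ?_⟩
  · exact (hr.invol hζ (congrArg Subtype.val ht)).imp (fun e => Subtype.ext e) fun e => Subtype.ext e
  · rw [hk, Subtype.ext_iff, Subtype.ext_iff]; rfl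

end Cfsg.Agent.FPFStructure
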