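import Mathlib

set_option autoImplicit false
set_option maxRecDepth 100000
set_option synthInstance.maxSize 4000
set_option synthInstance.maxHeartbeats 1000000

/-!
Finite facts about elements of order three in `A₄` and `A₅`.
-/

namespace Cfsg.Agent.FPFStructure

/-- Two elements whose product is an involution. -/
def Adj1 {G : Type*} [Group G] (a b : G) : Prop := a * b ≠ 1 ∧ (a * b) * (a * b) = 1

instance {G : Type*} [Group G] [DecidableEq G] (a b : G) : Decidable (Adj1 a b) :=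
  inferInstanceAs (Decidable (_ ∧ _))

theorem a4_adj : ∀ a : alternatingGroup (Fin 4), a * a * a = 1 → ∀ b : alternatingGroup (Fin 4),
    b * b * b = 1 → a * b ≠ b * a → Adj1 a b ∨ Adj1 a (b * b) := by
  decide +kernel

theorem a5_path : ∀ a : alternatingGroup (Fin 5), a * a * a = 1 → ∀ b : alternatingGroup (Fin 5),
    b * b * b = 1 → a * b ≠ b * a →
    ∃ u : alternatingGroup (Fin 5), u * u * u = 1 ∧ u ≠ 1 ∧ Adj1 a u ∧ (Adj1 u b ∨ Adj1 u (b * b)) := by
  decide +kernel

theorem a4_no_triangle : ∀ a : alternatingGroup (Fin 4), a * a * a = 1 →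
    ∀ b : alternatingGroup (Fin 4), b * b * b = 1 → Adj1 a b →
    ∀ c : alternatingGroup (Fin 4), c * c * c = 1 → Adj1 a c → ¬ Adj1 b c := by
  decide +kernel

theorem a5_turn : ∀ a : alternatingGroup (Fin 5), a * a * a = 1 → a ≠ 1 →
    ∀ c : alternatingGroup (Fin 5), c * c * c = 1 → c ≠ 1 → Adj1 a c →
    ∀ b : alternatingGroup (Fin 5), b * b * b = 1 → b ≠ 1 → Adj1 a b →
    b = c ∨ b = a * c * (a * a) ∨ b = a * a * c * a ∨
      Adj1 c b ∨ Adj1 c (a * b * (a * a)) ∨ Adj1 c (a * a * b * a) := by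
  decide +kernel

theorem a5_star : ∀ a : alternatingGroup (Fin 5), a * a * a = 1 → a ≠ 1 →
    ∃ c : alternatingGroup (Fin 5), c * c * c = 1 ∧ c ≠ 1 ∧ Adj1 a c ∧
      ∃ d : alternatingGroup (Fin 5), d * d * d = 1 ∧ d ≠ 1 ∧ Adj1 a d ∧ Adj1 c d := by
  decide +kernel

theorem a5_exists_cube : ∃ a : alternatingGroup (Fin 5), a * a * a = 1 ∧ a ≠ 1 := by
  decide +kernel

end Cfsg.Agent.FPFStructure
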