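import Mathlib

set_option autoImplicit false

/-!
Rings generated by three roots of `x ^ 2 + x + 1` with central anticommutators: every product of
generators has central trace.
-/

namespace Cfsg.Agent.FPFStructure.Alg

open MulOpposite

variable {R : Type*} [Ring R]

/-- Three roots of `x² + x + 1` and their anticommutators. -/
structure Setup (a b c u v s : R) : Prop where
  aa : a * a = -1 - a
  bb : b * b = -1 - b
  cc : c * c = -1 - c
  ba : b * a = u - a * b - a - b
  ca : c * a = v - a * c - a - c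
  cb : c * b = s - b * c - b - c
  au : a * u = u * a
  bu : b * u = u * b
  cu : c * u = u * c
  av : a * v = v * a
  bv : b * v = v * b
  cv : c * v = v * c
  as' : a * s = s * a
  bs : b * s = s * b
  cs : c * s = s * c
  vu : v * u = u * v
  su : s * u = u * s
  sv : s * v = v * s

section
variable {a b c u v s : R}

theorem assoc_of {p q r : R} (h : p * q = r) (x : R) : p * (q * x) = r * x := by
  rw [← mul_assoc, h]

/-- The combination of the eight monomials. -/
def comb (a b c : R) (z : Fin 8 → R) : R :=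
  z 0 + z 1 * a + z 2 * b + z 3 * c + z 4 * (a * b) + z 5 * (a * c) + z 6 * (b * c) +
    z 7 * (a * (b * c))

/-- Coefficients after multiplying by the first generator. -/
def stepA (u v : R) (z : Fin 8 → R) : Fin 8 → R :=
  ![-(z 1) + z 2 * u + z 3 * v + z 4 + z 5 - z 6 * u - z 7,
    z 0 - z 1 - z 2 - z 3 + (z 4 + z 4 * u) + (z 5 + z 5 * v) + z 6 - (z 7 + z 7 * u),
    -(z 2) + z 4 + (z 6 + z 6 * v) - z 7,
    -(z 3) + z 5 - z 6 * u - z 7,
    -(z 2) + z 6 + z 7 * v,
    -(z 3) + z 6 - (z 7 + z 7 * u),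
    -(z 7),
    z 6 - z 7]

/-- Coefficients after multiplying by the second generator. -/
def stepB (s : R) (z : Fin 8 → R) : Fin 8 → R :=
  ![-(z 2) + z 3 * s + z 6,
    -(z 4) + z 5 * s + z 7,
    z 0 - z 2 - z 3 + (z 6 + z 6 * s),
    -(z 3) + z 6,
    z 1 - z 4 - z 5 + (z 7 + z 7 * s),
    -(z 5) + z 7,
    -(z 3),
    -(z 5)]

/-- Coefficients after multiplying by the third generator. -/
def stepC (z : Fin 8 → R) : Fin 8 → R :=
  ![-(z 3), -(z 5), -(z 6), z 0 - z 3, -(z 7), z 1 - z 5, z 2 - z 6, z 4 - z 7]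

theorem comb_mul_a (h : Setup a b c u v s) (z : Fin 8 → R) :
    comb a b c z * a = comb a b c (stepA u v z) := by
  have e4 : a * b * a = 1 + a + u * a + b := by
    simp only [mul_assoc, mul_add, mul_sub, add_mul, sub_mul, mul_neg, neg_mul, mul_one, one_mul,
      h.ba, h.aa, assoc_of h.aa, h.au]
    abel
  have e5 : a * c * a = 1 + a + v * a + c := by
    simp only [mul_assoc, mul_add, mul_sub, add_mul, sub_mul, mul_neg, neg_mul, mul_one, one_mul,
      h.ca, h.aa, assoc_of h.aa, h.av]
    abel
  have e6 : b * c * a =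
      -u + a + b + v * b - u * c + a * b + a * c + a * (b * c) := by
    simp only [mul_assoc, mul_add, mul_sub, add_mul, sub_mul, mul_neg, neg_mul, mul_one, one_mul,
      h.ca, h.ba, assoc_of h.ba, h.bv]
    abel
  have e7 : a * (b * c * a) =
      -1 - a - u * a - b - c + v * (a * b) - (a * c + u * (a * c)) - b * c - a * (b * c) := by
    simp only [mul_assoc, mul_add, mul_sub, add_mul, sub_mul, mul_neg, neg_mul, mul_one, one_mul,
      h.ca, h.ba, assoc_of h.ba, h.bv, h.aa, assoc_of h.aa, h.au, assoc_of h.au, assoc_of h.av]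
    abel
  simp only [comb, stepA, Matrix.cons_val, add_mul, mul_assoc]
  rw [← mul_assoc a b a, ← mul_assoc a c a, ← mul_assoc b c a, e4, e5, e7, e6, h.ba, h.ca, h.aa]
  simp only [mul_add, mul_sub, sub_mul, add_mul, mul_neg, neg_mul, mul_one, mul_assoc]
  abel

theorem comb_mul_b (h : Setup a b c u v s) (z : Fin 8 → R) :
    comb a b c z * b = comb a b c (stepB s z) := by
  have e6 : b * c * b = 1 + b + s * b + c := by
    simp only [mul_assoc, mul_add, mul_sub, add_mul, sub_mul, mul_neg, neg_mul, mul_one, one_mul,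
      h.cb, h.bb, assoc_of h.bb, h.bs]
    abel
  have e5 : a * c * b = s * a - a * b - a * c - a * (b * c) := by
    simp only [mul_assoc, mul_add, mul_sub, h.cb, h.as']
    abel
  have e7 : a * (b * c * b) = a + a * b + s * (a * b) + a * c := by
    rw [e6]
    simp only [mul_add, mul_one, assoc_of h.as', mul_assoc]
  simp only [comb, stepB, Matrix.cons_val, add_mul, mul_assoc]
  rw [← mul_assoc a c b, ← mul_assoc b c b, e5, e7, e6, h.cb, h.bb]
  simp only [mul_add, mul_sub, sub_mul, add_mul, mul_neg, neg_mul, mul_one, mul_assoc]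
  abel

theorem comb_mul_c (h : Setup a b c u v s) (z : Fin 8 → R) :
    comb a b c z * c = comb a b c (stepC z) := by
  simp only [comb, stepC, Matrix.cons_val, add_mul, mul_assoc, h.cc]
  simp only [mul_add, mul_sub, sub_mul, add_mul, mul_neg, neg_mul, mul_one, mul_assoc]
  abel

theorem Setup.op (h : Setup a b c u v s) :
    Setup (op (-1 - a)) (op (-1 - b)) (op (-1 - c)) (op u) (op v) (op s) := by
  refine ⟨?_, ?_, ?_, ?_, ?_, ?_, ?_, ?_, ?_, ?_, ?_, ?_, ?_, ?_, ?_, ?_, ?_, ?_⟩ <;>
    apply unop_injective <;>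
    simp only [unop_mul, unop_op, unop_sub, unop_neg, unop_one, mul_sub, sub_mul, mul_neg, neg_mul,
      mul_one, one_mul, h.aa, h.bb, h.cc, h.au, h.bu, h.cu, h.av, h.bv, h.cv, h.as', h.bs, h.cs,
      h.vu, h.su, h.sv, h.ba, h.ca, h.cb] <;> abel

/-- `x` and its formal inverse have the same coefficients. -/
def Good (a b c x x' : R) : Prop :=
  ∃ z : Fin 8 → R, (∀ i, Commute (z i) a ∧ Commute (z i) b ∧ Commute (z i) c) ∧
    x = comb a b c z ∧ op x' = comb (op (-1 - a)) (op (-1 - b)) (op (-1 - c)) (fun i => op (z i))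

theorem good_one : Good a b c 1 1 := by
  refine ⟨![1, 0, 0, 0, 0, 0, 0, 0], fun i => ?_, ?_, ?_⟩
  · fin_cases i <;> simp
  · simp [comb]
  · simp [comb]

theorem good_neg {x x' : R} (hg : Good a b c x x') : Good a b c (-x) (-x') := by
  obtain ⟨z, hz, hx, hx'⟩ := hg
  refine ⟨fun i => -(z i), fun i => ⟨(hz i).1.neg_left, (hz i).2.1.neg_left, (hz i).2.2.neg_left⟩,
    ?_, ?_⟩
  · rw [hx]; simp only [comb, neg_mul]; abel
  · rw [op_neg, hx']; simp only [comb, op_neg, neg_mul]; abel

theorem Setup.comm_scalar (h : Setup a b c u v s) {z w : R}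
    (hz : Commute z a ∧ Commute z b ∧ Commute z c) (hw : w = u ∨ w = v ∨ w = s) :
    Commute z w ∧ Commute (z * w) a ∧ Commute (z * w) b ∧ Commute (z * w) c := by
  have hzu : Commute z u := by
    have : u = b * a + a * b + a + b := by rw [h.ba]; abel
    rw [this]
    exact (((hz.2.1.mul_right hz.1).add_right (hz.1.mul_right hz.2.1)).add_right hz.1).add_right
      hz.2.1
  have hzv : Commute z v := by
    have : v = c * a + a * c + a + c := by rw [h.ca]; abel
    rw [this]
    exact (((hz.2.2.mul_right hz.1).add_right (hz.1.mul_right hz.2.2)).add_right hz.1).add_right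
      hz.2.2
  have hzs : Commute z s := by
    have : s = c * b + b * c + b + c := by rw [h.cb]; abel
    rw [this]
    exact (((hz.2.2.mul_right hz.2.1).add_right (hz.2.1.mul_right hz.2.2)).add_right
      hz.2.1).add_right hz.2.2
  rcases hw with rfl | rfl | rfl
  · exact ⟨hzu, hz.1.mul_left (Commute.symm h.au), hz.2.1.mul_left (Commute.symm h.bu),
      hz.2.2.mul_left (Commute.symm h.cu)⟩
  · exact ⟨hzv, hz.1.mul_left (Commute.symm h.av), hz.2.1.mul_left (Commute.symm h.bv),
      hz.2.2.mul_left (Commute.symm h.cv)⟩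
  · exact ⟨hzs, hz.1.mul_left (Commute.symm h.as'), hz.2.1.mul_left (Commute.symm h.bs),
      hz.2.2.mul_left (Commute.symm h.cs)⟩

theorem good_mul (h : Setup a b c u v s) {x x' g g' : R} (hg : Good a b c x x')
    (hgen : (g = a ∧ g' = -1 - a) ∨ (g = b ∧ g' = -1 - b) ∨ (g = c ∧ g' = -1 - c)) :
    Good a b c (x * g) (g' * x') := by
  obtain ⟨z, hz, hx, hx'⟩ := hg
  have hu := fun i => h.comm_scalar (hz i) (Or.inl rfl)
  have hv := fun i => h.comm_scalar (hz i) (Or.inr (Or.inl rfl))
  have hs := fun i => h.comm_scalar (hz i) (Or.inr (Or.inr rfl))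
  rcases hgen with ⟨rfl, rfl⟩ | ⟨rfl, rfl⟩ | ⟨rfl, rfl⟩
  · refine ⟨stepA u v z, ?_, by rw [hx, comb_mul_a h], ?_⟩
    · have q : ∀ y : R, (∀ i, Commute (z i) y) → (∀ i, Commute (z i * u) y) →
          (∀ i, Commute (z i * v) y) → ∀ i, Commute (stepA u v z i) y := by
        intro y h0 h1 h2 i
        fin_cases i <;> simp only [stepA, Matrix.cons_val] <;>
          repeat' first
            | apply Commute.add_left | apply Commute.sub_left | apply Commute.neg_left
            | exact h0 _ | exact h1 _ | exact h2 _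
      exact fun i => ⟨q _ (fun j => (hz j).1) (fun j => (hu j).2.1) (fun j => (hv j).2.1) i,
        q _ (fun j => (hz j).2.1) (fun j => (hu j).2.2.1) (fun j => (hv j).2.2.1) i,
        q _ (fun j => (hz j).2.2) (fun j => (hu j).2.2.2) (fun j => (hv j).2.2.2) i⟩
    · rw [op_mul, hx', comb_mul_a h.op]
      congr 1
      funext i
      apply unop_injective
      fin_cases i <;>
        simp [stepA, unop_mul, (hu _).1.eq, (hv _).1.eq]
  · refine ⟨stepB s z, ?_, by rw [hx, comb_mul_b h], ?_⟩
    · have q : ∀ y : R, (∀ i, Commute (z i) y) → (∀ i, Commute (z i * s) y) →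
          ∀ i, Commute (stepB s z i) y := by
        intro y h0 h2 i
        fin_cases i <;> simp only [stepB, Matrix.cons_val] <;>
          repeat' first
            | apply Commute.add_left | apply Commute.sub_left | apply Commute.neg_left
            | exact h0 _ | exact h2 _
      exact fun i => ⟨q _ (fun j => (hz j).1) (fun j => (hs j).2.1) i,
        q _ (fun j => (hz j).2.1) (fun j => (hs j).2.2.1) i,
        q _ (fun j => (hz j).2.2) (fun j => (hs j).2.2.2) i⟩
    · rw [op_mul, hx', comb_mul_b h.op]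
      congr 1
      funext i
      apply unop_injective
      fin_cases i <;> simp [stepB, unop_mul, (hs _).1.eq]
  · refine ⟨stepC z, ?_, by rw [hx, comb_mul_c h], ?_⟩
    · have q : ∀ y : R, (∀ i, Commute (z i) y) → ∀ i, Commute (stepC z i) y := by
        intro y h0 i
        fin_cases i <;> simp only [stepC, Matrix.cons_val] <;>
          repeat' first | apply Commute.sub_left | apply Commute.neg_left | exact h0 _
      exact fun i => ⟨q _ (fun j => (hz j).1) i, q _ (fun j => (hz j).2.1) i,
        q _ (fun j => (hz j).2.2) i⟩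
    · rw [op_mul, hx', comb_mul_c h.op]
      congr 1
      funext i
      apply unop_injective
      fin_cases i <;> simp [stepC]

/-- The trace of the longest monomial. -/
theorem trace_abc (h : Setup a b c u v s) :
    a * (b * c) + (-1 - c) * ((-1 - b) * (-1 - a)) =
      a * (b * c) + a * (b * c) + a * b + a * c + b * c + b + v * b - s * a - u * c - u - s - 1 := by
  simp only [mul_assoc, mul_add, mul_sub, add_mul, sub_mul, mul_neg, neg_mul, mul_one, one_mul,
    h.ba, h.ca, h.cb, h.cu, h.bs, h.bv, h.as', assoc_of h.ca, assoc_of h.cb]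
  abel

theorem trace_abc_comm (h : Setup a b c u v s) {y : R} (hy : y = a ∨ y = b ∨ y = c) :
    Commute y (a * (b * c) + (-1 - c) * ((-1 - b) * (-1 - a))) := by
  rw [trace_abc h, commute_iff_eq]
  rcases hy with rfl | rfl | rfl <;>
  · simp only [mul_assoc, mul_add, mul_sub, add_mul, sub_mul, mul_neg, neg_mul, mul_one, one_mul,
      h.aa, h.bb, h.cc, h.ba, h.ca, h.cb, h.au, h.bu, h.cu, h.av, h.bv, h.cv, h.as', h.bs, h.cs,
      h.vu, h.su, h.sv,
      assoc_of h.aa, assoc_of h.bb, assoc_of h.cc, assoc_of h.ba, assoc_of h.ca, assoc_of h.cb,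
      assoc_of h.au, assoc_of h.bu, assoc_of h.cu, assoc_of h.av, assoc_of h.bv, assoc_of h.cv,
      assoc_of h.as', assoc_of h.bs, assoc_of h.cs, assoc_of h.vu, assoc_of h.su, assoc_of h.sv]
    abel

theorem trace_comm (h : Setup a b c u v s) {x x' : R} (hg : Good a b c x x') {y : R}
    (hy : y = a ∨ y = b ∨ y = c) : Commute y (x + x') := by
  obtain ⟨z, hz, hx, hx'⟩ := hg
  have hzy : ∀ i, Commute y (z i) := fun i => by
    rcases hy with rfl | rfl | rfl
    exacts [(hz i).1.symm, (hz i).2.1.symm, (hz i).2.2.symm]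
  have hA : ∀ i, Commute (z i) (-1 - a) ∧ Commute (z i) (-1 - b) ∧ Commute (z i) (-1 - c) :=
    fun i => ⟨(Commute.one_right _).neg_right.sub_right (hz i).1,
      (Commute.one_right _).neg_right.sub_right (hz i).2.1,
      (Commute.one_right _).neg_right.sub_right (hz i).2.2⟩
  have hx'' : x' = z 0 + z 1 * (-1 - a) + z 2 * (-1 - b) + z 3 * (-1 - c) +
      z 4 * ((-1 - b) * (-1 - a)) + z 5 * ((-1 - c) * (-1 - a)) + z 6 * ((-1 - c) * (-1 - b)) +
      z 7 * ((-1 - c) * ((-1 - b) * (-1 - a))) := by
    have := congrArg unop hx'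
    simp only [comb, unop_add, unop_mul, unop_op, mul_assoc] at this
    rw [this, (hA 1).1.eq, (hA 2).2.1.eq, (hA 3).2.2.eq,
      ((hA 4).2.1.mul_right (hA 4).1).eq, ((hA 5).2.2.mul_right (hA 5).1).eq,
      ((hA 6).2.2.mul_right (hA 6).2.1).eq,
      ((hA 7).2.2.mul_right ((hA 7).2.1.mul_right (hA 7).1)).eq]
    simp only [mul_assoc]
  have t4 : a * b + (-1 - b) * (-1 - a) = 1 + u := by
    simp only [mul_sub, sub_mul, mul_neg, neg_mul, mul_one, one_mul, h.ba]; abel
  have t5 : a * c + (-1 - c) * (-1 - a) = 1 + v := by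
    simp only [mul_sub, sub_mul, mul_neg, neg_mul, mul_one, one_mul, h.ca]; abel
  have t6 : b * c + (-1 - c) * (-1 - b) = 1 + s := by
    simp only [mul_sub, sub_mul, mul_neg, neg_mul, mul_one, one_mul, h.cb]; abel
  have e : x + x' = (z 0 + z 0) + z 1 * (a + (-1 - a)) + z 2 * (b + (-1 - b)) +
      z 3 * (c + (-1 - c)) + z 4 * (a * b + (-1 - b) * (-1 - a)) +
      z 5 * (a * c + (-1 - c) * (-1 - a)) + z 6 * (b * c + (-1 - c) * (-1 - b)) +
      z 7 * (a * (b * c) + (-1 - c) * ((-1 - b) * (-1 - a))) := by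
    rw [hx, hx'', comb]
    simp only [mul_add]
    abel
  have hyw : Commute y u ∧ Commute y v ∧ Commute y s := by
    rcases hy with rfl | rfl | rfl
    exacts [⟨h.au, h.av, h.as'⟩, ⟨h.bu, h.bv, h.bs⟩, ⟨h.cu, h.cv, h.cs⟩]
  have h1 : ∀ w : R, Commute y (w + (-1 - w)) := fun w => by
    rw [show w + (-1 - w) = -1 by abel]; exact (Commute.one_right y).neg_right
  rw [e, t4, t5, t6]
  refine (((((((((hzy 0).add_right (hzy 0)).add_right ((hzy 1).mul_right (h1 a))).add_right
    ((hzy 2).mul_right (h1 b))).add_right ((hzy 3).mul_right (h1 c))).add_right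
    ((hzy 4).mul_right ((Commute.one_right y).add_right hyw.1))).add_right
    ((hzy 5).mul_right ((Commute.one_right y).add_right hyw.2.1))).add_right
    ((hzy 6).mul_right ((Commute.one_right y).add_right hyw.2.2))).add_right
    ((hzy 7).mul_right (trace_abc_comm h hy)))

end

/-- If `u` commutes with `c` and `v` with `b`, then `s` commutes with `a`. -/
theorem comm_third {a b c u v s : R} (ha : b * a = u - a * b - a - b) (hc : c * a = v - a * c - a - c)
    (hs : c * b = s - b * c - b - c) (huc : c * u = u * c) (hvb : b * v = v * b) :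
    a * s = s * a := by
  have es : s = c * b + b * c + b + c := by rw [hs]; abel
  rw [es]
  have e1 : a * b = u - b * a - a - b := by rw [ha]; abel
  have e2 : a * c = v - c * a - a - c := by rw [hc]; abel
  simp only [mul_add, add_mul, ← mul_assoc, e1, e2, sub_mul]
  simp only [mul_assoc, e1, e2, mul_sub, huc, hvb]
  abel

end Cfsg.Agent.FPFStructure.Alg
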