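import Cfsg.Agent.FPFStructure.ZassenhausMain
import Cfsg.Agent.FGS80.FPF

set_option autoImplicit false
set_option linter.style.haveILetI false

/-!
The automorphism group of a solvable Frobenius complement is solvable.
-/

namespace Cfsg.Agent.FPFStructure

universe u v

open Subgroup

theorem fc_of_isFPF {G : Type u} [Group G] [Finite G] {A V : Subgroup G}
    (h : Frobenius.IsFPF A V) (hA : A ≠ ⊥) (hV : V ≠ ⊥) :
    ∃ (L : Type) (_ : Group L) (_ : Finite L) (H : Subgroup L),
      Cfsg.IsFrobeniusComplement H ∧ Nonempty (A ≃* H) := by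
  haveI := (nontrivial_iff_ne_bot A).2 hA
  haveI := (nontrivial_iff_ne_bot V).2 hV
  let φ : A →* MulAut V := (Subgroup.normalizerMonoidHom V).comp (Subgroup.inclusion h.1)
  obtain ⟨L, hL, hL', H, hH, e, -⟩ := FGS80.exists_frobenius_of_fpf φ (fun a ha v hv => by
    refine Subtype.ext (h.eq_one_of_commute a.2 (fun e => ha (Subtype.ext e)) v.2 ?_)
    have h1 : (a : G) * v * (a : G)⁻¹ = v := congrArg Subtype.val hv
    exact mul_inv_eq_iff_eq_mul.1 h1)
  exact ⟨L, hL, hL', H, hH, e⟩

theorem isSolvable_mulAut_of_equiv {H : Type u} [Group H] {K : Type v} [Group K] (e : H ≃* K)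
    (h : Group.IsSolvable (MulAut K)) : Group.IsSolvable (MulAut H) := by
  haveI := h
  exact Group.isSolvable_of_isSolvable_injective (f := (MulAut.congr e).toMonoidHom)
    (MulAut.congr e).injective

theorem isSolvable_mulAut_cyclic {H : Type u} [Group H] [IsCyclic H] :
    Group.IsSolvable (MulAut H) := by
  obtain ⟨g, hg⟩ := IsCyclic.exists_generator (α := H)
  have key : ∀ φ : MulAut H, ∃ i : ℤ, φ g = g ^ i := fun φ =>
    (mem_zpowers_iff.1 (hg (φ g))).imp fun i hi => hi.symm
  refine Group.isSolvable_of_comm fun φ ψ => MulEquiv.ext fun x => ?_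
  obtain ⟨j, rfl⟩ := mem_zpowers_iff.1 (hg x)
  obtain ⟨i, hi⟩ := key φ
  obtain ⟨l, hl⟩ := key ψ
  rw [MulAut.mul_apply, MulAut.mul_apply, map_zpow, map_zpow, map_zpow, map_zpow]
  rw [hl, map_zpow, hi, map_zpow, hl, ← zpow_mul, ← zpow_mul, ← zpow_mul, ← zpow_mul]
  congr 1
  ring

/-- Automorphisms of an extension. -/
theorem isSolvable_mulAut_of_char {H : Type u} [Group H] (N : Subgroup H) [N.Normal]
    (hN : ∀ φ : MulAut H, N.map φ.toMonoidHom = N) (h1 : Group.IsSolvable (MulAut N))
    (h2 : Group.IsSolvable (MulAut (H ⧸ N))) : Group.IsSolvable (MulAut H) := by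
  have hmem : ∀ (φ : MulAut H) (x : H), x ∈ N → φ x ∈ N := fun φ x hx => by
    have : φ x ∈ N.map φ.toMonoidHom := mem_map_of_mem _ hx
    rwa [hN] at this
  let r : MulAut H →* MulAut N :=
    { toFun := fun φ =>
        { toFun := fun x => ⟨φ x, hmem φ x x.2⟩
          invFun := fun x => ⟨φ⁻¹ x, hmem φ⁻¹ x x.2⟩
          left_inv := fun x => Subtype.ext (by simp)
          right_inv := fun x => Subtype.ext (by simp)
          map_mul' := fun x y => Subtype.ext (map_mul φ (x : H) y) }
      map_one' := MulEquiv.ext fun x => Subtype.ext rfl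
      map_mul' := fun φ ψ => MulEquiv.ext fun x => Subtype.ext rfl }
  let q : MulAut H →* MulAut (H ⧸ N) :=
    { toFun := fun φ => QuotientGroup.congr N N φ (hN φ)
      map_one' := MulEquiv.ext fun t => by
        obtain ⟨x, rfl⟩ := QuotientGroup.mk'_surjective N t
        rfl
      map_mul' := fun φ ψ => MulEquiv.ext fun t => by
        obtain ⟨x, rfl⟩ := QuotientGroup.mk'_surjective N t
        rfl }
  haveI := h1
  haveI := h2
  let f := r.prod q
  haveI : Group.IsSolvable f.ker := by
    refine Group.isSolvable_of_comm fun φ ψ => Subtype.ext (MulEquiv.ext fun x => ?_)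
    have hfix : ∀ (χ : f.ker) (n : H), n ∈ N → (χ : MulAut H) n = n := fun χ n hn => by
      have h : r (χ : MulAut H) = 1 := congrArg Prod.fst χ.2
      exact congrArg (fun a : MulAut N => ((a ⟨n, hn⟩ : N) : H)) h
    have hdiff : ∀ χ : f.ker, x⁻¹ * (χ : MulAut H) x ∈ N := fun χ => by
      have h : q (χ : MulAut H) = 1 := congrArg Prod.snd χ.2
      have h' : QuotientGroup.mk' N ((χ : MulAut H) x) = QuotientGroup.mk' N x :=
        congrArg (fun a : MulAut (H ⧸ N) => a (QuotientGroup.mk' N x)) h
      exact QuotientGroup.eq.1 h'.symm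
    have hcomm : ∀ χ : f.ker, ∀ n ∈ N, (x⁻¹ * (χ : MulAut H) x) * n =
        n * (x⁻¹ * (χ : MulAut H) x) := by
      intro χ n hn
      have h1 := hfix χ _ ((inferInstance : N.Normal).conj_mem n hn x)
      rw [map_mul, map_mul, map_inv, hfix χ n hn] at h1
      calc (x⁻¹ * (χ : MulAut H) x) * n
          = x⁻¹ * ((χ : MulAut H) x * n * ((χ : MulAut H) x)⁻¹) * (χ : MulAut H) x := by group
        _ = _ := by rw [h1]; group
    show (φ : MulAut H) ((ψ : MulAut H) x) = (ψ : MulAut H) ((φ : MulAut H) x)
    have e : ∀ χ χ' : f.ker, (χ : MulAut H) ((χ' : MulAut H) x) =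
        x * ((x⁻¹ * (χ : MulAut H) x) * (x⁻¹ * (χ' : MulAut H) x)) := fun χ χ' => by
      conv_lhs => rw [show (χ' : MulAut H) x = x * (x⁻¹ * (χ' : MulAut H) x) by group]
      rw [map_mul, hfix χ _ (hdiff χ')]
      group
    rw [e φ ψ, e ψ φ, hcomm φ _ (hdiff ψ)]
  exact Group.isSolvable_of_ker_le_range f.ker.subtype f (by rw [range_subtype])

theorem isSolvable_mulAut_zgroup {H : Type u} [Group H] [Finite H] [IsZGroup H] :
    Group.IsSolvable (MulAut H) := by
  haveI : IsCyclic (commutator H) := IsZGroup.isCyclic_commutator H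
  haveI : IsCyclic (H ⧸ commutator H) := (inferInstance : IsCyclic (Abelianization H))
  exact isSolvable_mulAut_of_char (commutator H)
    (fun φ => characteristic_iff_map_eq.1 inferInstance φ)
    isSolvable_mulAut_cyclic isSolvable_mulAut_cyclic

theorem isSolvable_mulAut_d2 : Group.IsSolvable (MulAut (DihedralGroup 2)) := by
  haveI := SylowNum.isSolvable_perm_of_card_le_four (β := DihedralGroup 2)
    (by rw [DihedralGroup.nat_card])
  exact Group.isSolvable_of_isSolvable_injective (f := MulAut.toPerm (DihedralGroup 2))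
    fun φ ψ h => MulEquiv.ext fun x => Equiv.ext_iff.1 h x

theorem isSolvable_mulAut_a4 : Group.IsSolvable (MulAut (alternatingGroup (Fin 4))) := by
  haveI := SylowNum.isSolvable_perm_four
  exact Group.isSolvable_of_surjective
    (S2119.result 4 (by norm_num) (by norm_num)).surjective

theorem isSolvable_mulAut_s4 : Group.IsSolvable (MulAut (Equiv.Perm (Fin 4))) := by
  refine isSolvable_mulAut_of_char (alternatingGroup (Fin 4)) (fun φ => ?_) isSolvable_mulAut_a4 ?_
  · apply Equiv.Perm.eq_alternatingGroup_of_index_eq_two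
    rw [show ((alternatingGroup (Fin 4)).map φ.toMonoidHom).index = (alternatingGroup (Fin 4)).index from
      index_map_equiv _ φ]
    exact alternatingGroup.index_eq_two
  · haveI : IsCyclic (Equiv.Perm (Fin 4) ⧸ alternatingGroup (Fin 4)) :=
      isCyclic_of_prime_card (p := 2) (hp := ⟨Nat.prime_two⟩)
        (by rw [← index_eq_card, alternatingGroup.index_eq_two])
    exact isSolvable_mulAut_cyclic

/-- Solvable Frobenius complements have solvable automorphism group. -/
theorem isSolvable_mulAut_fc {H : Type u} [Group H] [Finite H]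
    (hFC : ∃ (L : Type) (_ : Group L) (_ : Finite L) (H' : Subgroup L),
      Cfsg.IsFrobeniusComplement H' ∧ Nonempty (H ≃* H')) (hs : Group.IsSolvable H) :
    Group.IsSolvable (MulAut H) := by
  rcases exists_quotient hFC with hZ | ⟨-, N, hn, hNZ, hsm, huniq⟩ | ⟨hns, -⟩
  · haveI := hZ
    exact isSolvable_mulAut_zgroup
  · haveI := hn
    haveI := hNZ
    refine isSolvable_mulAut_of_char N (fun φ => ?_) isSolvable_mulAut_zgroup ?_
    · refine huniq _ (hn.map φ.toMonoidHom φ.surjective) ?_ ?_
      · exact IsZGroup.of_surjective (f := φ.toMonoidHom.subgroupMap N)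
          (φ.toMonoidHom.subgroupMap_surjective N)
      · refine Small.map φ.toMonoidHom φ.surjective ?_ hsm
        rw [(MonoidHom.ker_eq_bot_iff _).2 φ.injective]
        exact bot_le
    · rcases hsm with ⟨f, hf, rfl⟩ | ⟨f, hf, rfl⟩ | ⟨f, hf, rfl⟩
      · exact isSolvable_mulAut_of_equiv (QuotientGroup.quotientKerEquivOfSurjective f hf)
          isSolvable_mulAut_d2
      · exact isSolvable_mulAut_of_equiv (QuotientGroup.quotientKerEquivOfSurjective f hf)
          isSolvable_mulAut_a4
      · exact isSolvable_mulAut_of_equiv (QuotientGroup.quotientKerEquivOfSurjective f hf)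
          isSolvable_mulAut_s4
  · exact absurd hs hns

end Cfsg.Agent.FPFStructure
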