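import Cfsg.Agent.FPFStructure.Rep
import Cfsg.Agent.FPFStructure.A5Facts
import Cfsg.Agent.S0494

set_option autoImplicit false
set_option linter.style.haveILetI false

/-!
A two-dimensional group generated by elements of order three is a double cover of `A₄` or `A₅`.
-/

namespace Cfsg.Agent.FPFStructure

universe u v

open Subgroup

/-- Modulo `⟨ζ⟩` the group is `A_n`. -/
def IsQuot {K : Type u} [Group K] (ζ : K) (n : ℕ) : Prop :=
  ∃ f : K →* alternatingGroup (Fin n), Function.Surjective f ∧ ∀ g : K, f g = 1 ↔ g = 1 ∨ g = ζ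

variable {K : Type u} [Group K] {ζ : K}

theorem orderOf_cube {x : K} (hx : x * x * x = 1) (hx1 : x ≠ 1) : orderOf x = 3 := by
  haveI := Fact.mk Nat.prime_three
  exact orderOf_eq_prime (by rw [pow_three, ← mul_assoc, hx]) hx1

theorem cube_of_orderOf {x : K} (hx : orderOf x = 3) : x * x * x = 1 ∧ x ≠ 1 := by
  refine ⟨?_, fun h => ?_⟩
  · rw [mul_assoc, ← pow_three, ← hx, pow_orderOf_eq_one]
  · rw [h, orderOf_one] at hx; omega

theorem sq_mem_of_index_le_two {C : Subgroup K} (h : C.index = 1 ∨ C.index = 2) (x : K) :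
    x * x ∈ C := by
  rcases h with h | h
  · rw [index_eq_one.1 h]; exact mem_top _
  · exact mul_self_mem_of_index_two h x

theorem TwoDim.card_sq [Finite K] (h : TwoDim ζ) : Nat.card (zpowers ζ) = 2 := by
  rw [Nat.card_zpowers]
  exact orderOf_eq_prime (by rw [pow_two, h.sq]) h.ne_one

theorem TwoDim.mem_zpowers (h : TwoDim ζ) {g : K} (hg : g ∈ zpowers ζ) : g = 1 ∨ g = ζ := by
  obtain ⟨n, rfl⟩ := mem_zpowers_iff.1 hg
  rcases Int.even_or_odd' n with ⟨m, rfl | rfl⟩
  · left; rw [zpow_mul, zpow_two, h.sq, one_zpow]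
  · right; rw [zpow_add, zpow_mul, zpow_two, h.sq, one_zpow, zpow_one, one_mul]

theorem TwoDim.ne_of_cube (h : TwoDim ζ) {x : K} (hx : x * x * x = 1) (hx1 : x ≠ 1) : x ≠ ζ := by
  intro he
  rw [he, h.sq, one_mul] at hx
  exact h.ne_one hx

/-- The groups of order 24 and 48. -/
theorem quot_four [Finite K] (h : TwoDim ζ) {x y : K} (hx : x * x * x = 1 ∧ x ≠ 1)
    (hy : y * y * y = 1 ∧ y ≠ 1) (hxy : ¬ Commute x y) {S : Set K} (hS : ∀ s ∈ S, s * s * s = 1)
    (hgen : closure (insert ζ S) = ⊤)
    (hN : Nat.card K = 24 ∨ Nat.card K = 48)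
    (hnc : ∀ k : K, k ≠ 1 → k ≠ ζ → Nat.card (centralizer ({k} : Set K)) < 24) :
    IsQuot ζ 4 := by
  classical
  haveI := Fact.mk Nat.prime_three
  haveI := Fintype.ofFinite K
  have hP3 : ∀ P : Sylow 3 K, Nat.card (P : Subgroup K) = 3 := by
    intro P
    have hf : (Nat.card K).factorization 3 = 1 := by
      have : ∀ m : ℕ, ¬ 3 ∣ m → m ≠ 0 → (3 * m).factorization 3 = 1 := fun m hm hm0 => by
        rw [Nat.factorization_mul (by norm_num) hm0, Finsupp.add_apply,
          Nat.Prime.factorization_self Nat.prime_three, Nat.factorization_eq_zero_of_not_dvd hm]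
      rcases hN with e | e <;> rw [e]
      exacts [this 8 (by norm_num) (by norm_num), this 16 (by norm_num) (by norm_num)]
    rw [P.card_eq_multiplicity, hf, pow_one]
  -- the number of Sylow 3-subgroups is four
  have hn : Nat.card (Sylow 3 K) = 4 := by
    let P : Sylow 3 K := default
    have hmod := card_sylow_modEq_one 3 K
    have hdvd : Nat.card (Sylow 3 K) ∣ Nat.card K := by
      rw [P.card_eq_index_normalizer]; exact index_dvd_card _
    have h6 : 6 ≤ Nat.card (normalizer ((P : Subgroup K) : Set K)) := by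
      have hz : zpowers ζ ≤ normalizer ((P : Subgroup K) : Set K) := by
        rw [zpowers_le]
        exact centralizer_le_normalizer _ (mem_centralizer_iff.2 fun w _ => (h.central w).symm)
      have h2 := card_dvd_of_le hz
      have h3 := card_dvd_of_le (le_normalizer (H := (P : Subgroup K)))
      rw [h.card_sq] at h2
      rw [hP3] at h3
      exact Nat.le_of_dvd Nat.card_pos ((by norm_num : Nat.Coprime 2 3).mul_dvd_of_dvd_of_dvd h2 h3)
    have hle : Nat.card (Sylow 3 K) ≤ 8 := by
      have := card_mul_index (normalizer ((P : Subgroup K) : Set K))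
      rw [show (normalizer ((P : Subgroup K) : Set K)).index = Nat.card (Sylow 3 K) from P.card_eq_index_normalizer.symm] at this
      rcases hN with e | e <;> rw [e] at this <;> nlinarith
    have hne1 : Nat.card (Sylow 3 K) ≠ 1 := by
      intro h1
      apply hxy
      haveI := (Nat.card_eq_one_iff_unique.1 h1).1
      have hm : ∀ w : K, orderOf w = 3 → w ∈ (P : Subgroup K) := by
        intro w hw
        obtain ⟨Q, hQ⟩ := (IsPGroup.of_card (p := 3) (n := 1)
          (show Nat.card (zpowers w) = 3 ^ 1 by rw [Nat.card_zpowers, hw, pow_one])).exists_le_sylow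
        rw [Subsingleton.elim P Q]
        exact hQ (mem_zpowers w)
      haveI : IsCyclic (P : Subgroup K) := isCyclic_of_prime_card (hP3 P)
      exact congrArg Subtype.val (mul_comm' (⟨x, hm x (orderOf_cube hx.1 hx.2)⟩ : (P : Subgroup K))
        ⟨y, hm y (orderOf_cube hy.1 hy.2)⟩)
    have hmem : Nat.card (Sylow 3 K) ∈ Nat.divisors 48 := by
      rw [Nat.mem_divisors]
      exact ⟨hdvd.trans (by rcases hN with e | e <;> rw [e]; norm_num), by norm_num⟩
    have hl : ∀ m ∈ Nat.divisors 48, m ≤ 8 → m % 3 = 1 → m ≠ 1 → m = 4 := by decide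
    exact hl _ hmem hle hmod hne1
  haveI : Fintype (Sylow 3 K) := Fintype.ofFinite _
  let e : Sylow 3 K ≃ Fin 4 := Finite.equivFinOfCardEq hn
  let f : K →* Equiv.Perm (Fin 4) :=
    e.permCongrHom.toMonoidHom.comp (MulAction.toPermHom K (Sylow 3 K))
  have hker : ∀ g : K, f g = 1 ↔ ∀ Q : Sylow 3 K, g ∈ normalizer ((Q : Subgroup K) : Set K) := by
    intro g
    rw [MonoidHom.comp_apply, MulEquiv.coe_toMonoidHom, MulEquiv.map_eq_one_iff]
    constructor
    · intro hg Q
      exact Sylow.smul_eq_iff_mem_normalizer.1 (Equiv.ext_iff.1 hg Q)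
    · intro hg
      exact Equiv.ext fun Q => Sylow.smul_eq_iff_mem_normalizer.2 (hg Q)
  have hcomm : ∀ g : K, f g = 1 → g = 1 ∨ g = ζ := by
    intro g hg
    set N := f.ker with hNdef
    have hN3 : ∀ n ∈ N, orderOf n ≠ 3 := by
      intro n hn h3
      -- an element of order three fixing every Sylow 3-subgroup lies in all of them
      have hall : ∀ Q : Sylow 3 K, n ∈ (Q : Subgroup K) := by
        intro Q
        have hz : IsPGroup 3 (zpowers n) :=
          IsPGroup.of_card (n := 1) (by rw [Nat.card_zpowers, h3, pow_one])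
        have h1 := hz.inf_normalizer_sylow Q
        have h2 : n ∈ zpowers n ⊓ normalizer ((Q : Subgroup K) : Set K) :=
          ⟨Subgroup.mem_zpowers n, (hker n).1 hn Q⟩
        exact (h1 ▸ h2 : n ∈ zpowers n ⊓ (Q : Subgroup K)).2
      have heq : ∀ Q : Sylow 3 K, (Q : Subgroup K) = zpowers n := fun Q =>
        (eq_of_le_of_card_ge (zpowers_le.2 (hall Q)) (by rw [hP3, Nat.card_zpowers, h3])).symm
      have : Subsingleton (Sylow 3 K) := ⟨fun Q R => Sylow.ext ((heq Q).trans (heq R).symm)⟩
      rename Nat.card (Sylow 3 K) = 4 => hn4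
      rw [Nat.card_eq_one_iff_unique.2 ⟨this, ⟨default⟩⟩] at hn4
      norm_num at hn4
    have hN3' : ¬ 3 ∣ Nat.card N := fun hd => by
      obtain ⟨n, hn⟩ := exists_prime_orderOf_dvd_card' (G := N) 3 hd
      exact hN3 n n.2 (by rwa [orderOf_coe])
    have hc : ∀ w : K, w * w * w = 1 → Commute g w := by
      intro w hw
      rcases eq_or_ne w 1 with rfl | hw1
      · exact Commute.one_right g
      obtain ⟨Q, hQ⟩ := (IsPGroup.of_card (p := 3) (n := 1)
        (show Nat.card (zpowers w) = 3 ^ 1 by
          rw [Nat.card_zpowers, orderOf_cube hw hw1, pow_one])).exists_le_sylow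
      have hwQ : w ∈ (Q : Subgroup K) := hQ (Subgroup.mem_zpowers w)
      have h1 : g * w * g⁻¹ * w⁻¹ ∈ (Q : Subgroup K) :=
        mul_mem ((mem_normalizer_iff.1 ((hker g).1 hg Q) w).1 hwQ) (inv_mem hwQ)
      have h2 : g * w * g⁻¹ * w⁻¹ ∈ N := by
        show f _ = 1
        simp [show f g = 1 from hg]
      have h3 : (Q : Subgroup K) ⊓ N = ⊥ := inf_eq_bot_of_coprime (by
        rw [hP3]; exact Nat.prime_three.coprime_iff_not_dvd.2 hN3')
      have h4 : g * w * g⁻¹ * w⁻¹ = 1 := mem_bot.1 (h3 ▸ mem_inf.2 ⟨h1, h2⟩)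
      exact mul_inv_eq_iff_eq_mul.1 (mul_inv_eq_one.1 h4)
    have hall : ∀ k : K, Commute g k := by
      intro k
      have hk : k ∈ closure (insert ζ S) := hgen ▸ mem_top k
      induction hk using closure_induction with
      | mem w hw =>
        rcases hw with rfl | hw
        exacts [(h.central g).symm, hc w (hS w hw)]
      | one => exact Commute.one_right g
      | mul a b _ _ ha hb => exact ha.mul_right hb
      | inv a _ ha => exact ha.inv_right
    by_contra hne
    rw [not_or] at hne
    have := hnc g hne.1 hne.2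
    rw [show centralizer ({g} : Set K) = ⊤ from
      eq_top_iff.2 fun k _ => mem_centralizer_singleton_iff.2 (hall k).symm.eq, card_top] at this
    rcases hN with e | e <;> omega
  have hζ : f ζ = 1 := (hker ζ).2 fun Q =>
    centralizer_le_normalizer _ (mem_centralizer_iff.2 fun w _ => (h.central w).symm)
  have halt : ∀ g, f g ∈ alternatingGroup (Fin 4) := by
    intro g
    have hg : g ∈ closure (insert ζ S) := hgen ▸ mem_top g
    induction hg using closure_induction with
    | mem w hw =>
      rcases hw with rfl | hw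
      · rw [hζ]; exact one_mem _
      · rw [Equiv.Perm.mem_alternatingGroup]
        have h1 : Equiv.Perm.sign (f w) * Equiv.Perm.sign (f w) * Equiv.Perm.sign (f w) = 1 := by
          simp only [← map_mul, hS w hw, map_one]
        rwa [Int.units_mul_self, one_mul] at h1
    | one => rw [map_one]; exact one_mem _
    | mul a b _ _ ha hb => rw [map_mul]; exact mul_mem ha hb
    | inv a _ ha => rw [map_inv]; exact inv_mem ha
  let f' : K →* alternatingGroup (Fin 4) := f.codRestrict _ halt
  have hk : ∀ g : K, f' g = 1 ↔ g = 1 ∨ g = ζ := by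
    intro g
    refine ⟨fun hg => hcomm g (congrArg Subtype.val hg), ?_⟩
    rintro (rfl | rfl)
    exacts [map_one _, Subtype.ext hζ]
  refine ⟨f', ?_, hk⟩
  rw [← MonoidHom.range_eq_top]
  refine eq_top_of_le_card _ ?_
  have hker2 : Nat.card f'.ker = 2 := by
    rw [← h.card_sq]
    congr
    ext g
    rw [MonoidHom.mem_ker, hk]
    exact ⟨fun hg => hg.elim (fun e => e ▸ one_mem _) (fun e => e ▸ Subgroup.mem_zpowers ζ),
      h.mem_zpowers⟩
  have hmul := card_mul_index f'.ker
  rw [index_ker, hker2] at hmul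
  have hA4 : Nat.card (alternatingGroup (Fin 4)) = 12 := by
    rw [nat_card_alternatingGroup]; simp [Nat.factorial]
  rw [hA4]
  rcases hN with e | e <;> omega

/-- The group of order 120. -/
theorem quot_five [Finite K] (h : TwoDim ζ) {R : Type v} [Ring R] {ρ : K →* R} (hr : Rep ρ)
    {S : Set K} (hS : ∀ s ∈ S, s * s * s = 1) (hgen : closure (insert ζ S) = ⊤)
    (hN : Nat.card K = 120)
    (hc : ∀ k : K, k ≠ 1 → k ≠ ζ →
      Nat.card (centralizer ({k} : Set K)) = 4 ∨ Nat.card (centralizer ({k} : Set K)) = 6 ∨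
        Nat.card (centralizer ({k} : Set K)) = 10)
    (hconj : ∀ k k' : K, k ≠ 1 → k ≠ ζ → k' ≠ 1 → k' ≠ ζ →
      Nat.card (centralizer ({k} : Set K)) = Nat.card (centralizer ({k'} : Set K)) →
      ∃ g : K, Commute (g * k * g⁻¹) k') :
    IsQuot ζ 5 := by
  classical
  haveI := Fact.mk (show Nat.Prime 5 by norm_num)
  haveI : (zpowers ζ).Normal := ⟨fun n hn g => by
    rcases h.mem_zpowers hn with rfl | rfl
    · simp
    · rw [← h.central g, mul_inv_cancel_right]; exact Subgroup.mem_zpowers _⟩
  have hpe : ∀ k : K, ∀ p : ℕ, p = 3 ∨ p = 5 → orderOf k = p →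
      k ≠ 1 ∧ k ≠ ζ ∧ Nat.card (centralizer ({k} : Set K)) = 2 * p := by
    intro k p hp hk
    have h1 : k ≠ 1 := fun e => by rw [e, orderOf_one] at hk; omega
    have h2 : k ≠ ζ := fun e => by
      have := orderOf_dvd_of_pow_eq_one (show ζ ^ 2 = 1 by rw [pow_two, h.sq])
      rw [← e, hk] at this
      rcases hp with rfl | rfl <;> norm_num at this
    have hd : p ∣ Nat.card (centralizer ({k} : Set K)) := by
      rw [← hk]; exact orderOf_dvd_natCard _ (mem_centralizer_singleton_iff.2 rfl)
    refine ⟨h1, h2, ?_⟩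
    rcases hp with rfl | rfl <;> rcases hc k h1 h2 with e | e | e <;> rw [e] at hd ⊢ <;> omega
  -- an element of `ζ`-coset order in a normal subgroup
  have key : ∀ N : Subgroup K, N.Normal → zpowers ζ ≤ N → N ≠ ⊤ → N = zpowers ζ := by
    intro N hNn hle hne
    have h3 : ¬ 3 ∣ Nat.card N := by
      intro hd
      haveI := Fact.mk Nat.prime_three
      obtain ⟨n, hn⟩ := exists_prime_orderOf_dvd_card' (G := N) 3 hd
      rw [← orderOf_coe] at hn
      obtain ⟨hn1, hn2, hnc⟩ := hpe n 3 (Or.inl rfl) hn
      refine hne (top_le_iff.1 (hgen.ge.trans ((closure_le _).2 ?_)))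
      rintro w (rfl | hw)
      · exact hle (Subgroup.mem_zpowers _)
      rcases eq_or_ne w 1 with rfl | hw1
      · exact one_mem _
      obtain ⟨hw1', hw2, hwc⟩ := hpe w 3 (Or.inl rfl) (orderOf_cube (hS w hw) hw1)
      obtain ⟨g, hg⟩ := hconj n w hn1 hn2 hw1' hw2 (hnc.trans hwc.symm)
      obtain ⟨hm, hm1⟩ := cube_of_orderOf hn
      have hm' : g * n * g⁻¹ * (g * n * g⁻¹) * (g * n * g⁻¹) = 1 := by
        calc _ = g * (n * n * n) * g⁻¹ := by group
          _ = 1 := by rw [hm]; group
      have hgN := hNn.conj_mem _ n.2 g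
      rcases hr.commute_cube hm' (fun e => hm1 (conj_eq_one_iff.1 e)) (hS w hw) hw1 hg with e | e
      · rw [e]; exact hgN
      · rw [e]; exact mul_mem hgN hgN
    obtain ⟨a, ha⟩ := exists_prime_orderOf_dvd_card' (G := K) 5 (by rw [hN]; norm_num)
    obtain ⟨ha1, ha2, hac⟩ := hpe a 5 (Or.inr rfl) ha
    have hdvd : Nat.card N ∣ 120 := hN ▸ card_subgroup_dvd_card N
    have h2N : 2 ∣ Nat.card N := h.card_sq ▸ card_dvd_of_le hle
    have h5 : ¬ 5 ∣ Nat.card N := by
      intro hd
      have hdiv : Nat.card N ∈ Nat.divisors 120 := Nat.mem_divisors.2 ⟨hdvd, by norm_num⟩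
      have hsmall : Nat.card N = 10 ∨ Nat.card N = 20 ∨ Nat.card N = 40 := by
        have : ∀ m ∈ Nat.divisors 120, 2 ∣ m → 5 ∣ m → ¬ 3 ∣ m → m = 10 ∨ m = 20 ∨ m = 40 := by
          decide
        exact this _ hdiv h2N hd h3
      -- all Sylow 5-subgroups lie in `N`, where there is only one
      have hu : Nat.card (Sylow 5 N) = 1 := by
        have hm := card_sylow_modEq_one 5 N
        have hd' : Nat.card (Sylow 5 N) ∣ Nat.card N := by
          rw [(default : Sylow 5 N).card_eq_index_normalizer]; exact index_dvd_card _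
        have : ∀ m ∈ Nat.divisors 40, m % 5 = 1 → m = 1 := by decide
        refine this _ (Nat.mem_divisors.2 ⟨hd'.trans ?_, by norm_num⟩) hm
        rcases hsmall with e | e | e <;> rw [e] <;> norm_num
      obtain ⟨P⟩ : Nonempty (Sylow 5 N) := inferInstance
      haveI : Subsingleton (Sylow 5 N) := (Nat.card_eq_one_iff_unique.1 hu).1
      haveI : (P : Subgroup N).Normal := Sylow.normal_of_subsingleton P
      haveI : (P : Subgroup N).Characteristic := Sylow.characteristic_of_normal P inferInstance
      have hM : ((P : Subgroup N).map N.subtype).Normal := inferInstance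
      set M := (P : Subgroup N).map N.subtype with hMdef
      have hMc : Nat.card M = 5 := by
        rw [hMdef, card_map_of_injective N.subtype_injective, P.card_eq_multiplicity]
        have : (Nat.card N).factorization 5 = 1 := by
          have : ∀ m : ℕ, ¬ 5 ∣ m → m ≠ 0 → (5 * m).factorization 5 = 1 := fun m hm hm0 => by
            rw [Nat.factorization_mul (by norm_num) hm0, Finsupp.add_apply,
              Nat.Prime.factorization_self (by norm_num), Nat.factorization_eq_zero_of_not_dvd hm]
          rcases hsmall with e | e | e <;> rw [e]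
          exacts [this 2 (by norm_num) (by norm_num), this 4 (by norm_num) (by norm_num),
            this 8 (by norm_num) (by norm_num)]
        rw [this, pow_one]
      obtain ⟨m, hm⟩ := exists_prime_orderOf_dvd_card' (G := M) 5 (dvd_of_eq hMc.symm)
      rw [← orderOf_coe] at hm
      obtain ⟨hm1, hm2, hmc⟩ := hpe m 5 (Or.inr rfl) hm
      -- the centraliser of `m` has index at most four
      have hbound : ∀ g : K, g * m * g⁻¹ = m ∨ g * m * g⁻¹ = (m : K)⁻¹ := by
        intro g
        refine h.conj m hm1 hm2 g ?_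
        haveI : IsCyclic M := isCyclic_of_prime_card hMc
        exact congrArg Subtype.val (mul_comm'
          (⟨_, hM.conj_mem _ m.2 g⟩ : M) m)
      have hcov : ∀ g₁ g₂ : K, g₁ * m * g₁⁻¹ = g₂ * m * g₂⁻¹ →
          g₁⁻¹ * g₂ ∈ centralizer ({(m : K)} : Set K) := by
        intro g₁ g₂ he
        rw [mem_centralizer_singleton_iff]
        calc g₁⁻¹ * g₂ * m = g₁⁻¹ * (g₂ * m * g₂⁻¹) * g₂ := by group
          _ = g₁⁻¹ * (g₁ * m * g₁⁻¹) * g₂ := by rw [he]
          _ = _ := by group
      have hle2 : (centralizer ({(m : K)} : Set K)).index ≤ 2 := by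
        haveI := Fintype.ofFinite (K ⧸ centralizer ({(m : K)} : Set K))
        rw [index_eq_card]
        refine le_trans (Nat.card_le_card_of_injective
          (fun q : K ⧸ centralizer ({(m : K)} : Set K) =>
            decide (q.out * m * q.out⁻¹ = m)) ?_) (by simp)
        intro q₁ q₂ he
        rw [← Quotient.out_eq q₁, ← Quotient.out_eq q₂]
        refine (QuotientGroup.eq.2 ?_ : (QuotientGroup.mk q₁.out : K ⧸ _) = QuotientGroup.mk q₂.out)
        apply hcov
        simp only [decide_eq_decide] at he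
        rcases hbound q₁.out with e1 | e1 <;> rcases hbound q₂.out with e2 | e2
        · rw [e1, e2]
        · rw [e1, he.1 e1]
        · rw [e2, he.2 e2]
        · rw [e1, e2]
      have := card_mul_index (centralizer ({(m : K)} : Set K))
      rw [hmc, hN] at this
      omega
    -- a 5-element fixes a point of `N` outside `⟨ζ⟩`
    by_contra hneZ
    have hdiv : Nat.card N ∈ Nat.divisors 120 := Nat.mem_divisors.2 ⟨hdvd, by norm_num⟩
    have h48 : Nat.card N = 4 ∨ Nat.card N = 8 := by
      have : ∀ m ∈ Nat.divisors 120, 2 ∣ m → ¬ 5 ∣ m → ¬ 3 ∣ m → m = 2 ∨ m = 4 ∨ m = 8 := by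
        decide
      rcases this _ hdiv h2N h5 h3 with e | e | e
      · exact absurd (eq_of_le_of_card_ge hle (by rw [h.card_sq, e])).symm hneZ
      · exact Or.inl e
      · exact Or.inr e
    letI : MulAction (zpowers a) N := MulAction.compHom N
      ((MulAut.conjNormal (H := N)).comp (zpowers a).subtype)
    have hmod := (IsPGroup.of_card (p := 5) (n := 1)
      (show Nat.card (zpowers a) = 5 ^ 1 by rw [Nat.card_zpowers, ha, pow_one])).card_modEq_card_fixedPoints N
    have hfix : ∀ n : N, n ∈ MulAction.fixedPoints (zpowers a) N → (n : K) = 1 ∨ (n : K) = ζ := by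
      intro n hn
      have h1 : a * n * a⁻¹ = n := congrArg Subtype.val (hn ⟨a, Subgroup.mem_zpowers a⟩)
      have h2 : (n : K) ∈ centralizer ({a} : Set K) :=
        mem_centralizer_singleton_iff.2 (mul_inv_eq_iff_eq_mul.1 h1).symm
      have h3' := orderOf_dvd_natCard _ h2
      rw [hac] at h3'
      have h4 : orderOf (n : K) ∣ 8 := by
        refine (orderOf_dvd_natCard N n.2).trans ?_
        rcases h48 with e | e <;> rw [e]; norm_num
      have h5' : orderOf (n : K) ∣ 2 := by
        have := Nat.dvd_gcd h3' h4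
        norm_num at this
        simpa using this
      refine h.invol _ ?_
      rw [← pow_two]
      exact orderOf_dvd_iff_pow_eq_one.1 h5'
    have hle2 : Nat.card (MulAction.fixedPoints (zpowers a) N) ≤ 2 := by
      refine le_trans (Nat.card_le_card_of_injective
        (fun n : MulAction.fixedPoints (zpowers a) N => decide (((n : N) : K) = 1)) ?_) (by simp)
      intro n₁ n₂ he
      simp only [decide_eq_decide] at he
      refine Subtype.ext (Subtype.ext ?_)
      rcases hfix n₁ n₁.2 with e1 | e1 <;> rcases hfix n₂ n₂.2 with e2 | e2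
      · rw [e1, e2]
      · rw [e1, he.1 e1]
      · rw [e2, he.2 e2]
      · rw [e1, e2]
    rw [Nat.ModEq] at hmod
    rcases h48 with e | e <;> rw [e] at hmod <;> omega
  set Q := K ⧸ zpowers ζ
  have hQ : Nat.card Q = 60 := by
    have := card_mul_index (zpowers ζ)
    rw [h.card_sq, hN, index_eq_card] at this
    show Nat.card (K ⧸ zpowers ζ) = 60
    omega
  haveI : Nontrivial Q := Finite.one_lt_card_iff_nontrivial.1 (by omega)
  haveI : IsSimpleGroup Q := ⟨fun N hNn => by
    have hle : zpowers ζ ≤ N.comap (QuotientGroup.mk' (zpowers ζ)) := by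
      conv_lhs => rw [← QuotientGroup.ker_mk' (zpowers ζ)]
      exact MonoidHom.ker_le_comap _ N
    have hmap := map_comap_eq_self_of_surjective (QuotientGroup.mk'_surjective (zpowers ζ)) N
    rcases eq_or_ne (N.comap (QuotientGroup.mk' (zpowers ζ))) ⊤ with e | e
    · right; rw [← hmap, e, map_top_of_surjective _ (QuotientGroup.mk'_surjective _)]
    · left
      rw [← hmap, key _ inferInstance hle e]
      exact (Subgroup.map_eq_bot_iff _).2 (by rw [QuotientGroup.ker_mk'])⟩
  obtain ⟨e⟩ := S0494.result hQ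
  refine ⟨e.toMonoidHom.comp (QuotientGroup.mk' (zpowers ζ)),
    e.surjective.comp (QuotientGroup.mk'_surjective _), fun g => ?_⟩
  rw [MonoidHom.comp_apply, MulEquiv.coe_toMonoidHom, MulEquiv.map_eq_one_iff,
    QuotientGroup.mk'_apply, QuotientGroup.eq_one_iff]
  exact ⟨h.mem_zpowers, fun hg => hg.elim (fun e => e ▸ one_mem _)
    (fun e => e ▸ Subgroup.mem_zpowers ζ)⟩

/-- **Classification**: a two-dimensional group generated by elements of order three, two of
which do not commute. -/
theorem classify [Finite K] (h : TwoDim ζ) {R : Type v} [Ring R] {ρ : K →* R} (hr : Rep ρ)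
    {x y : K} (hx : x * x * x = 1 ∧ x ≠ 1) (hy : y * y * y = 1 ∧ y ≠ 1) (hxy : ¬ Commute x y)
    {S : Set K} (hS : ∀ s ∈ S, s * s * s = 1) (hgen : closure (insert ζ S) = ⊤) :
    IsQuot ζ 4 ∨ IsQuot ζ 5 := by
  rcases h.order ⟨x, hx.2, h.ne_of_cube hx.1 hx.2⟩ with ⟨k, hk1, hk2, hk⟩ | ⟨hN, hc⟩ | ⟨hN, hc⟩ |
    ⟨hN, hc, hconj⟩
  · exfalso
    have hi : (centralizer ({k} : Set K)).index = 1 ∨ (centralizer ({k} : Set K)).index = 2 := by
      have hm := card_mul_index (centralizer ({k} : Set K))
      have hpos : 0 < Nat.card (centralizer ({k} : Set K)) := Nat.card_pos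
      rcases hk with e | e <;> rw [← e] at hm
      · left; nlinarith
      · right; nlinarith
    have hmem : ∀ w : K, w * w * w = 1 → w ∈ centralizer ({k} : Set K) := by
      intro w hw
      have := sq_mem_of_index_le_two hi (w * w)
      have e : w * w * (w * w) = w := by rw [← mul_assoc, hw, one_mul]
      rwa [e] at this
    exact hxy (h.comm k hk1 hk2 x y (mem_cent.1 (hmem x hx.1)) (mem_cent.1 (hmem y hy.1)))
  · exact Or.inl (quot_four h hx hy hxy hS hgen (Or.inl hN)
      (fun k h1 h2 => by rcases hc k h1 h2 with e | e <;> omega))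
  · exact Or.inl (quot_four h hx hy hxy hS hgen (Or.inr hN)
      (fun k h1 h2 => by rcases hc k h1 h2 with e | e | e <;> omega))
  · exact Or.inr (quot_five h hr hS hgen hN hc hconj)

end Cfsg.Agent.FPFStructure
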