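import Mathlib

set_option autoImplicit false
set_option linter.style.haveILetI false

/-!
Finite groups whose non-central centralisers are abelian and are inverted by their normalisers
(the finite subgroups of `SL(2, F)`): the possible orders.
-/

namespace Cfsg.Agent.FPFStructure

open Subgroup

/-- `ζ` is the central involution, non-central centralisers are abelian, and conjugation inside
a centraliser is at most inversion. -/
structure TwoDim {K : Type*} [Group K] (ζ : K) : Prop where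
  ne_one : ζ ≠ 1
  sq : ζ * ζ = 1
  central : ∀ g, ζ * g = g * ζ
  invol : ∀ g : K, g * g = 1 → g = 1 ∨ g = ζ
  comm : ∀ k : K, k ≠ 1 → k ≠ ζ → ∀ a b : K, Commute a k → Commute b k → Commute a b
  conj : ∀ k : K, k ≠ 1 → k ≠ ζ → ∀ g : K, Commute (g * k * g⁻¹) k →
    g * k * g⁻¹ = k ∨ g * k * g⁻¹ = k⁻¹

theorem two_dvd_card {K : Type*} [Group K] {ζ : K} (h : TwoDim ζ) (C : Subgroup K) (hC : ζ ∈ C) :
    2 ∣ Nat.card C := by
  have : orderOf ζ = 2 := orderOf_eq_prime (by rw [pow_two]; exact h.sq) h.ne_one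
  rw [← this]
  exact Subgroup.orderOf_dvd_natCard C hC

theorem recip_le {a n : ℕ} (hn : 0 < n) (h : n ≤ a) : (1 : ℚ) / a ≤ 1 / n :=
  one_div_le_one_div_of_le (by exact_mod_cast hn) (by exact_mod_cast h)

/-- Three inertial indices two, sorted. -/
theorem triple_sorted {a b c N : ℕ} (ha : 4 ≤ a) (hab : a ≤ b) (hbc : b ≤ c) (hN0 : 0 < N)
    (ea : 2 ∣ a) (eb : 2 ∣ b) (ec : 2 ∣ c)
    (h : (1 : ℚ) / a + 1 / b + 1 / c = 1 / 2 + 2 / N) :
    2 * c = N ∨ (N = 24 ∧ a = 4 ∧ b = 6 ∧ c = 6) ∨ (N = 48 ∧ a = 4 ∧ b = 6 ∧ c = 8) ∨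
      (N = 120 ∧ a = 4 ∧ b = 6 ∧ c = 10) := by
  have hN' : (0 : ℚ) < 2 / N := by positivity
  have hNne : (N : ℚ) ≠ 0 := by exact_mod_cast hN0.ne'
  have a4 : a = 4 := by
    by_contra hne
    have a6 : 6 ≤ a := by omega
    have h1 := recip_le (by norm_num) a6
    have h2 := recip_le (by norm_num) (a6.trans hab)
    have h3 := recip_le (by norm_num) (a6.trans (hab.trans hbc))
    push_cast at h1 h2 h3
    linarith
  subst a4
  push_cast at h
  rcases eq_or_ne b 4 with rfl | hb4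
  · refine Or.inl ?_
    push_cast at h
    have hc0 : (c : ℚ) ≠ 0 := by exact_mod_cast (by omega : c ≠ 0)
    have h' : (1 : ℚ) / c = 2 / N := by linarith
    rw [div_eq_div_iff hc0 hNne] at h'
    exact_mod_cast (show (2 : ℚ) * c = N by linarith)
  have b6 : b = 6 := by
    by_contra hne
    have b8 : 8 ≤ b := by omega
    have h2 := recip_le (by norm_num) b8
    have h3 := recip_le (by norm_num) (b8.trans hbc)
    push_cast at h2 h3
    linarith
  subst b6
  push_cast at h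
  have hc : c < 12 := by
    by_contra hne
    have h3 := recip_le (by norm_num) (not_lt.mp hne)
    push_cast at h3
    linarith
  refine Or.inr ?_
  obtain rfl | rfl | rfl : c = 6 ∨ c = 8 ∨ c = 10 := by omega
  · left; refine ⟨?_, rfl, rfl, rfl⟩
    push_cast at h; field_simp at h; exact_mod_cast (show (N : ℚ) = 24 by linarith)
  · right; left; refine ⟨?_, rfl, rfl, rfl⟩
    push_cast at h; field_simp at h; exact_mod_cast (show (N : ℚ) = 48 by linarith)
  · right; right; refine ⟨?_, rfl, rfl, rfl⟩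
    push_cast at h; field_simp at h; exact_mod_cast (show (N : ℚ) = 120 by linarith)

/-- Three inertial indices two. -/
theorem triple {a b c N : ℕ} (ha : 4 ≤ a) (hb : 4 ≤ b) (hc : 4 ≤ c) (hN0 : 0 < N)
    (ea : 2 ∣ a) (eb : 2 ∣ b) (ec : 2 ∣ c)
    (h : (1 : ℚ) / a + 1 / b + 1 / c = 1 / 2 + 2 / N) :
    (2 * a = N ∨ 2 * b = N ∨ 2 * c = N) ∨
      N = 24 ∧ (a = 4 ∨ a = 6) ∧ (b = 4 ∨ b = 6) ∧ (c = 4 ∨ c = 6) ∨
      N = 48 ∧ (a = 4 ∨ a = 6 ∨ a = 8) ∧ (b = 4 ∨ b = 6 ∨ b = 8) ∧ (c = 4 ∨ c = 6 ∨ c = 8) ∨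
      N = 120 ∧ (a = 4 ∨ a = 6 ∨ a = 10) ∧ (b = 4 ∨ b = 6 ∨ b = 10) ∧
        (c = 4 ∨ c = 6 ∨ c = 10) ∧ a ≠ b ∧ a ≠ c ∧ b ≠ c := by
  rcases le_total a b with p | p <;> rcases le_total a c with q | q <;>
    rcases le_total b c with r | r
  all_goals first
    | (rcases triple_sorted ha p r hN0 ea eb ec (by linarith) with e | e | e | e <;> omega)
    | (rcases triple_sorted ha q r hN0 ea ec eb (by linarith) with e | e | e | e <;> omega)
    | (rcases triple_sorted hb p q hN0 eb ea ec (by linarith) with e | e | e | e <;> omega)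
    | (rcases triple_sorted hb r q hN0 eb ec ea (by linarith) with e | e | e | e <;> omega)
    | (rcases triple_sorted hc q p hN0 ec ea eb (by linarith) with e | e | e | e <;> omega)
    | (rcases triple_sorted hc r p hN0 ec eb ea (by linarith) with e | e | e | e <;> omega)

/-- One inertial index one and one inertial index two. -/
theorem pair {a b N : ℕ} (ha : 4 ≤ a) (hb : 4 ≤ b) (hN0 : 0 < N) (ea : 2 ∣ a) (eb : 2 ∣ b)
    (h : (2 : ℚ) / a + 1 / b = 1 / 2 + 2 / N) : 2 * b = N ∨ N = 24 ∧ a = 6 ∧ b = 4 := by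
  have hN' : (0 : ℚ) < 2 / N := by positivity
  have hNne : (N : ℚ) ≠ 0 := by exact_mod_cast hN0.ne'
  have h2 := recip_le (by norm_num) hb
  push_cast at h2
  rcases eq_or_ne a 4 with rfl | ha4
  · refine Or.inl ?_
    push_cast at h
    have hb0 : (b : ℚ) ≠ 0 := by exact_mod_cast (by omega : b ≠ 0)
    have h' : (1 : ℚ) / b = 2 / N := by linarith
    rw [div_eq_div_iff hb0 hNne] at h'
    exact_mod_cast (show (2 : ℚ) * b = N by linarith)
  have a6 : a = 6 := by
    by_contra hne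
    have h1 := recip_le (by norm_num) (show 8 ≤ a by omega)
    push_cast at h1
    rw [show (2 : ℚ) / a = 2 * (1 / a) by ring] at h
    linarith
  subst a6
  have b4 : b = 4 := by
    by_contra hne
    have h1 := recip_le (by norm_num) (show 6 ≤ b by omega)
    push_cast at h h1
    linarith
  subst b4
  push_cast at h
  field_simp at h
  exact Or.inr ⟨by exact_mod_cast (show (N : ℚ) = 24 by linarith), rfl, rfl⟩

/-- The numerical consequence of the class equation. -/
theorem arith {ι : Type*} [Fintype ι] [Nonempty ι] (N : ℕ) (c s : ι → ℕ) (hc : ∀ i, 4 ≤ c i)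
    (hev : ∀ i, 2 ∣ c i) (hcN : ∀ i, c i ≤ N) (hs : ∀ i, s i = c i ∨ s i = 2 * c i)
    (hsum : ∑ i, ((c i : ℚ) - 2) / s i = 1 - 2 / N) :
    (∃ i, c i = N ∨ 2 * c i = N) ∨ N = 24 ∧ (∀ i, c i = 4 ∨ c i = 6) ∨
      N = 48 ∧ (∀ i, c i = 4 ∨ c i = 6 ∨ c i = 8) ∨
      N = 120 ∧ (∀ i, c i = 4 ∨ c i = 6 ∨ c i = 10) ∧ Function.Injective c := by
  classical
  obtain ⟨i₀⟩ := ‹Nonempty ι›
  have hN4 : 4 ≤ N := (hc i₀).trans (hcN i₀)
  have hN0 : 0 < N := by omega
  have hN' : (0 : ℚ) < 2 / N := by positivity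
  set f : ι → ℚ := fun i => ((c i : ℚ) - 2) / s i with hf
  have hc0 : ∀ i, (c i : ℚ) ≠ 0 := fun i => by
    exact_mod_cast (show c i ≠ 0 by have := hc i; omega)
  have hfA : ∀ i, s i = c i → f i = 1 - 2 * (1 / c i) := fun i e => by
    simp only [hf, e]; field_simp [hc0 i]
  have hfB : ∀ i, s i = 2 * c i → f i = 1 / 2 - 1 / c i := fun i e => by
    simp only [hf, e]; push_cast; field_simp [hc0 i]
  have hr : ∀ i, (1 : ℚ) / c i ≤ 1 / 4 := fun i => by
    simpa using recip_le (by norm_num) (hc i)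
  have hp : ∀ i, (0 : ℚ) < 1 / c i := fun i => by
    have := hc i; positivity
  have hf4 : ∀ i, (1 : ℚ) / 4 ≤ f i := fun i => by
    rcases hs i with e | e
    · rw [hfA i e]; linarith [hr i]
    · rw [hfB i e]; linarith [hr i]
  have hsum' : ∑ i, f i = 1 - 2 / N := hsum
  have hcard : Fintype.card ι ≤ 3 := by
    by_contra hlt
    have h1 : Fintype.card ι • ((1 : ℚ) / 4) ≤ ∑ i, f i := by
      rw [← Finset.card_univ]
      exact Finset.card_nsmul_le_sum _ _ _ fun i _ => hf4 i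
    have h2 : (4 : ℚ) ≤ Fintype.card ι := by exact_mod_cast (by omega : 4 ≤ Fintype.card ι)
    rw [nsmul_eq_mul] at h1
    linarith
  have hpos : 0 < Fintype.card ι := Fintype.card_pos
  obtain h1 | h2 | h3 : Fintype.card ι = 1 ∨ Fintype.card ι = 2 ∨ Fintype.card ι = 3 := by omega
  · obtain ⟨x, hx⟩ := Finset.card_eq_one.mp (Finset.card_univ.trans h1)
    rw [hx, Finset.sum_singleton] at hsum'
    refine Or.inl ⟨x, Or.inl ?_⟩
    rcases hs x with e | e
    · rw [hfA x e] at hsum'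
      have h' : (2 : ℚ) / c x = 2 / N := by rw [show (2 : ℚ) / c x = 2 * (1 / c x) by ring]; linarith
      rw [div_eq_div_iff (hc0 x) (by exact_mod_cast hN0.ne')] at h'
      exact_mod_cast (show (c x : ℚ) = N by linarith)
    · rw [hfB x e] at hsum'
      have := recip_le (by norm_num) hN4
      push_cast at this
      rw [show (2 : ℚ) / N = 2 * (1 / N) by ring] at hsum'
      linarith [hp x]
  · obtain ⟨x, y, hxy, hx⟩ := Finset.card_eq_two.mp (Finset.card_univ.trans h2)
    rw [hx, Finset.sum_pair hxy] at hsum'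
    have hall : ∀ i, i = x ∨ i = y := fun i => by
      have := hx ▸ Finset.mem_univ i
      simpa using this
    rcases hs x with e | e <;> rcases hs y with e' | e'
    · rw [hfA x e, hfA y e'] at hsum'
      linarith [hr x, hr y]
    · rw [hfA x e, hfB y e'] at hsum'
      rcases pair (hc x) (hc y) hN0 (hev x) (hev y)
          (by rw [show (2 : ℚ) / c x = 2 * (1 / c x) by ring]; linarith) with q | ⟨q, r, t⟩
      · exact Or.inl ⟨y, Or.inr q⟩
      · exact Or.inr (Or.inl ⟨q, fun i => by rcases hall i with rfl | rfl <;> omega⟩)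
    · rw [hfB x e, hfA y e'] at hsum'
      rcases pair (hc y) (hc x) hN0 (hev y) (hev x)
          (by rw [show (2 : ℚ) / c y = 2 * (1 / c y) by ring]; linarith) with q | ⟨q, r, t⟩
      · exact Or.inl ⟨x, Or.inr q⟩
      · exact Or.inr (Or.inl ⟨q, fun i => by rcases hall i with rfl | rfl <;> omega⟩)
    · rw [hfB x e, hfB y e'] at hsum'
      refine Or.inl ⟨x, Or.inl ?_⟩
      have a1 := recip_le (a := N) (show 0 < c x by have := hc x; omega) (hcN x)
      have a2 := recip_le (a := N) (show 0 < c y by have := hc y; omega) (hcN y)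
      have h' : (1 : ℚ) / c x = 1 / N := by
        rw [show (2 : ℚ) / N = 2 * (1 / N) by ring] at hsum'
        linarith
      rw [one_div, one_div, inv_inj] at h'
      exact_mod_cast h'
  · obtain ⟨x, y, z, hxy, hxz, hyz, hx⟩ := Finset.card_eq_three.mp (Finset.card_univ.trans h3)
    rw [hx, Finset.sum_insert (by simp [hxy, hxz]), Finset.sum_pair hyz] at hsum'
    have hall : ∀ i, i = x ∨ i = y ∨ i = z := fun i => by
      have := hx ▸ Finset.mem_univ i
      simpa using this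
    have hB : ∀ i, s i = 2 * c i := by
      intro i
      rcases hs i with e | e
      · exfalso
        have := hfA i e
        have := hr i
        have := hf4 x; have := hf4 y; have := hf4 z
        rcases hall i with q | q | q <;> (have r := congrArg f q; linarith)
      · exact e
    rw [hfB x (hB x), hfB y (hB y), hfB z (hB z)] at hsum'
    rcases triple (hc x) (hc y) (hc z) hN0 (hev x) (hev y) (hev z) (by linarith) with
      (q | q | q) | ⟨q, r⟩ | ⟨q, r⟩ | ⟨q, r1, r2, r3, n1, n2, n3⟩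
    · exact Or.inl ⟨x, Or.inr q⟩
    · exact Or.inl ⟨y, Or.inr q⟩
    · exact Or.inl ⟨z, Or.inr q⟩
    · exact Or.inr (Or.inl ⟨q, fun i => by rcases hall i with rfl | rfl | rfl <;> omega⟩)
    · exact Or.inr (Or.inr (Or.inl ⟨q, fun i => by
        rcases hall i with rfl | rfl | rfl <;> omega⟩))
    · refine Or.inr (Or.inr (Or.inr ⟨q, fun i => ?_, fun i j hij => ?_⟩))
      · rcases hall i with rfl | rfl | rfl <;> omega
      · rcases hall i with rfl | rfl | rfl <;> rcases hall j with rfl | rfl | rfl <;>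
          first | rfl | omega

section Action

variable {K : Type*} [Group K] {ζ : K}

/-- The centralisers of non-central elements. -/
abbrev MaxAb (ζ : K) : Type _ :=
  {C : Subgroup K // ∃ k : K, k ≠ 1 ∧ k ≠ ζ ∧ C = centralizer {k}}

theorem mem_cent {k x : K} : x ∈ centralizer ({k} : Set K) ↔ Commute x k := by
  rw [mem_centralizer_singleton_iff]; rfl

theorem TwoDim.cent_eq (h : TwoDim ζ) {k k' : K} (hk : k ≠ 1 ∧ k ≠ ζ) (hk' : k' ≠ 1 ∧ k' ≠ ζ)
    (hc : Commute k' k) : centralizer ({k'} : Set K) = centralizer {k} := by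
  ext x
  rw [mem_cent, mem_cent]
  exact ⟨fun hx => h.comm k' hk'.1 hk'.2 x k hx hc.symm, fun hx => h.comm k hk.1 hk.2 x k' hx hc⟩

theorem TwoDim.conj_nc (h : TwoDim ζ) {k : K} (hk : k ≠ 1 ∧ k ≠ ζ) (g : K) :
    g * k * g⁻¹ ≠ 1 ∧ g * k * g⁻¹ ≠ ζ := by
  refine ⟨fun e => hk.1 ?_, fun e => hk.2 ?_⟩
  · rwa [conj_eq_one_iff] at e
  · rw [mul_inv_eq_iff_eq_mul, h.central g] at e
    exact mul_left_cancel e

theorem mem_cent_conj {k x g : K} :
    x ∈ centralizer ({g * k * g⁻¹} : Set K) ↔ g⁻¹ * x * g ∈ centralizer ({k} : Set K) := by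
  simp only [mem_cent, commute_iff_eq]
  constructor <;> intro e
  · calc g⁻¹ * x * g * k = g⁻¹ * (x * (g * k * g⁻¹)) * g := by group
      _ = g⁻¹ * (g * k * g⁻¹ * x) * g := by rw [e]
      _ = k * (g⁻¹ * x * g) := by group
  · calc x * (g * k * g⁻¹) = g * (g⁻¹ * x * g * k) * g⁻¹ := by group
      _ = g * (k * (g⁻¹ * x * g)) * g⁻¹ := by rw [e]
      _ = g * k * g⁻¹ * x := by group

theorem map_conj_cent (g k : K) :
    (centralizer ({k} : Set K)).map (MulAut.conj g).toMonoidHom = centralizer {g * k * g⁻¹} := by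
  ext x
  rw [mem_cent_conj, mem_map]
  constructor
  · rintro ⟨y, hy, rfl⟩
    simpa [mul_assoc] using hy
  · exact fun hx => ⟨_, hx, by simp [mul_assoc]⟩

noncomputable instance instMulAction [h : Fact (TwoDim ζ)] : MulAction K (MaxAb ζ) where
  smul g C := ⟨C.1.map (MulAut.conj g).toMonoidHom, by
    obtain ⟨k, h1, h2, e⟩ := C.2
    exact ⟨g * k * g⁻¹, (h.out.conj_nc ⟨h1, h2⟩ g).1, (h.out.conj_nc ⟨h1, h2⟩ g).2,
      by rw [e, map_conj_cent]⟩⟩
  one_smul C := Subtype.ext (by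
    show C.1.map _ = C.1
    ext x; simp)
  mul_smul g g' C := Subtype.ext (by
    show C.1.map _ = (C.1.map _).map _
    rw [Subgroup.map_map]
    congr 1
    ext x; simp [mul_assoc])

theorem smul_def [Fact (TwoDim ζ)] (g : K) (C : MaxAb ζ) :
    (g • C).1 = C.1.map (MulAut.conj g).toMonoidHom := rfl

variable [Finite K] [hF : Fact (TwoDim ζ)]


theorem zeta_mem (C : MaxAb ζ) : ζ ∈ C.1 := by
  obtain ⟨k, -, -, e⟩ := C.2
  rw [e, mem_cent]
  exact hF.out.central k

theorem eq_cent (C : MaxAb ζ) {k : K} (hk : k ≠ 1 ∧ k ≠ ζ) (hkC : k ∈ C.1) :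
    C.1 = centralizer {k} := by
  obtain ⟨k₀, h1, h2, e⟩ := C.2
  rw [e] at hkC ⊢
  exact (hF.out.cent_eq ⟨h1, h2⟩ hk (mem_cent.mp hkC)).symm

theorem four_le (C : MaxAb ζ) : 4 ≤ Nat.card C.1 := by
  obtain ⟨k, h1, h2, e⟩ := C.2
  have hk : k ∈ C.1 := by rw [e, mem_cent]
  have h2' := two_dvd_card hF.out C.1 (zeta_mem C)
  have : Nat.card C.1 ≠ 2 := by
    intro hc
    have hle : Subgroup.zpowers ζ ≤ C.1 := Subgroup.zpowers_le.mpr (zeta_mem C)
    have hz : Nat.card (Subgroup.zpowers ζ) = 2 := by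
      rw [Nat.card_zpowers]
      exact orderOf_eq_prime (by rw [pow_two]; exact hF.out.sq) hF.out.ne_one
    have := Subgroup.eq_of_le_of_card_ge hle (hc.trans hz.symm).le
    rw [← this] at hk
    rcases Subgroup.mem_zpowers_iff.mp hk with ⟨n, rfl⟩
    rcases Int.even_or_odd n with ⟨m, rfl⟩ | ⟨m, rfl⟩
    · exact h1 (by rw [← two_mul, zpow_mul, zpow_two, hF.out.sq, one_zpow])
    · exact h2 (by rw [zpow_add, zpow_mul, zpow_two, hF.out.sq, one_zpow, one_mul, zpow_one])
  have : 0 < Nat.card C.1 := Nat.card_pos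
  omega

theorem card_stab (C : MaxAb ζ) :
    Nat.card (MulAction.stabilizer K C) = Nat.card C.1 ∨
      Nat.card (MulAction.stabilizer K C) = 2 * Nat.card C.1 := by
  obtain ⟨k, h1, h2, e⟩ := C.2
  have hst : ∀ g : K, g ∈ MulAction.stabilizer K C → g * k * g⁻¹ = k ∨ g * k * g⁻¹ = k⁻¹ := by
    intro g hg
    refine hF.out.conj k h1 h2 g ?_
    have hg' := congrArg Subtype.val (MulAction.mem_stabilizer_iff.mp hg)
    rw [smul_def, e, map_conj_cent] at hg'
    rw [← mem_cent, ← hg', mem_cent]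
  have hle : C.1 ≤ MulAction.stabilizer K C := by
    intro g hg
    rw [e, mem_cent] at hg
    refine MulAction.mem_stabilizer_iff.mpr (Subtype.ext ?_)
    rw [smul_def, e, map_conj_cent, show g * k * g⁻¹ = k by rw [hg.eq, mul_inv_cancel_right]]
  set S := MulAction.stabilizer K C
  by_cases hall : ∀ g ∈ S, g * k * g⁻¹ = k
  · left
    have hle' : S ≤ C.1 := fun g hg => by
      have : g ∈ centralizer ({k} : Set K) :=
        mem_cent.mpr (mul_inv_eq_iff_eq_mul.mp (hall g hg))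
      rwa [← e] at this
    exact congrArg (fun T : Subgroup K => Nat.card T) (le_antisymm hle' hle)
  · right
    push Not at hall
    obtain ⟨t, ht, htk⟩ := hall
    have ht' := (hst t ht).resolve_left htk
    have hidx : ((C.1).subgroupOf S).index = 2 := by
      rw [Subgroup.index_eq_two_iff]
      refine ⟨⟨t, ht⟩, fun g => ?_⟩
      have key : ∀ x : S, x ∈ C.1.subgroupOf S ↔ (x : K) * k * (x : K)⁻¹ = k := fun x => by
        rw [mem_subgroupOf, e, mem_cent, commute_iff_eq, mul_inv_eq_iff_eq_mul]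
      rw [key, key]
      have e1 : ((g * ⟨t, ht⟩ : S) : K) * k * ((g * ⟨t, ht⟩ : S) : K)⁻¹ =
          ((g : K) * k * (g : K)⁻¹)⁻¹ := by
        show (g : K) * t * k * ((g : K) * t)⁻¹ = _
        rw [show (g : K) * t * k * ((g : K) * t)⁻¹ = g * (t * k * t⁻¹) * (g : K)⁻¹ by group, ht']
        group
      rw [e1]
      have hki : k ≠ k⁻¹ := fun q => by
        rcases hF.out.invol k (by nth_rewrite 2 [q]; exact mul_inv_cancel k) with r | r
        · exact h1 r
        · exact h2 r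
      rcases hst g g.2 with hg | hg <;> rw [hg]
      · exact Or.inr ⟨rfl, fun q => hki q.symm⟩
      · exact Or.inl ⟨inv_inv k, fun q => hki q.symm⟩
    rw [← Subgroup.card_mul_index (C.1.subgroupOf S), hidx,
      Nat.card_congr (Subgroup.subgroupOfEquivOfLe hle).toEquiv, mul_comm]

/-- Noncentral elements are partitioned by the centralisers. -/
theorem card_sum [Fintype (MaxAb ζ)] :
    ∑ C : MaxAb ζ, (Nat.card C.1 - 2) = Nat.card K - 2 := by
  classical
  haveI := Fintype.ofFinite K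
  have h := hF.out
  have cardNC : ∀ S : Subgroup K, ζ ∈ S →
      Nat.card {k : K // k ∈ S ∧ k ≠ 1 ∧ k ≠ ζ} = Nat.card S - 2 := by
    intro S hS
    rw [Nat.card_eq_fintype_card, Fintype.card_subtype, Nat.card_eq_fintype_card,
      Fintype.card_subtype, ← Finset.card_pair (a := (1 : K)) (b := ζ) h.ne_one.symm,
      ← Finset.card_sdiff_of_subset (fun x hx => by
        simp only [Finset.mem_insert, Finset.mem_singleton] at hx
        rcases hx with rfl | rfl <;> simp [hS, S.one_mem])]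
    congr 1
    ext x
    simp [Finset.mem_sdiff, not_or]
  rw [← Finset.sum_congr rfl fun C _ => cardNC C.1 (zeta_mem C), ← Nat.card_sigma,
    show Nat.card K - 2 = Nat.card (⊤ : Subgroup K) - 2 by rw [Subgroup.card_top],
    ← cardNC ⊤ (Subgroup.mem_top _)]
  refine Nat.card_eq_of_bijective (fun p => ⟨p.2.1, Subgroup.mem_top _, p.2.2.2⟩) ⟨?_, ?_⟩
  · rintro ⟨C, k, hk⟩ ⟨C', k', hk'⟩ e
    obtain rfl : k = k' := congrArg Subtype.val e
    obtain rfl : C = C' := Subtype.ext ((eq_cent C hk.2 hk.1).trans (eq_cent C' hk'.2 hk'.1).symm)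
    rfl
  · rintro ⟨k, -, hk⟩
    exact ⟨⟨⟨_, k, hk.1, hk.2, rfl⟩, k, mem_cent.mpr (Commute.refl k), hk⟩, rfl⟩

omit [Finite K] in
theorem card_smul (g : K) (C : MaxAb ζ) : Nat.card (g • C).1 = Nat.card C.1 := by
  rw [smul_def]
  exact Subgroup.card_map_of_injective (MulAut.conj g).injective

end Action

/-- The possible orders. -/
theorem TwoDim.order {K : Type*} [Group K] [Finite K] {ζ : K} (h : TwoDim ζ)
    (hne : ∃ k : K, k ≠ 1 ∧ k ≠ ζ) :
    (∃ k : K, k ≠ 1 ∧ k ≠ ζ ∧ (Nat.card (centralizer ({k} : Set K)) = Nat.card K ∨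
      2 * Nat.card (centralizer ({k} : Set K)) = Nat.card K)) ∨
    Nat.card K = 24 ∧ (∀ k : K, k ≠ 1 → k ≠ ζ →
      Nat.card (centralizer ({k} : Set K)) = 4 ∨ Nat.card (centralizer ({k} : Set K)) = 6) ∨
    Nat.card K = 48 ∧ (∀ k : K, k ≠ 1 → k ≠ ζ →
      Nat.card (centralizer ({k} : Set K)) = 4 ∨ Nat.card (centralizer ({k} : Set K)) = 6 ∨
        Nat.card (centralizer ({k} : Set K)) = 8) ∨
    Nat.card K = 120 ∧ (∀ k : K, k ≠ 1 → k ≠ ζ →
      Nat.card (centralizer ({k} : Set K)) = 4 ∨ Nat.card (centralizer ({k} : Set K)) = 6 ∨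
        Nat.card (centralizer ({k} : Set K)) = 10) ∧
      (∀ k k' : K, k ≠ 1 → k ≠ ζ → k' ≠ 1 → k' ≠ ζ →
        Nat.card (centralizer ({k} : Set K)) = Nat.card (centralizer ({k'} : Set K)) →
        ∃ g : K, Commute (g * k * g⁻¹) k') := by
  classical
  haveI : Fact (TwoDim ζ) := ⟨h⟩
  haveI := Fintype.ofFinite (MaxAb ζ)
  let Ω := MulAction.orbitRel.Quotient K (MaxAb ζ)
  haveI : Fintype Ω := Fintype.ofFinite Ω
  obtain ⟨k₀, hk₀⟩ := hne
  haveI : Nonempty Ω := ⟨Quotient.mk'' ⟨_, k₀, hk₀.1, hk₀.2, rfl⟩⟩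
  let c : Ω → ℕ := fun i => Nat.card (i.out).1
  let s : Ω → ℕ := fun i => Nat.card (MulAction.stabilizer K i.out)
  have hrep : ∀ C : MaxAb ζ, ∃ g : K, g • C = (Quotient.mk'' C : Ω).out := fun C => by
    have := Quotient.mk_out (s := MulAction.orbitRel K (MaxAb ζ)) C
    exact this
  have hcC : ∀ C : MaxAb ζ, Nat.card C.1 = c (Quotient.mk'' C) := fun C => by
    obtain ⟨g, hg⟩ := hrep C
    show _ = Nat.card (Quotient.mk'' C : Ω).out.1
    rw [← hg, card_smul]
  have key : ∑ i : Ω, (Nat.card (K ⧸ MulAction.stabilizer K i.out)) * (c i - 2) = Nat.card K - 2 := by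
    rw [← card_sum (ζ := ζ), ← Finset.sum_fiberwise Finset.univ
      (fun C : MaxAb ζ => (Quotient.mk'' C : Ω)) fun C => Nat.card C.1 - 2]
    refine Finset.sum_congr rfl fun i _ => ?_
    rw [Finset.sum_congr rfl (g := fun _ => c i - 2) fun C hC => by
      rw [hcC C, (Finset.mem_filter.mp hC).2], Finset.sum_const, smul_eq_mul]
    congr 1
    rw [← Nat.card_congr (MulAction.orbitEquivQuotientStabilizer K i.out), ← Fintype.card_subtype,
      ← Nat.card_eq_fintype_card]
    refine Nat.card_congr (Equiv.subtypeEquivRight fun C => ?_)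
    constructor
    · intro hC
      obtain ⟨g, hg⟩ := hC
      rw [← hg, ← Quotient.out_eq' i]
      exact Quotient.sound' ⟨g, by rw [Quotient.out_eq']⟩
    · intro hC
      obtain ⟨g, hg⟩ := hrep C
      exact ⟨g⁻¹, by rw [← hC]; simp [← hg]⟩
  have hsum : ∑ i : Ω, ((c i : ℚ) - 2) / s i = 1 - 2 / (Nat.card K : ℕ) := by
    have hN : (Nat.card K : ℚ) ≠ 0 := Nat.cast_ne_zero.mpr Nat.card_pos.ne'
    have h2N : 2 ≤ Nat.card K := Nat.le_of_dvd Nat.card_pos
      (by simpa [Subgroup.card_top] using two_dvd_card h ⊤ (Subgroup.mem_top ζ))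
    have keyQ : ∑ i : Ω, ((Nat.card (K ⧸ MulAction.stabilizer K i.out) : ℚ) * ((c i : ℚ) - 2)) =
        (Nat.card K : ℚ) - 2 := by
      have := congrArg (fun n : ℕ => (n : ℚ)) key
      simp only [Nat.cast_sum, Nat.cast_mul] at this
      rw [Nat.cast_sub h2N] at this
      push_cast at this
      rw [← this]
      refine Finset.sum_congr rfl fun i _ => ?_
      have : 2 ≤ c i := le_trans (by norm_num) (four_le i.out)
      rw [Nat.cast_sub this]; push_cast; ring
    rw [eq_sub_iff_add_eq] at keyQ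
    have : ∀ i : Ω, ((c i : ℚ) - 2) / s i =
        (Nat.card (K ⧸ MulAction.stabilizer K i.out) : ℚ) * ((c i : ℚ) - 2) / (Nat.card K : ℕ) := by
      intro i
      have hs0 : (s i : ℚ) ≠ 0 := Nat.cast_ne_zero.mpr Nat.card_pos.ne'
      rw [Subgroup.card_eq_card_quotient_mul_card_subgroup (MulAction.stabilizer K i.out)]
      push_cast
      have hq : (Nat.card (K ⧸ MulAction.stabilizer K i.out) : ℚ) ≠ 0 :=
        Nat.cast_ne_zero.mpr Nat.card_pos.ne'
      rw [mul_div_mul_left _ _ hq]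
    rw [Finset.sum_congr rfl fun i _ => this i, ← Finset.sum_div]
    field_simp
    linarith
  have A := arith (Nat.card K) c s (fun i => four_le i.out)
    (fun i => two_dvd_card h _ (zeta_mem i.out)) (fun i => Subgroup.card_le_card_group _)
    (fun i => card_stab i.out) hsum
  have hk : ∀ k : K, k ≠ 1 → k ≠ ζ → ∃ i : Ω, Nat.card (centralizer ({k} : Set K)) = c i :=
    fun k h1 h2 => ⟨_, hcC ⟨_, k, h1, h2, rfl⟩⟩
  rcases A with ⟨i, hi⟩ | ⟨e, f⟩ | ⟨e, f⟩ | ⟨e, f, inj⟩
  · obtain ⟨k, h1, h2, e⟩ := (i.out).2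
    exact Or.inl ⟨k, h1, h2, by rw [← e]; exact hi⟩
  · exact Or.inr (Or.inl ⟨e, fun k h1 h2 => by obtain ⟨i, hi⟩ := hk k h1 h2; rw [hi]; exact f i⟩)
  · exact Or.inr (Or.inr (Or.inl ⟨e, fun k h1 h2 => by
      obtain ⟨i, hi⟩ := hk k h1 h2; rw [hi]; exact f i⟩))
  · refine Or.inr (Or.inr (Or.inr ⟨e, fun k h1 h2 => by
      obtain ⟨i, hi⟩ := hk k h1 h2; rw [hi]; exact f i, fun k k' h1 h2 h1' h2' hkk => ?_⟩))
    let C : MaxAb ζ := ⟨_, k, h1, h2, rfl⟩
    let C' : MaxAb ζ := ⟨_, k', h1', h2', rfl⟩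
    have hq : (Quotient.mk'' C : Ω) = Quotient.mk'' C' :=
      inj ((hcC C).symm.trans (hkk.trans (hcC C')))
    obtain ⟨g, hg⟩ := (Quotient.eq''.mp hq.symm : (MulAction.orbitRel K (MaxAb ζ)) C' C)
    refine ⟨g, mem_cent.mp ?_⟩
    have := congrArg Subtype.val hg
    rw [smul_def] at this
    show g * k * g⁻¹ ∈ C'.1
    rw [← this]
    exact ⟨k, mem_cent.mpr (Commute.refl k), rfl⟩

end Cfsg.Agent.FPFStructure
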