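import Cfsg.Agent.FPFStructure.Cover

set_option autoImplicit false
set_option linter.style.haveILetI false

/-!
Either a group with a fixed-point-free representation has at most four subgroups of order three,
or a double cover of `A₅` contains all its elements of order three.
-/

namespace Cfsg.Agent.FPFStructure

universe u v

open Subgroup

variable {A : Type u} [Group A] {R : Type v} [Ring R] {ρ : A →* R} {ζ : A}

/-- `g` and `h` lie in the same right coset of `H`. -/
def SameCoset (H : Subgroup A) (g h : A) : Prop := g * h⁻¹ ∈ H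

theorem SameCoset.symm' {H : Subgroup A} {g h : A} (e : SameCoset H g h) : SameCoset H h g := by
  show h * g⁻¹ ∈ H
  simpa using H.inv_mem e

theorem SameCoset.trans' {H : Subgroup A} {g h k : A} (e : SameCoset H g h)
    (e' : SameCoset H h k) : SameCoset H g k := by
  show g * k⁻¹ ∈ H
  simpa [mul_assoc] using H.mul_mem e e'

theorem SameCoset.mul' {H : Subgroup A} {g h : A} (e : SameCoset H g h) (x : A) :
    SameCoset H (g * x) (h * x) := by
  show g * x * (h * x)⁻¹ ∈ H
  rw [mul_inv_rev, mul_assoc, mul_inv_cancel_left]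
  exact e

theorem SameCoset.of_eq {H : Subgroup A} {g h t : A} (ht : t ∈ H) (e : g = t * h) :
    SameCoset H g h := by
  show g * h⁻¹ ∈ H
  rw [e, mul_inv_cancel_right]; exact ht

/-- The coset argument. -/
theorem star (hr : Rep ρ) (hζ : IsInv2 ζ) {a b c d : A} (ha : Ord3 a) (hb : Ord3 b) (hc : Ord3 c)
    (hd : Ord3 d) (hab : Adj ζ a b) (hac : Adj ζ a c) (hbc : Adj ζ b c) (had : Adj ζ a d)
    (hbd : Adj ζ b d) (hcd : Adj ζ c (a * d * a⁻¹)) : d ∈ cl ζ {a, b, c} := by
  set H := cl ζ {a, b, c}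
  have haH : a ∈ H := mem_cl (Or.inl rfl)
  have hbH : b ∈ H := mem_cl (Or.inr (Or.inl rfl))
  have hcH : c ∈ H := mem_cl (Or.inr (Or.inr rfl))
  have hzH : ζ ∈ H := zeta_mem_cl _
  have hz : ∀ g x : A, g * (ζ * x) = ζ * (g * x) := fun g x => by
    rw [← mul_assoc, ← hr.central hζ g, mul_assoc]
  have hzz : ∀ x : A, ζ * (ζ * x) = x := fun x => by rw [← mul_assoc, hζ.2, one_mul]
  have hzeta : ∀ x, SameCoset H (ζ * x) x := fun x => SameCoset.of_eq hzH rfl
  -- the relations
  have rda := (had.symm hr hζ).swap hζ hd ha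
  have rdb := (hbd.symm hr hζ).swap hζ hd hb
  have rad := had.swap hζ ha hd
  have rbd := hbd.swap hζ hb hd
  have rab := hab.swap hζ ha hb
  have rca := (hac.symm hr hζ).swap hζ hc ha
  have rcb := (hbc.symm hr hζ).swap hζ hc hb
  have e1a : SameCoset H (d * a) (d * d) :=
    SameCoset.of_eq (t := ζ * (a * a)) (mul_mem hzH (mul_mem haH haH))
      (by rw [rda]; simp only [mul_assoc])
  have e1b : SameCoset H (d * b) (d * d) :=
    SameCoset.of_eq (t := ζ * (b * b)) (mul_mem hzH (mul_mem hbH hbH))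
      (by rw [rdb]; simp only [mul_assoc])
  have e2 : SameCoset H (d * d * (a * a)) d :=
    SameCoset.of_eq (t := ζ * a) (mul_mem hzH haH) (by rw [mul_assoc ζ, rad, hzz])
  have e3 : SameCoset H (d * d * a) (d * (a * a)) := by
    have := (e1a.mul' a).symm'
    rwa [mul_assoc d a a] at this
  have e4 : SameCoset H (d * d * a * b) (d * d * a) := by
    have h1 : SameCoset H (d * d * a * b) (d * d * (b * b) * (a * a)) := by
      refine SameCoset.of_eq hzH ?_
      rw [mul_assoc (d * d) a b, rab, hz]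
      simp only [mul_assoc]
    have h2 : SameCoset H (d * d * (b * b)) d :=
      SameCoset.of_eq (t := ζ * b) (mul_mem hzH hbH) (by rw [mul_assoc ζ, rbd, hzz])
    exact (h1.trans' (h2.mul' (a * a))).trans' e3.symm'
  have e5 : SameCoset H (d * (a * a) * c) d := by
    have hd' := hd.conj a
    have r := (hcd.symm hr hζ).swap hζ hd' hc
    rw [ha.inv_eq] at r
    have e : d * (a * a) * c = (a * a * (ζ * (c * c) * a)) * (d * d * (a * a)) := by
      calc d * (a * a) * c = a * a * (a * d * (a * a) * c) := by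
            rw [show a * a * (a * d * (a * a) * c) = a * a * a * (d * (a * a) * c) by
              simp only [mul_assoc], ha.1, one_mul]
        _ = a * a * (ζ * (c * c * (a * d * (a * a) * (a * d * (a * a))))) := by rw [r]
        _ = _ := by
          rw [show a * d * (a * a) * (a * d * (a * a)) = a * d * (a * a * a) * d * (a * a) by
            simp only [mul_assoc], ha.1, mul_one]
          simp only [mul_assoc]
    exact (SameCoset.of_eq (mul_mem (mul_mem haH haH)
      (mul_mem (mul_mem hzH (mul_mem hcH hcH)) haH)) e).trans' e2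
  have e6 : SameCoset H (d * d * (c * c)) (d * d) := by
    have h1 : SameCoset H (d * d * a * (c * a)) (d * d * (c * c)) := by
      refine SameCoset.of_eq hzH ?_
      rw [rca, hz, mul_assoc (d * d) a,
        show a * (a * a * (c * c)) = a * a * a * (c * c) by simp only [mul_assoc], ha.1, one_mul]
    have h2 : SameCoset H (d * d * a * (c * a)) (d * d) := by
      have := ((e3.mul' c).trans' e5).mul' a
      rw [mul_assoc (d * d * a) c a] at this
      exact this.trans' e1a
    exact h1.symm'.trans' h2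
  have e7 : SameCoset H (d * c) (d * d) := by
    have h1 : SameCoset H (d * d * a * (c * b)) (d * d) := by
      have := ((e3.mul' c).trans' e5).mul' b
      rw [mul_assoc (d * d * a) c b] at this
      exact this.trans' e1b
    have h2 : SameCoset H (d * d * a * (c * b)) (d * d * a * (b * b) * (c * c)) := by
      refine SameCoset.of_eq hzH ?_
      rw [rcb, hz]; simp only [mul_assoc]
    have h3 : SameCoset H (d * d * a * (b * b)) (d * d * a) := by
      have := (e4.mul' b).trans' e4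
      rwa [mul_assoc (d * d * a) b b] at this
    have h4 : SameCoset H (d * d * a * (c * c)) (d * c) := by
      have := (((e3.mul' c).trans' e5).mul' c)
      rwa [mul_assoc (d * d * a) c c] at this
    exact ((h2.trans' (h3.mul' (c * c))).trans' h4).symm'.trans' h1
  have e8 : SameCoset H (d * d * c) (d * d) := by
    have := (e6.mul' c).symm'
    rwa [mul_assoc (d * d) (c * c) c, hc.1, mul_one] at this
  have e9 : SameCoset H (d * (c * c)) (d * d) := by
    have := (e7.mul' c).trans' e8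
    rwa [mul_assoc d c c] at this
  have e10 : SameCoset H (d * (a * a)) (d * d) := by
    have := e5.mul' (c * c)
    rw [show d * (a * a) * c * (c * c) = d * (a * a) * (c * c * c) by simp only [mul_assoc],
      hc.1, mul_one] at this
    exact this.trans' e9
  have e11 : SameCoset H (d * d * a) (d * d) := e3.trans' e10
  have e12 : SameCoset H d (d * d) := by
    refine e2.symm'.trans' ?_
    have := (e11.mul' a).trans' e11
    rwa [mul_assoc (d * d) a a] at this
  have h : d * (d * d)⁻¹ ∈ H := e12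
  have h' := H.inv_mem h
  simpa using h'

/-- An element adjacent to `a, c, d` lies in the subgroup they generate. -/
theorem mem_of_adj_three (hr : Rep ρ) (hζ : IsInv2 ζ) {a c d w : A} (ha : Ord3 a) (hc : Ord3 c)
    (hd : Ord3 d) (hw : Ord3 w) (hac : Adj ζ a c) (had : Adj ζ a d) (hcd : Adj ζ c d)
    (hwa : Adj ζ w a) (hwc : Adj ζ w c) (hwd : Adj ζ w d) : w ∈ cl ζ {a, c, d} := by
  set H := cl ζ {a, c, d}
  have haH : a ∈ H := mem_cl (Or.inl rfl)
  have hcH : c ∈ H := mem_cl (Or.inr (Or.inl rfl))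
  have hdH : d ∈ H := mem_cl (Or.inr (Or.inr rfl))
  have hzH : ζ ∈ H := zeta_mem_cl _
  have hz : ∀ g x : A, g * (ζ * x) = ζ * (g * x) := fun g x => by
    rw [← mul_assoc, ← hr.central hζ g, mul_assoc]
  have hzz : ∀ x : A, ζ * (ζ * x) = x := fun x => by rw [← mul_assoc, hζ.2, one_mul]
  -- `p q` for adjacent `p, q` cubes to `ζ` after squaring the first
  have hcube : ∀ p q : A, Ord3 p → Ord3 q → Adj ζ p q →
      Ord3 (ζ * (p * p * q)) := by
    intro p q hp hq hpq
    have hs := hpq.swap hζ hp hq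
    have hpqp : p * q * p = ζ * (q * q) := by
      rw [hs, mul_assoc, mul_assoc (q * q), hp.1, mul_one]
    refine ⟨?_, fun h => ?_⟩
    · have h3 : ∀ u v : A, (ζ * u) * (ζ * v) = u * v := fun u v => by rw [mul_assoc, hz, hzz]
      rw [h3, ← hz, ← mul_assoc]
      have e : p * p * q * (p * p * q) * (p * p * q) = p * (p * q * p) * (p * q * p) * (p * q) := by
        simp only [mul_assoc]
      rw [hz, mul_assoc, e, hpqp]
      have e2 : p * (ζ * (q * q)) * (ζ * (q * q)) * (p * q) = p * (q * q * (q * q)) * (p * q) := by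
        rw [mul_assoc p, mul_assoc ζ, hz (q * q), hzz]
      rw [e2, hq.sq_sq, show p * q * (p * q) = ζ from hpq, hζ.2]
    · have h' : q = ζ * p := by
        calc q = ζ * ζ * (p * p * p) * q := by rw [hζ.2, hp.1, one_mul, one_mul]
          _ = ζ * p * (ζ * (p * p * q)) := by rw [mul_assoc ζ p, hz p]; simp only [mul_assoc]
          _ = ζ * p := by rw [h, mul_one]
      have h3 : ∀ u v : A, (ζ * u) * (ζ * v) = u * v := fun u v => by rw [mul_assoc, hz, hzz]
      have := hq.1
      rw [h', h3, hz, hp.1, mul_one] at this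
      exact hζ.1 this
  have h1 := hcube a c ha hc hac
  have h2 : Ord3 (ζ * (w * (d * d))) := by
    have h2' := (hcube d w hd hw (hwd.symm hr hζ)).conj w
    have e : w * (ζ * (d * d * w)) * w⁻¹ = ζ * (w * (d * d)) := by
      rw [hz]; simp [mul_assoc]
    rwa [e] at h2'
  have hcomm : Commute (ζ * (a * a * c)) (ζ * (w * (d * d))) := by
    have hm : a * a * c * (w * (d * d)) = w * (d * d) * (a * a * c) := by
      have s1 := (hwc.symm hr hζ).swap hζ hc hw
      have s2 := hwa.swap hζ hw ha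
      have s3 := (hcd.symm hr hζ).swap hζ hd hc
      have s4 := had.swap hζ ha hd
      calc a * a * c * (w * (d * d)) = a * a * (c * w) * (d * d) := by simp only [mul_assoc]
        _ = ζ * ((a * a * (w * w)) * (c * c * (d * d))) := by
          rw [s1, hz]; simp only [mul_assoc]
        _ = ζ * ((ζ * (w * a)) * (ζ * (d * c))) := by rw [s2, s3, hzz, hzz]
        _ = ζ * (w * (a * d) * c) := by
          rw [mul_assoc ζ (w * a), hz (w * a), hzz]; simp only [mul_assoc]
        _ = ζ * (w * (ζ * (d * d * (a * a))) * c) := by rw [s4]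
        _ = _ := by rw [hz, mul_assoc ζ, hzz]; simp only [mul_assoc]
    exact ((Commute.refl ζ).mul_left (hr.central hζ _).symm).mul_right
      (Commute.mul_left (hr.central hζ _) hm)
  have hmem : ζ * (w * (d * d)) ∈ H := by
    have hmA : ζ * (a * a * c) ∈ H := mul_mem hzH (mul_mem (mul_mem haH haH) hcH)
    rcases hr.commute_cube h1.1 h1.2 h2.1 h2.2 hcomm with e | e
    · rw [e]; exact hmA
    · rw [e]; exact mul_mem hmA hmA
  have := mul_mem (mul_mem hzH hmem) hdH
  rwa [hzz, mul_assoc, hd.1, mul_one] at this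

/-- A double cover of `A₅` contains every element of order three. -/
theorem mem_of_cover_five [Finite A] (hr : Rep ρ) (hζ : IsInv2 ζ) {B : Subgroup A}
    (hB : Cover ζ B 5) {w : A} (hw : Ord3 w) : w ∈ B := by
  obtain ⟨hzB, f, hf, hk⟩ := hB
  have hcard := Cover.card_five hζ ⟨hzB, f, hf, hk⟩
  have hcen := hr.central hζ
  by_contra hwB
  have hsq : ∀ {w : A}, Ord3 w → w ∉ B → w * w ∉ B := fun hw hwB h =>
    hwB (hw.sq_sq ▸ mul_mem h h)
  -- an edge leaving `B`
  obtain ⟨a, b, ha, hb, haB, hbB, hab⟩ :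
      ∃ a b : A, Ord3 a ∧ Ord3 b ∧ a ∈ B ∧ b ∉ B ∧ Adj ζ a b := by
    obtain ⟨a', ha'⟩ := a5_exists_cube
    obtain ⟨⟨a₀, ha₀B⟩, ha₀, -⟩ := exists_lift hk hf hcen hζ hzB ha'
    have hnc : ¬ Commute a₀ w := fun h => by
      rcases hr.commute_cube ha₀.1 ha₀.2 hw.1 hw.2 h with e | e
      · exact hwB (e ▸ ha₀B)
      · exact hwB (e ▸ mul_mem ha₀B ha₀B)
    rcases cover_pair hr hζ ha₀ hw hnc with ⟨hz, g, hg, hkg⟩ | ⟨hz, g, hg, hkg⟩
    · let A₀ : cl ζ {a₀, w} := ⟨a₀, mem_cl (Or.inl rfl)⟩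
      let W : cl ζ {a₀, w} := ⟨w, mem_cl (Or.inr rfl)⟩
      have hA := map_ord3 hkg hζ (a := A₀) ha₀
      have hW := map_ord3 hkg hζ (a := W) hw
      rcases a4_adj _ hA.1 _ hW.1 (fun h => hnc (commute_of_map hkg hr hζ (a := A₀) (b := W) hw h))
        with h | h
      · exact ⟨a₀, w, ha₀, hw, ha₀B, hwB, (adj_iff hkg hr hζ A₀ W).2 h⟩
      · rw [← map_mul] at h
        exact ⟨a₀, w * w, ha₀, hw.sq, ha₀B, hsq hw hwB, (adj_iff hkg hr hζ A₀ (W * W)).2 h⟩
    · let A₀ : cl ζ {a₀, w} := ⟨a₀, mem_cl (Or.inl rfl)⟩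
      let W : cl ζ {a₀, w} := ⟨w, mem_cl (Or.inr rfl)⟩
      have hA := map_ord3 hkg hζ (a := A₀) ha₀
      have hW := map_ord3 hkg hζ (a := W) hw
      obtain ⟨u', hu', hu1, hau, huw⟩ :=
        a5_path _ hA.1 _ hW.1 (fun h => hnc (commute_of_map hkg hr hζ (a := A₀) (b := W) hw h))
      obtain ⟨u, hu, rfl⟩ := exists_lift hkg hg hcen hζ hz ⟨hu', hu1⟩
      have hau' := (adj_iff hkg hr hζ A₀ u).2 hau
      by_cases huB : (u : A) ∈ B
      · rcases huw with h | h
        · exact ⟨u, w, hu, hw, huB, hwB, (adj_iff hkg hr hζ u W).2 h⟩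
        · rw [← map_mul] at h
          exact ⟨u, w * w, hu, hw.sq, huB, hsq hw hwB, (adj_iff hkg hr hζ u (W * W)).2 h⟩
      · exact ⟨a₀, u, ha₀, hu, ha₀B, huB, hau'⟩
  clear hwB hw w
  -- the star at `a`
  obtain ⟨c', hc3, hc1, hac', d', hd3, hd1, had', hcd'⟩ :=
    a5_star _ (map_ord3 hk hζ (a := ⟨a, haB⟩) ha).1 (map_ord3 hk hζ (a := ⟨a, haB⟩) ha).2
  obtain ⟨⟨c, hcB⟩, hc, rfl⟩ := exists_lift hk hf hcen hζ hzB ⟨hc3, hc1⟩
  obtain ⟨⟨d, hdB⟩, hd, rfl⟩ := exists_lift hk hf hcen hζ hzB ⟨hd3, hd1⟩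
  have hac : Adj ζ a c := (adj_iff hk hr hζ ⟨a, haB⟩ ⟨c, hcB⟩).2 hac'
  have had : Adj ζ a d := (adj_iff hk hr hζ ⟨a, haB⟩ ⟨d, hdB⟩).2 had'
  have hcd : Adj ζ c d := (adj_iff hk hr hζ ⟨c, hcB⟩ ⟨d, hdB⟩).2 hcd'
  clear hac' had' hcd'
  have hgen : ∀ x y z : A, Ord3 x → Ord3 y → Ord3 z → Adj ζ x y → Adj ζ x z → Adj ζ y z →
      x ∈ B → y ∈ B → z ∈ B → cl ζ {x, y, z} = B := by
    intro x y z hx hy hz hxy hxz hyz hxB hyB hzB'
    have hle : cl ζ {x, y, z} ≤ B := cl_le hzB (by rintro s (rfl | rfl | rfl) <;> assumption)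
    rcases cover_triple hr hζ hx hy hz hxy hxz with ⟨h0, g, hg, hkg⟩ | h5
    · exfalso
      let X : cl ζ {x, y, z} := ⟨x, mem_cl (Or.inl rfl)⟩
      let Y : cl ζ {x, y, z} := ⟨y, mem_cl (Or.inr (Or.inl rfl))⟩
      let Z : cl ζ {x, y, z} := ⟨z, mem_cl (Or.inr (Or.inr rfl))⟩
      exact a4_no_triangle _ (map_ord3 hkg hζ (a := X) hx).1 _ (map_ord3 hkg hζ (a := Y) hy).1
        ((adj_iff hkg hr hζ X Y).1 hxy) _ (map_ord3 hkg hζ (a := Z) hz).1
        ((adj_iff hkg hr hζ X Z).1 hxz) ((adj_iff hkg hr hζ Y Z).1 hyz)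
    · exact eq_of_le_of_card_ge hle (by rw [hcard, h5.card_five hζ])
  -- rotations of `b` adjacent to `c` and to `d`
  have hrot : ∀ c : A, Ord3 c → c ∈ B → Adj ζ a c →
      Adj ζ c b ∨ Adj ζ c (a * b * (a * a)) ∨ Adj ζ c (a * a * b * a) := by
    intro c hc hcB hac
    rcases cover_triple hr hζ ha hc hb hac hab with h4 | ⟨hz, g, hg, hkg⟩
    · exfalso
      rcases cover_pair hr hζ ha hc (not_commute_of_adj hr hζ ha hc hac) with p4 | p5
      · have hle : cl ζ {a, c} ≤ cl ζ {a, c, b} := closure_mono (by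
          rintro s (rfl | rfl | rfl) <;> simp)
        have he := eq_of_le_of_card_ge hle (by rw [h4.card_four hζ, p4.card_four hζ])
        have hbm : b ∈ cl ζ {a, c} := he ▸ mem_cl (Or.inr (Or.inr rfl))
        exact hbB (cl_le hzB (by rintro s (rfl | rfl) <;> assumption) hbm)
      · have hle : cl ζ {a, c} ≤ cl ζ {a, c, b} := closure_mono (by
          rintro s (rfl | rfl | rfl) <;> simp)
        have := Subgroup.card_dvd_of_le hle
        rw [h4.card_four hζ, p5.card_five hζ] at this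
        norm_num at this
    · let X : cl ζ {a, c, b} := ⟨a, mem_cl (Or.inl rfl)⟩
      let Y : cl ζ {a, c, b} := ⟨c, mem_cl (Or.inr (Or.inl rfl))⟩
      let Z : cl ζ {a, c, b} := ⟨b, mem_cl (Or.inr (Or.inr rfl))⟩
      have hX := map_ord3 hkg hζ (a := X) ha
      have hY := map_ord3 hkg hζ (a := Y) hc
      have hZ := map_ord3 hkg hζ (a := Z) hb
      rcases a5_turn _ hX.1 hX.2 _ hY.1 hY.2 ((adj_iff hkg hr hζ X Y).1 hac) _ hZ.1 hZ.2
        ((adj_iff hkg hr hζ X Z).1 hab) with h | h | h | h | h | h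
      · have e : b = c := eq_of_map hkg hζ hcen (a := Z) (b := Y) hb hc h
        exact absurd (e ▸ hcB) hbB
      · rw [← map_mul, ← map_mul, ← map_mul] at h
        have e := eq_of_map hkg hζ hcen (a := Z) (b := X * Y * (X * X)) hb
          (by have := hc.conj a; rwa [ha.inv_eq] at this) h
        have e' : b = a * c * (a * a) := e
        exact absurd (e' ▸ mul_mem (mul_mem haB hcB) (mul_mem haB haB)) hbB
      · rw [← map_mul, ← map_mul, ← map_mul] at h
        have e := eq_of_map hkg hζ hcen (a := Z) (b := X * X * Y * X) hb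
          (by have := hc.conj (a * a); rwa [ha.sq.inv_eq, ha.sq_sq] at this) h
        have e' : b = a * a * c * a := e
        exact absurd (e' ▸ mul_mem (mul_mem (mul_mem haB haB) hcB) haB) hbB
      · exact Or.inl ((adj_iff hkg hr hζ Y Z).2 h)
      · rw [← map_mul, ← map_mul, ← map_mul] at h
        exact Or.inr (Or.inl ((adj_iff hkg hr hζ Y (X * Z * (X * X))).2 h))
      · rw [← map_mul, ← map_mul, ← map_mul] at h
        exact Or.inr (Or.inr ((adj_iff hkg hr hζ Y (X * X * Z * X)).2 h))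
  have hrot' : ∀ c : A, Ord3 c → c ∈ B → Adj ζ a c → ∃ g ∈ zpowers a, Adj ζ c (g * b * g⁻¹) := by
    intro c hc hcB hac
    rcases hrot c hc hcB hac with h | h | h
    · exact ⟨1, one_mem _, by simpa using h⟩
    · exact ⟨a, Subgroup.mem_zpowers a, by rwa [ha.inv_eq]⟩
    · exact ⟨a * a, mul_mem (Subgroup.mem_zpowers a) (Subgroup.mem_zpowers a),
        by rwa [ha.sq.inv_eq, ha.sq_sq]⟩
  obtain ⟨g, hg, hgc⟩ := hrot' c hc hcB hac
  obtain ⟨g', hg', hgd⟩ := hrot' d hd hdB had
  have hzp : ∀ t ∈ zpowers a, t = 1 ∨ t = a ∨ t = a * a := by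
    intro t ht
    obtain ⟨n, rfl⟩ := mem_zpowers_iff.1 ht
    rw [← zpow_mod_orderOf, ha.orderOf]
    have h1 := Int.emod_nonneg n (show ((3 : ℕ) : ℤ) ≠ 0 by norm_num)
    have h2 := Int.emod_lt_of_pos n (show (0 : ℤ) < ((3 : ℕ) : ℤ) by norm_num)
    have hcase : n % ((3 : ℕ) : ℤ) = 0 ∨ n % ((3 : ℕ) : ℤ) = 1 ∨ n % ((3 : ℕ) : ℤ) = 2 := by
      push_cast at h1 h2 ⊢; omega
    rcases hcase with e | e | e <;> rw [e]
    · exact Or.inl (zpow_zero a)
    · exact Or.inr (Or.inl (zpow_one a))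
    · exact Or.inr (Or.inr (zpow_two a))
  have haB' : zpowers a ≤ B := zpowers_le.2 haB
  -- normalise: `b₁` is adjacent to `c` and `t b₁ t⁻¹` to `d`
  set b₁ := g * b * g⁻¹ with hb₁def
  have hb₁ : Ord3 b₁ := hb.conj g
  have hb₁B : b₁ ∉ B := fun h => hbB (by
    have := mul_mem (mul_mem (inv_mem (haB' hg)) h) (haB' hg)
    simpa [hb₁def, mul_assoc] using this)
  have hfix : ∀ t ∈ zpowers a, t * a * t⁻¹ = a := by
    intro t ht
    obtain ⟨n, rfl⟩ := mem_zpowers_iff.1 ht
    rw [(Commute.zpow_self a n).eq, mul_inv_cancel_right]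
  have hab₁ : Adj ζ a b₁ := by
    have := hab.conj hr hζ g
    rwa [hfix g hg] at this
  have hdd : Adj ζ d (g' * g⁻¹ * b₁ * (g' * g⁻¹)⁻¹) := by
    have e : g' * g⁻¹ * b₁ * (g' * g⁻¹)⁻¹ = g' * b * g'⁻¹ := by rw [hb₁def]; group
    rwa [e]
  -- the case of one step
  have main : ∀ c d b : A, Ord3 c → Ord3 d → Ord3 b → c ∈ B → d ∈ B → b ∉ B → Adj ζ a c →
      Adj ζ a d → Adj ζ c d → Adj ζ a b → Adj ζ c b → Adj ζ d (a * b * a⁻¹) → False := by
    intro c d b hc hd hb hcB hdB hbB hac had hcd hab hcb hdb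
    set d₁ := a⁻¹ * d * a with hd₁
    have hd₁' : Ord3 d₁ := by
      have := hd.conj a⁻¹
      rwa [inv_inv] at this
    have hda : Adj ζ a d₁ := by
      have := had.conj hr hζ a⁻¹
      rwa [inv_inv, inv_mul_cancel, one_mul] at this
    have hdb' : Adj ζ b d₁ := by
      have := (hdb.symm hr hζ).conj hr hζ a⁻¹
      rwa [inv_inv, show a⁻¹ * (a * b * a⁻¹) * a = b by group] at this
    have hcd₁ : Adj ζ c (a * d₁ * a⁻¹) := by
      rwa [hd₁, show a * (a⁻¹ * d * a) * a⁻¹ = d by group]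
    have hm := star hr hζ ha hb hc hd₁' hab hac (hcb.symm hr hζ) hda hdb' hcd₁
    have hdm : d ∈ cl ζ {a, b, c} := by
      have haH : a ∈ cl ζ {a, b, c} := mem_cl (Or.inl rfl)
      have := mul_mem (mul_mem haH hm) (inv_mem haH)
      rwa [hd₁, show a * (a⁻¹ * d * a) * a⁻¹ = d by group] at this
    have hBeq := hgen a c d ha hc hd hac had hcd haB hcB hdB
    have hBH : B ≤ cl ζ {a, b, c} := by
      rw [← hBeq]
      refine cl_le (zeta_mem_cl _) ?_
      rintro s (rfl | rfl | rfl)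
      exacts [mem_cl (Or.inl rfl), mem_cl (Or.inr (Or.inr rfl)), hdm]
    rcases cover_triple hr hζ ha hb hc hab hac with h4 | h5
    · have := card_dvd_of_le hBH
      rw [hcard, h4.card_four hζ] at this
      norm_num at this
    · exact hbB ((eq_of_le_of_card_ge hBH (by rw [hcard, h5.card_five hζ])).symm ▸
        mem_cl (Or.inr (Or.inl rfl)))
  rcases hzp _ (mul_mem hg' (inv_mem hg)) with e | e | e <;> rw [e] at hdd
  · rw [one_mul, inv_one, mul_one] at hdd
    refine hb₁B ?_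
    rw [← hgen a c d ha hc hd hac had hcd haB hcB hdB]
    exact mem_of_adj_three hr hζ ha hc hd hb₁ hac had hcd (hab₁.symm hr hζ) (hgc.symm hr hζ)
      (hdd.symm hr hζ)
  · exact main c d b₁ hc hd hb₁ hcB hdB hb₁B hac had hcd hab₁ hgc hdd
  · set b₂ := a * a * b₁ * (a * a)⁻¹ with hb₂
    refine main d c b₂ hd hc (hb₁.conj _) hdB hcB (fun h => hb₁B ?_) had hac (hcd.symm hr hζ) ?_
      hdd ?_
    · have := mul_mem (mul_mem (inv_mem (mul_mem haB haB)) h) (mul_mem haB haB)
      simpa [hb₂, mul_assoc] using this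
    · have := hab₁.conj hr hζ (a * a)
      rwa [hfix _ (mul_mem (Subgroup.mem_zpowers a) (Subgroup.mem_zpowers a))] at this
    · have e' : a * b₂ * a⁻¹ = b₁ := by
        rw [hb₂]
        calc a * (a * a * b₁ * (a * a)⁻¹) * a⁻¹ = a * a * a * b₁ * (a * a * a)⁻¹ := by group
          _ = b₁ := by rw [ha.1]; group
      rwa [e']

/-- Either a double cover of `A₅` exists, or all elements of order three lie in one small
subgroup. -/
theorem dichotomy [Finite A] (hr : Rep ρ) (hζ : IsInv2 ζ) :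
    (∃ B : Subgroup A, Cover ζ B 5) ∨ (∀ x y : A, Ord3 x → Ord3 y → Commute x y) ∨
      ∃ N : Subgroup A, Nat.card N = 24 ∧ ∀ x : A, Ord3 x → x ∈ N := by
  by_contra hcon
  simp only [not_or, not_forall, not_exists, not_and] at hcon
  obtain ⟨h5, ⟨x, y, hx, hy, hxy⟩, hN⟩ := hcon
  have hadj : ∀ {z : A}, Ord3 z → ¬ Commute x z →
      ∃ z', Ord3 z' ∧ (z' = z ∨ z' = z * z) ∧ z ∈ cl ζ {z'} ∧ Adj ζ x z' := by
    intro z hz hxz
    rcases cover_pair hr hζ hx hz hxz with ⟨hz0, g, hg, hkg⟩ | h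
    · let X : cl ζ {x, z} := ⟨x, mem_cl (Or.inl rfl)⟩
      let Z : cl ζ {x, z} := ⟨z, mem_cl (Or.inr rfl)⟩
      rcases a4_adj _ (map_ord3 hkg hζ (a := X) hx).1 _ (map_ord3 hkg hζ (a := Z) hz).1
        (fun h => hxz (commute_of_map hkg hr hζ (a := X) (b := Z) hz h)) with h | h
      · exact ⟨z, hz, Or.inl rfl, mem_cl rfl, (adj_iff hkg hr hζ X Z).2 h⟩
      · rw [← map_mul] at h
        refine ⟨z * z, hz.sq, Or.inr rfl, ?_, (adj_iff hkg hr hζ X (Z * Z)).2 h⟩
        have hm : z * z ∈ cl ζ {z * z} := mem_cl rfl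
        have := mul_mem hm hm
        rwa [hz.sq_sq] at this
    · exact absurd h (h5 _)
  obtain ⟨y', hy', hy'e, -, hay⟩ := hadj hy hxy
  rcases cover_pair hr hζ hx hy' (not_commute_of_adj hr hζ hx hy' hay) with hK | hK
  · obtain ⟨z, hz, hzK⟩ := hN (cl ζ {x, y'}) (hK.card_four hζ)
    apply hzK
    by_cases hc : Commute x z
    · rcases hr.commute_cube hx.1 hx.2 hz.1 hz.2 hc with e | e
      · rw [e]; exact mem_cl (Or.inl rfl)
      · rw [e]; exact mul_mem (mem_cl (Or.inl rfl)) (mem_cl (Or.inl rfl))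
    · obtain ⟨z', hz', -, hzz, haz⟩ := hadj hz hc
      rcases cover_triple hr hζ hx hy' hz' hay haz with h4 | h
      · have hle : cl ζ {x, y'} ≤ cl ζ {x, y', z'} := closure_mono (by
          rintro s (rfl | rfl | rfl) <;> simp)
        rw [eq_of_le_of_card_ge hle (by rw [h4.card_four hζ, hK.card_four hζ])]
        refine (cl_le (zeta_mem_cl _) ?_ : cl ζ {z'} ≤ _) hzz
        rintro s rfl
        exact mem_cl (Or.inr (Or.inr rfl))
      · exact (h5 _ h).elim
  · exact h5 _ hK

end Cfsg.Agent.FPFStructure
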