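import Cfsg.Agent.FPFStructure.Struct

set_option autoImplicit false
set_option linter.style.haveILetI false

/-!
Groups with all Sylow subgroups cyclic: generators, and their presentation.
-/

namespace Cfsg.Agent.FPFStructure

universe u

open Subgroup

/-- Elements of distinct prime orders, the first normalised by the second, commute. -/
def PrimeComm (G : Type u) [Group G] : Prop :=
  ∀ (p q : ℕ), p.Prime → q.Prime → p ≠ q → ∀ a b : G, orderOf a = p → orderOf b = q →
    b * a * b⁻¹ ∈ zpowers a → Commute a b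

theorem primeComm_of_fc {G : Type u} [Group G] [Finite G]
    (hFC : ∃ (L : Type) (_ : Group L) (_ : Finite L) (H : Subgroup L),
      Cfsg.IsFrobeniusComplement H ∧ Nonempty (G ≃* H)) : PrimeComm G := by
  obtain ⟨L, _, _, H, hF, ⟨e⟩⟩ := hFC
  obtain ⟨K, -, hKn, hc⟩ := Frobenius.exists_frobeniusKernel_subgroup hF
  haveI := hKn
  have hfpf : Frobenius.IsFPF H K :=
    Frobenius.isFPF_of_normal (Frobenius.fixedPointFree_of_isFrobeniusComplement hc hF)
  have hKb : K ≠ ⊥ := by
    intro h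
    have h1 := Frobenius.two_le_index hF
    rw [hc.index_eq_card, h, Subgroup.card_bot] at h1
    omega
  intro p q hp hq hpq a b ha hb hn
  have h := hfpf.commute_of_prime_orders hKb hp hq hpq (e a).2 (e b).2
    (by rw [orderOf_coe, MulEquiv.orderOf_eq, ha]) (by rw [orderOf_coe, MulEquiv.orderOf_eq, hb]) (by
      obtain ⟨i, hi⟩ := mem_zpowers_iff.1 hn
      refine mem_zpowers_iff.2 ⟨i, ?_⟩
      rw [← SubgroupClass.coe_zpow, ← map_zpow, hi]
      simp)
  refine e.injective (Subtype.ext ?_)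
  rw [map_mul, map_mul]
  exact h

theorem PrimeComm.comap {G : Type u} [Group G] (h : PrimeComm G) (N : Subgroup G) :
    PrimeComm N := by
  intro p q hp hq hpq a b ha hb hn
  refine Subtype.ext (h p q hp hq hpq (a : G) (b : G) (by rw [orderOf_coe, ha])
    (by rw [orderOf_coe, hb]) ?_)
  obtain ⟨i, hi⟩ := mem_zpowers_iff.1 hn
  exact mem_zpowers_iff.2 ⟨i, by simpa using congrArg Subtype.val hi⟩

/-- Generators of a group with cyclic Sylow subgroups. -/
theorem exists_gens {G : Type u} [Group G] [Finite G] [IsZGroup G] :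
    ∃ (x y : G) (r : ℕ), closure {x, y} = ⊤ ∧ x⁻¹ * y * x = y ^ r ∧
      Nat.Coprime (r - 1) (orderOf y) ∧ Nat.Coprime (orderOf x) (orderOf y) ∧ 1 ≤ r ∧
      r ^ orderOf x % orderOf y = 1 % orderOf y ∧ orderOf x * orderOf y = Nat.card G := by
  set N := commutator G
  have hcop : (Nat.card N).Coprime N.index := IsZGroup.coprime_commutator_index G
  obtain ⟨K, hK⟩ := exists_right_complement'_of_coprime hcop
  haveI : IsCyclic N := IsZGroup.isCyclic_commutator G
  let eK : K ≃* G ⧸ N := hK.symm.QuotientMulEquiv.symm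
  haveI : IsCyclic K := by
    haveI : IsCyclic (G ⧸ N) := (inferInstance : IsCyclic (Abelianization G))
    exact isCyclic_of_surjective eK.symm eK.symm.surjective
  obtain ⟨x, hx⟩ := IsCyclic.exists_ofOrder_eq_natCard (α := K)
  obtain ⟨y, hy⟩ := IsCyclic.exists_ofOrder_eq_natCard (α := N)
  have hxz : zpowers (x : G) = K :=
    eq_of_le_of_card_ge (zpowers_le.2 x.2) (by rw [Nat.card_zpowers, orderOf_coe, hx])
  have hyz : zpowers (y : G) = N :=
    eq_of_le_of_card_ge (zpowers_le.2 y.2) (by rw [Nat.card_zpowers, orderOf_coe, hy])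
  have hmemy : (x : G)⁻¹ * y * ((x : G)⁻¹)⁻¹ ∈ zpowers (y : G) := by
    rw [hyz]; exact (inferInstance : N.Normal).conj_mem (y : G) y.2 (x : G)⁻¹
  obtain ⟨i, hi⟩ := mem_zpowers_iff.1 hmemy
  rw [inv_inv] at hi
  set m := orderOf (y : G)
  have hm : 0 < m := orderOf_pos _
  -- a positive exponent
  set r := (i % (m : ℤ)).toNat + m
  have hr : (x : G)⁻¹ * y * x = (y : G) ^ r := by
    rw [← hi, pow_add, pow_orderOf_eq_one, mul_one, ← zpow_natCast,
      Int.toNat_of_nonneg (Int.emod_nonneg _ (by omega)), zpow_mod_orderOf]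
  have hgen : closure ({(x : G), (y : G)} : Set G) = ⊤ := by
    refine top_unique ?_
    rw [← hK.sup_eq_top]
    exact sup_le (hyz.ge.trans (zpowers_le.2 (subset_closure (Or.inr rfl))))
      (hxz.ge.trans (zpowers_le.2 (subset_closure (Or.inl rfl))))
  have hr1 : 1 ≤ r := by omega
  have hiter : ∀ j : ℕ, ((x : G) ^ j)⁻¹ * y * (x : G) ^ j = (y : G) ^ r ^ j := by
    intro j
    induction j with
    | zero => simp
    | succ j ih =>
      calc ((x : G) ^ (j + 1))⁻¹ * y * (x : G) ^ (j + 1)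
          = (x : G)⁻¹ * (((x : G) ^ j)⁻¹ * y * (x : G) ^ j) * ((x : G)⁻¹)⁻¹ := by
            rw [pow_succ]; group
        _ = ((x : G)⁻¹ * y * ((x : G)⁻¹)⁻¹) ^ r ^ j := by rw [ih, conj_pow]
        _ = _ := by rw [inv_inv, hr, ← pow_mul, pow_succ']
  refine ⟨x, y, r, hgen, hr, ?_, ?_, hr1, ?_, ?_⟩
  · -- the commutator subgroup is generated by `y ^ (r - 1)`
    set M := zpowers ((y : G) ^ (r - 1))
    haveI hMn : M.Normal := by
      refine ⟨fun g hg k => ?_⟩
      obtain ⟨t, rfl⟩ := mem_zpowers_iff.1 hg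
      have hky : k * (y : G) * k⁻¹ ∈ zpowers (y : G) := by
        rw [hyz]; exact (inferInstance : N.Normal).conj_mem (y : G) y.2 k
      obtain ⟨s', hs'⟩ := mem_zpowers_iff.1 hky
      refine mem_zpowers_iff.2 ⟨s' * t, ?_⟩
      rw [← zpow_natCast, ← conj_zpow, ← conj_zpow, ← hs', ← zpow_mul, ← zpow_mul, ← zpow_mul]
      congr 1
      ring
    have hle : N ≤ M := by
      refine Normal.quotient_commutative_iff_commutator_le.1 ?_
      have hxy : Commute (QuotientGroup.mk' M (x : G)) (QuotientGroup.mk' M (y : G)) := by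
        have h1 : QuotientGroup.mk' M ((y : G) ^ (r - 1)) = 1 :=
          (QuotientGroup.eq_one_iff _).2 (Subgroup.mem_zpowers _)
        have h2 : QuotientGroup.mk' M ((x : G)⁻¹ * y * x) = QuotientGroup.mk' M (y : G) := by
          rw [hr, show r = (r - 1) + 1 by omega, pow_succ, map_mul, h1, one_mul]
        rw [map_mul, map_mul, map_inv] at h2
        rw [commute_iff_eq]
        calc QuotientGroup.mk' M (x : G) * QuotientGroup.mk' M (y : G)
            = QuotientGroup.mk' M (x : G) * ((QuotientGroup.mk' M (x : G))⁻¹ *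
              QuotientGroup.mk' M (y : G) * QuotientGroup.mk' M (x : G)) := by rw [h2]
          _ = _ := by group
      have hc : ∀ a : G, Commute (QuotientGroup.mk' M (x : G)) (QuotientGroup.mk' M a) ∧
          Commute (QuotientGroup.mk' M (y : G)) (QuotientGroup.mk' M a) := by
        intro a
        have ha : a ∈ closure ({(x : G), (y : G)} : Set G) := hgen ▸ mem_top a
        induction ha using closure_induction with
        | mem w hw => rcases hw with rfl | rfl; exacts [⟨Commute.refl _, hxy.symm⟩, ⟨hxy, Commute.refl _⟩]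
        | one => rw [map_one]; exact ⟨Commute.one_right _, Commute.one_right _⟩
        | mul a b _ _ ha hb => rw [map_mul]; exact ⟨ha.1.mul_right hb.1, ha.2.mul_right hb.2⟩
        | inv a _ ha => rw [map_inv]; exact ⟨ha.1.inv_right, ha.2.inv_right⟩
      refine ⟨⟨fun a b => ?_⟩⟩
      obtain ⟨a, rfl⟩ := QuotientGroup.mk'_surjective M a
      obtain ⟨b, rfl⟩ := QuotientGroup.mk'_surjective M b
      have ha : a ∈ closure ({(x : G), (y : G)} : Set G) := hgen ▸ mem_top a
      induction ha using closure_induction with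
      | mem w hw => rcases hw with rfl | rfl; exacts [(hc b).1.eq, (hc b).2.eq]
      | one => simp
      | mul p q _ _ hp hq =>
        rw [map_mul]
        exact ((show Commute _ _ from hp).mul_left (show Commute _ _ from hq)).eq
      | inv p _ hp => rw [map_inv]; exact (show Commute _ _ from hp).inv_left.eq
    have hymem : (y : G) ∈ zpowers ((y : G) ^ (r - 1)) := hle y.2
    rw [mem_zpowers_pow_iff] at hymem
    exact hymem
  · rw [orderOf_coe, hx]
    show (Nat.card K).Coprime (orderOf (y : G))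
    rw [orderOf_coe, hy, ← hK.symm.index_eq_card]
    exact hcop.symm
  · have h := hiter (orderOf (x : G))
    rw [pow_orderOf_eq_one, inv_one, one_mul, mul_one] at h
    exact (pow_eq_pow_iff_modEq.1 (h.symm.trans (pow_one _).symm))
  · rw [orderOf_coe, orderOf_coe, hx, hy, mul_comm]
    exact hK.card_mul

theorem pow_div_prime_central {G : Type u} [Group G] (hpc : PrimeComm G) {x y : G}
    (hy0 : orderOf y ≠ 0) (hcop : Nat.Coprime (orderOf x) (orderOf y))
    {r : ℕ} (hr : x⁻¹ * y * x = y ^ r) {q : ℕ} (hq : q.Prime) (hqn : q ∣ orderOf x)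
    (hx0 : orderOf x ≠ 0) : Commute y (x ^ (orderOf x / q)) := by
  set m := orderOf y
  set b := x ^ (orderOf x / q) with hb
  have hbo : orderOf b = q := orderOf_pow_orderOf_div hx0 hqn
  obtain ⟨s, hs⟩ : ∃ s : ℕ, b⁻¹ * y * b = y ^ s := by
    refine ⟨r ^ (orderOf x / q), ?_⟩
    rw [hb]
    induction (orderOf x / q) with
    | zero => simp
    | succ j ih =>
      calc (x ^ (j + 1))⁻¹ * y * x ^ (j + 1) = x⁻¹ * ((x ^ j)⁻¹ * y * x ^ j) * (x⁻¹)⁻¹ := by
            rw [pow_succ]; group
        _ = (x⁻¹ * y * (x⁻¹)⁻¹) ^ r ^ j := by rw [ih, conj_pow]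
        _ = _ := by rw [inv_inv, hr, ← pow_mul, pow_succ']
  have hiter : ∀ j : ℕ, (b ^ j)⁻¹ * y * b ^ j = y ^ s ^ j := by
    intro j
    induction j with
    | zero => simp
    | succ j ih =>
      calc (b ^ (j + 1))⁻¹ * y * b ^ (j + 1) = b⁻¹ * ((b ^ j)⁻¹ * y * b ^ j) * (b⁻¹)⁻¹ := by
            rw [pow_succ]; group
        _ = (b⁻¹ * y * (b⁻¹)⁻¹) ^ s ^ j := by rw [ih, conj_pow]
        _ = _ := by rw [inv_inv, hs, ← pow_mul, pow_succ']
  have hq1 : y ^ s ^ q = y ^ 1 := by
    have := hiter q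
    rw [← hbo, pow_orderOf_eq_one, inv_one, one_mul, mul_one, hbo] at this
    rw [pow_one, ← this]
  -- at every prime divisor of `m`, `s ≡ 1`
  have hp1 : ∀ p : ℕ, p.Prime → p ∣ m → (s : ZMod p) = 1 := by
    intro p hp hpm
    set a := y ^ (m / p) with ha
    have hao : orderOf a = p := orderOf_pow_orderOf_div hy0 hpm
    have hpq : p ≠ q := fun e => hp.ne_one
      (Nat.eq_one_of_dvd_coprimes hcop (e ▸ hqn) hpm)
    have hba : b⁻¹ * a * b = a ^ s := by
      have := congrArg (fun z => z ^ (m / p)) hs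
      rw [← pow_mul, mul_comm s, pow_mul] at this
      rw [ha, ← this]
      have h : (b⁻¹ * y * (b⁻¹)⁻¹) ^ (m / p) = b⁻¹ * y ^ (m / p) * (b⁻¹)⁻¹ := conj_pow
      rw [inv_inv] at h
      rw [h]
    have hcomm : Commute a b⁻¹ := hpc p q hp hq hpq a b⁻¹ hao (by rw [orderOf_inv, hbo]) (by
      rw [inv_inv, hba]; exact pow_mem (Subgroup.mem_zpowers a) _)
    have : a ^ s = a ^ 1 := by rw [← hba, ← hcomm.eq, inv_mul_cancel_right, pow_one]
    rw [pow_eq_pow_iff_modEq, hao, ← ZMod.natCast_eq_natCast_iff, Nat.cast_one] at this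
    exact this
  have hm1 : (s : ℤ) - 1 ≡ 0 [ZMOD m] := by
    have hd : (m : ℤ) ∣ (∑ i ∈ Finset.range q, (s : ℤ) ^ i) * ((s : ℤ) - 1) := by
      rw [geom_sum_mul]
      have := pow_eq_pow_iff_modEq.1 hq1
      have h' := (Int.natCast_modEq_iff.2 this).symm.dvd
      push_cast at h'
      exact h'
    have hcs : IsCoprime (m : ℤ) (∑ i ∈ Finset.range q, (s : ℤ) ^ i) := by
      rw [Int.isCoprime_iff_gcd_eq_one]
      show Nat.Coprime (Int.natAbs (m : ℤ)) _
      refine Nat.coprime_of_dvd fun p hp h1 h2 => ?_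
      rw [Int.natAbs_natCast] at h1
      haveI := Fact.mk hp
      have h3 : ((∑ i ∈ Finset.range q, (s : ℤ) ^ i : ℤ) : ZMod p) = 0 :=
        (ZMod.intCast_zmod_eq_zero_iff_dvd _ p).2 (Int.natCast_dvd.2 h2)
      push_cast at h3
      simp only [hp1 p hp h1, one_pow, Finset.sum_const, Finset.card_range, nsmul_eq_mul, mul_one,
        ZMod.natCast_eq_zero_iff, Nat.prime_dvd_prime_iff_eq hp hq] at h3
      exact hp.ne_one (Nat.eq_one_of_dvd_coprimes hcop (h3 ▸ hqn) h1)
    exact (Int.modEq_zero_iff_dvd).2 (hcs.dvd_of_dvd_mul_left hd)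
  have hfix : b⁻¹ * y * b = y := by
    rw [hs]
    have h' : (y : G) ^ ((s : ℤ) - 1) = 1 := by
      rw [← orderOf_dvd_iff_zpow_eq_one]; exact (Int.modEq_zero_iff_dvd).1 hm1
    rwa [zpow_sub, zpow_natCast, zpow_one, mul_inv_eq_one] at h'
  calc y * b = b * (b⁻¹ * y * b) := by group
    _ = b * y := by rw [hfix]

theorem pow_radical_central {G : Type u} [Group G] (hpc : PrimeComm G) {x y : G}
    (hy0 : orderOf y ≠ 0) (hcop : Nat.Coprime (orderOf x) (orderOf y))
    {r : ℕ} (hr : x⁻¹ * y * x = y ^ r) (hx0 : orderOf x ≠ 0) :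
    Commute y (x ^ (orderOf x / ∏ p ∈ (orderOf x).primeFactors, p)) := by
  classical
  set n := orderOf x
  suffices h : ∀ s : Finset ℕ, s ⊆ n.primeFactors →
      Commute y (x ^ (n / ∏ p ∈ s, p)) from h _ subset_rfl
  intro s
  induction s using Finset.induction_on with
  | empty => intro _; rw [Finset.prod_empty, Nat.div_one, pow_orderOf_eq_one]; exact Commute.one_right y
  | insert q t hqt ih =>
    intro hsub
    obtain ⟨hq, ht⟩ := Finset.insert_subset_iff.1 hsub
    have hqp := Nat.prime_of_mem_primeFactors hq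
    rw [Finset.prod_insert hqt]
    set P := ∏ p ∈ t, p
    have hqP : q.Coprime P := Nat.Coprime.prod_right fun p hp =>
      (Nat.coprime_primes hqp (Nat.prime_of_mem_primeFactors (ht hp))).2 fun e => hqt (e ▸ hp)
    have hdvd : q * P ∣ n := by
      have h1 : ∏ p ∈ insert q t, p ∣ ∏ p ∈ n.primeFactors, p :=
        Finset.prod_dvd_prod_of_subset _ _ _ hsub
      rw [Finset.prod_insert hqt] at h1
      exact h1.trans (Nat.prod_primeFactors_dvd n)
    obtain ⟨k, hk⟩ := hdvd
    have hpos : 0 < q * P := Nat.pos_of_ne_zero fun h => hx0 (hk.trans (by rw [h, zero_mul]))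
    have hPpos : 0 < P := Nat.pos_of_ne_zero fun h => by rw [h, mul_zero] at hpos; omega
    have e1 : n / (q * P) = k := by rw [hk, Nat.mul_div_cancel_left _ hpos]
    have e2 : n / q = P * k := by rw [hk, mul_assoc, Nat.mul_div_cancel_left _ hqp.pos]
    have e3 : n / P = q * k := by
      rw [hk, mul_assoc, mul_left_comm, Nat.mul_div_cancel_left _ hPpos]
    have h1 := pow_div_prime_central hpc hy0 hcop hr hqp (Nat.dvd_of_mem_primeFactors hq) hx0
    have h2 := ih ht
    rw [e2] at h1
    rw [e3] at h2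
    rw [e1]
    obtain ⟨a, b, hab⟩ := hqP.isCoprime
    have hexp : x ^ k = (x ^ (q * k)) ^ a * (x ^ (P * k)) ^ b := by
      rw [← zpow_natCast, ← zpow_natCast x (q * k), ← zpow_natCast x (P * k), ← zpow_mul, ← zpow_mul,
        ← zpow_add]
      congr 1
      push_cast
      linear_combination (-(k : ℤ)) * hab
    rw [hexp]
    exact (h2.zpow_right a).mul_right (h1.zpow_right b)

/-- The metacyclic relations. -/
def metaRels (n m r : ℕ) : Set (FreeGroup (Fin 2)) :=
  {FreeGroup.of (0 : Fin 2) ^ n, FreeGroup.of (1 : Fin 2) ^ m,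
    (FreeGroup.of (0 : Fin 2))⁻¹ * FreeGroup.of 1 * FreeGroup.of 0 *
      (FreeGroup.of (1 : Fin 2) ^ r)⁻¹}

theorem equiv_presented {G : Type u} [Group G] [Finite G] {x y : G} {r : ℕ}
    (hgen : closure ({x, y} : Set G) = ⊤) (hr : x⁻¹ * y * x = y ^ r)
    (hcard : orderOf x * orderOf y = Nat.card G) :
    Nonempty (G ≃* PresentedGroup (metaRels (orderOf x) (orderOf y) r)) := by
  set n := orderOf x
  set m := orderOf y
  have hn : 0 < n := orderOf_pos x
  have hm : 0 < m := orderOf_pos y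
  let f : Fin 2 → G := ![x, y]
  have hrel : ∀ w ∈ metaRels n m r, FreeGroup.lift f w = 1 := by
    rintro w (rfl | rfl | rfl) <;>
      simp only [map_mul, map_pow, map_inv, FreeGroup.lift_apply_of, f, Matrix.cons_val]
    · exact pow_orderOf_eq_one x
    · exact pow_orderOf_eq_one y
    · rw [hr, mul_inv_cancel]
  let φ : PresentedGroup (metaRels n m r) →* G := PresentedGroup.toGroup hrel
  let X : PresentedGroup (metaRels n m r) := PresentedGroup.of 0
  let Y : PresentedGroup (metaRels n m r) := PresentedGroup.of 1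
  have h1 : X ^ n = 1 := PresentedGroup.one_of_mem (rels := metaRels n m r)
    (x := FreeGroup.of (0 : Fin 2) ^ n) (Or.inl rfl)
  have h2 : Y ^ m = 1 := PresentedGroup.one_of_mem (rels := metaRels n m r)
    (x := FreeGroup.of (1 : Fin 2) ^ m) (Or.inr (Or.inl rfl))
  have h3 : X⁻¹ * Y * X * (Y ^ r)⁻¹ = 1 := PresentedGroup.one_of_mem (rels := metaRels n m r)
    (x := (FreeGroup.of (0 : Fin 2))⁻¹ * FreeGroup.of 1 * FreeGroup.of 0 *
      (FreeGroup.of (1 : Fin 2) ^ r)⁻¹) (Or.inr (Or.inr rfl))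
  have h3' : Y * X = X * Y ^ r := by
    rw [← mul_inv_eq_one.1 h3]; group
  have hY : ∀ j : ℕ, Y ^ j * X = X * Y ^ (r * j) := by
    intro j
    induction j with
    | zero => simp
    | succ j ih =>
      rw [pow_succ, mul_assoc, h3', ← mul_assoc, ih, mul_assoc, ← pow_add, Nat.mul_succ]
  let F : Fin n × Fin m → PresentedGroup (metaRels n m r) := fun p => X ^ p.1.1 * Y ^ p.2.1
  have hF : ∀ i j : ℕ, X ^ i * Y ^ j ∈ Set.range F := fun i j =>
    ⟨(⟨i % n, Nat.mod_lt _ hn⟩, ⟨j % m, Nat.mod_lt _ hm⟩), by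
      show X ^ (i % n) * Y ^ (j % m) = _
      rw [← pow_eq_pow_mod i h1, ← pow_eq_pow_mod j h2]⟩
  have hmulX : ∀ g ∈ Set.range F, g * X ∈ Set.range F := by
    rintro _ ⟨⟨i, j⟩, rfl⟩
    show X ^ (i : ℕ) * Y ^ (j : ℕ) * X ∈ _
    rw [mul_assoc, hY, ← mul_assoc, ← pow_succ]
    exact hF _ _
  have hmulY : ∀ g ∈ Set.range F, g * Y ∈ Set.range F := by
    rintro _ ⟨⟨i, j⟩, rfl⟩
    show X ^ (i : ℕ) * Y ^ (j : ℕ) * Y ∈ _
    rw [mul_assoc, ← pow_succ]
    exact hF _ _
  have hpw : ∀ w, (∀ g ∈ Set.range F, g * w ∈ Set.range F) → ∀ (k : ℕ), ∀ g ∈ Set.range F,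
      g * w ^ k ∈ Set.range F := by
    intro w hw k
    induction k with
    | zero => simp
    | succ k ih => intro g hg; rw [pow_succ, ← mul_assoc]; exact hw _ (ih g hg)
  have hall : Function.Surjective F := by
    intro g
    have hg : g ∈ closure (Set.range (PresentedGroup.of (rels := metaRels n m r))) :=
      (PresentedGroup.closure_range_of _).symm ▸ mem_top g
    induction hg using closure_induction_right with
    | one => exact hF 0 0 |>.imp fun p hp => hp.trans (by simp)
    | mul_right a _ w hw ih =>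
      obtain ⟨i, rfl⟩ := hw
      fin_cases i
      exacts [hmulX a ih, hmulY a ih]
    | mul_inv_cancel a _ w hw ih =>
      obtain ⟨i, rfl⟩ := hw
      fin_cases i
      · show a * X⁻¹ ∈ Set.range F
        rw [show X⁻¹ = X ^ (n - 1) from inv_eq_of_mul_eq_one_left
          (by rw [← pow_succ, Nat.sub_add_cancel hn, h1])]
        exact hpw X hmulX _ a ih
      · show a * Y⁻¹ ∈ Set.range F
        rw [show Y⁻¹ = Y ^ (m - 1) from inv_eq_of_mul_eq_one_left
          (by rw [← pow_succ, Nat.sub_add_cancel hm, h2])]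
        exact hpw Y hmulY _ a ih
  haveI := Finite.of_surjective F hall
  have hle : Nat.card (PresentedGroup (metaRels n m r)) ≤ Nat.card G := by
    rw [← hcard]
    simpa using Nat.card_le_card_of_surjective F hall
  have hsurj : Function.Surjective φ := by
    rw [← MonoidHom.range_eq_top]
    refine top_unique (hgen.ge.trans ((closure_le _).2 ?_))
    rintro w (rfl | rfl)
    · exact ⟨X, PresentedGroup.toGroup.of hrel⟩
    · exact ⟨Y, PresentedGroup.toGroup.of hrel⟩
  exact ⟨(MulEquiv.ofBijective φ ((Nat.bijective_iff_surjective_and_card φ).2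
    ⟨hsurj, le_antisymm hle (Nat.card_le_card_of_surjective φ hsurj)⟩)).symm⟩

end Cfsg.Agent.FPFStructure
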