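import Mathlib

set_option autoImplicit false
set_option maxRecDepth 100000
set_option synthInstance.maxSize 4000
set_option synthInstance.maxHeartbeats 1000000

/-!
The presentations `⟨x, y | x³, y⁵, (xy)²⟩` of `A₅` and of its double cover.
-/

namespace Cfsg.Agent.FPFStructure.Pres

open Subgroup

/-- The relations `x³ = y⁵ = 1`, `(xy)² = z` central, `z ^ m = 1`. -/
structure Rels {G : Type*} [Group G] (x y z : G) (m : ℕ) : Prop where
  cube : x * x * x = 1
  five : y * y * y * y * y = 1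
  zx : z * x = x * z
  zy : z * y = y * z
  sq : x * y * (x * y) = z
  zm : z ^ m = 1

/-- Representatives of the cosets of `⟨y, z⟩`. -/
def rep {G : Type*} [Group G] (x y : G) : Fin 12 → G :=
  ![1, x, x * x, y * (x * x), y * (y * (x * x)), y * (y * (y * (x * x))),
    x * (y * (y * (y * (x * x)))), x * (y * (y * (x * x))), x * (x * (y * (y * (x * x)))),
    y * (x * (x * (y * (y * (x * x))))), y * (y * (x * (x * (y * (y * (x * x)))))),
    x * (y * (y * (x * (x * (y * (y * (x * x)))))))]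

/-- The elements of the group. -/
def word {G : Type*} [Group G] (x y z : G) (m : ℕ) (a : Fin 12 × Fin m × Fin 5) : G :=
  rep x y a.1 * (z ^ (a.2.1 : ℕ) * y ^ (a.2.2 : ℕ))

theorem word_surjective {G : Type*} [Group G] {x y z : G} {m : ℕ} (hm : 0 < m)
    (h : Rels x y z m) (hgen : closure ({x, y} : Set G) = ⊤) :
    Function.Surjective (word x y z m) := by
  have hzc : ∀ g : G, z * g = g * z := by
    intro g
    have hg : g ∈ closure ({x, y} : Set G) := hgen ▸ mem_top g
    induction hg using closure_induction with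
    | mem w hw => rcases hw with rfl | rfl; exacts [h.zx, h.zy]
    | one => simp
    | mul a b _ _ ha hb => rw [← mul_assoc, ha, mul_assoc, hb, mul_assoc]
    | inv a _ ha => exact (Commute.inv_right (show Commute z a from ha))
  set H : Subgroup G := closure {y, z}
  have hyH : y ∈ H := subset_closure (Or.inl rfl)
  have hzH : z ∈ H := subset_closure (Or.inr rfl)
  have hzq : ∀ q : G ⧸ H, z • q = q := by
    intro q
    obtain ⟨g, rfl⟩ := QuotientGroup.mk_surjective q
    show ((z * g : G) : G ⧸ H) = _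
    rw [hzc, QuotientGroup.mk_mul_of_mem _ hzH]
  have hX : ∀ q : G ⧸ H, x • x • x • q = q := fun q => by
    rw [smul_smul, smul_smul, h.cube, one_smul]
  have hY : ∀ q : G ⧸ H, y • y • y • y • y • q = q := fun q => by
    rw [smul_smul, smul_smul, smul_smul, smul_smul, h.five, one_smul]
  have hR : ∀ q : G ⧸ H, y • x • y • x • q = q := fun q => by
    rw [smul_smul, smul_smul, smul_smul,
      show y * x * y * x = y * (x * y * (x * y)) * y⁻¹ by group, h.sq, ← h.zy, mul_inv_cancel_right,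
      hzq]
  set p1 : G ⧸ H := ((1 : G) : G ⧸ H)
  have hy1 : y • p1 = p1 := by
    show ((y * 1 : G) : G ⧸ H) = ((1 : G) : G ⧸ H)
    rw [mul_one, QuotientGroup.eq, mul_one]
    exact inv_mem hyH
  set p2 := x • p1 with hp2
  set p3 := x • p2 with hp3
  set p4 := y • p3 with hp4
  set p5 := y • p4 with hp5
  set p6 := y • p5 with hp6
  set p8 := x • p6 with hp8
  set p9 := x • p5 with hp9
  set p10 := x • p9 with hp10
  set p11 := y • p10 with hp11
  set p12 := y • p11 with hp12
  set p13 := x • p12 with hp13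
  have x3 : x • p3 = p1 := hX p1
  have y2 : y • p2 = p3 := by
    have h1 : x • y • p2 = p1 := smul_left_cancel y ((hR p1).trans hy1.symm)
    exact smul_left_cancel x (h1.trans x3.symm)
  have y6 : y • p6 = p2 := by
    have := hY p2
    rwa [y2, ← hp4, ← hp5, ← hp6] at this
  have x4 : x • p4 = p6 := by
    have h1 : x • y • x • p4 = p3 := smul_left_cancel y ((hR p4).trans hp4)
    exact smul_left_cancel y ((smul_left_cancel x (h1.trans hp3)).trans y6.symm)
  have x8 : x • p8 = p4 := by rw [hp8, ← x4]; exact hX p4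
  have x10 : x • p10 = p5 := by rw [hp10, hp9]; exact hX p5
  have y9 : y • p9 = p8 := by
    have h1 : x • y • p9 = p4 := smul_left_cancel y ((hR p5).trans hp5)
    exact smul_left_cancel x (h1.trans x8.symm)
  have y8 : y • p8 = p10 := by
    have h1 : x • y • p8 = p5 := smul_left_cancel y ((hR p6).trans hp6)
    exact smul_left_cancel x (h1.trans x10.symm)
  have y12 : y • p12 = p9 := by
    have := hY p9
    rwa [y9, y8, ← hp11, ← hp12] at this
  have x11 : x • p11 = p12 := by
    have h1 : y • x • y • x • p9 = p9 := hR p9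
    rw [← hp10, ← hp11] at h1
    exact smul_left_cancel y (h1.trans y12.symm)
  have x13 : x • p13 = p11 := by rw [hp13, ← x11]; exact hX p11
  have y13 : y • p13 = p13 := by
    have h1 : x • y • p13 = p11 := smul_left_cancel y ((hR p12).trans hp12)
    exact smul_left_cancel x (h1.trans x13.symm)
  let P : Fin 12 → G ⧸ H := ![p1, p2, p3, p4, p5, p6, p8, p9, p10, p11, p12, p13]
  have hclose : ∀ i, (∃ j, x • P i = P j) ∧ (∃ j, y • P i = P j) := by
    intro i
    fin_cases i
    · exact ⟨⟨1, rfl⟩, ⟨0, hy1⟩⟩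
    · exact ⟨⟨2, rfl⟩, ⟨2, y2⟩⟩
    · exact ⟨⟨0, x3⟩, ⟨3, rfl⟩⟩
    · exact ⟨⟨5, x4⟩, ⟨4, rfl⟩⟩
    · exact ⟨⟨7, rfl⟩, ⟨5, rfl⟩⟩
    · exact ⟨⟨6, rfl⟩, ⟨1, y6⟩⟩
    · exact ⟨⟨3, x8⟩, ⟨8, y8⟩⟩
    · exact ⟨⟨8, rfl⟩, ⟨6, y9⟩⟩
    · exact ⟨⟨4, x10⟩, ⟨9, rfl⟩⟩
    · exact ⟨⟨10, x11⟩, ⟨10, rfl⟩⟩
    · exact ⟨⟨11, rfl⟩, ⟨7, y12⟩⟩
    · exact ⟨⟨9, x13⟩, ⟨11, y13⟩⟩
  have hcover : ∀ g : G, ∀ i, ∃ j, g • P i = P j := by
    intro g
    have hg : g ∈ closure ({x, y} : Set G) := hgen ▸ mem_top g
    induction hg using closure_induction with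
    | mem w hw => rcases hw with rfl | rfl; exacts [fun i => (hclose i).1, fun i => (hclose i).2]
    | one => exact fun i => ⟨i, one_smul G _⟩
    | mul a b _ _ ha hb =>
      intro i
      obtain ⟨j, hj⟩ := hb i
      rw [mul_smul, hj]
      exact ha j
    | inv a _ ha =>
      classical
      intro i
      choose σ hσ using ha
      have hmaps : Set.MapsTo (a • ·) (Set.range P) (Set.range P) := by
        rintro _ ⟨k, rfl⟩; exact ⟨σ k, (hσ k).symm⟩
      have hinj : Set.InjOn (a • ·) (Set.range P) := fun _ _ _ _ e => smul_left_cancel a e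
      obtain ⟨q, ⟨j, rfl⟩, hq⟩ :=
        ((Set.finite_range P).injOn_iff_bijOn_of_mapsTo hmaps).1 hinj |>.surjOn ⟨i, rfl⟩
      exact ⟨j, by rw [← hq, inv_smul_smul]⟩
  intro g
  obtain ⟨j, hj⟩ := hcover g 0
  have hrep : ∀ k, P k = ((rep x y k : G) : G ⧸ H) := by
    intro k
    fin_cases k <;>
      simp [P, rep, p1, p2, p3, p4, p5, p6, p8, p9, p10, p11, p12, p13, MulAction.Quotient.smul_mk]
  have hgj : (g : G ⧸ H) = ((rep x y j : G) : G ⧸ H) := by
    rw [← hrep j, ← hj]
    show _ = g • ((1 : G) : G ⧸ H)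
    rw [MulAction.Quotient.smul_mk, smul_eq_mul, mul_one]
  have hHw : ∀ k ∈ H, ∃ (e : Fin m) (i : Fin 5), k = z ^ (e : ℕ) * y ^ (i : ℕ) := by
    intro k hk
    have hzy : Commute z y := h.zy
    have : ∀ a b : ℤ, ∃ (e : Fin m) (i : Fin 5), z ^ a * y ^ b = z ^ (e : ℕ) * y ^ (i : ℕ) := by
      intro a b
      have hy5 : y ^ (5 : ℤ) = 1 := by
        rw [show (5 : ℤ) = ((5 : ℕ) : ℤ) from rfl, zpow_natCast]
        simpa [pow_succ] using h.five
      have hz' : z ^ ((m : ℕ) : ℤ) = 1 := by rw [zpow_natCast]; exact h.zm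
      have hm' : (0 : ℤ) < m := by exact_mod_cast hm
      refine ⟨⟨(a % m).toNat, ?_⟩, ⟨(b % 5).toNat, ?_⟩, ?_⟩
      · have h1 := Int.emod_nonneg a hm'.ne'
        have h2 := Int.emod_lt_of_pos a hm'
        omega
      · have h1 := Int.emod_nonneg b (show (5 : ℤ) ≠ 0 by norm_num)
        have h2 := Int.emod_lt_of_pos b (show (0 : ℤ) < 5 by norm_num)
        omega
      · have e1 : z ^ a = z ^ ((a % m).toNat) := by
          rw [← zpow_natCast, Int.toNat_of_nonneg (Int.emod_nonneg a hm'.ne'), Int.emod_def,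
            zpow_sub, zpow_mul, hz', one_zpow, inv_one, mul_one]
        have e2 : y ^ b = y ^ ((b % 5).toNat) := by
          rw [← zpow_natCast, Int.toNat_of_nonneg (Int.emod_nonneg b (by norm_num)), Int.emod_def,
            zpow_sub, zpow_mul, hy5, one_zpow, inv_one, mul_one]
        rw [e1, e2]
    obtain ⟨a, b, hk'⟩ : ∃ a b : ℤ, k = z ^ a * y ^ b := by
      induction hk using closure_induction with
      | mem w hw => rcases hw with rfl | rfl; exacts [⟨0, 1, by simp⟩, ⟨1, 0, by simp⟩]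
      | one => exact ⟨0, 0, by simp⟩
      | mul a b _ _ ha hb =>
        obtain ⟨i, j, rfl⟩ := ha
        obtain ⟨i', j', rfl⟩ := hb
        refine ⟨i + i', j + j', ?_⟩
        rw [zpow_add, zpow_add, mul_assoc, ← mul_assoc (y ^ j), ← (hzy.zpow_zpow i' j).eq]
        simp only [mul_assoc]
      | inv a _ ha =>
        obtain ⟨i, j, rfl⟩ := ha
        exact ⟨-i, -j, by rw [mul_inv_rev, ← zpow_neg, ← zpow_neg, (hzy.zpow_zpow (-i) (-j)).eq]⟩
    rw [hk']
    exact this a b
  obtain ⟨e, i, hei⟩ := hHw _ (QuotientGroup.eq.1 hgj.symm)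
  exact ⟨(j, e, i), by simp [word, ← hei]⟩

theorem finite {G : Type*} [Group G] {x y z : G} {m : ℕ} (hm : 0 < m) (h : Rels x y z m)
    (hgen : closure ({x, y} : Set G) = ⊤) : Finite G :=
  Finite.of_surjective _ (word_surjective hm h hgen)

theorem card_le {G : Type*} [Group G] {x y z : G} {m : ℕ} (hm : 0 < m) (h : Rels x y z m)
    (hgen : closure ({x, y} : Set G) = ⊤) : Nat.card G ≤ 12 * (m * 5) := by
  simpa using Nat.card_le_card_of_surjective _ (word_surjective hm h hgen)

theorem word_mem {G : Type*} [Group G] {x y z : G} {m : ℕ} {S : Subgroup G} (hx : x ∈ S)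
    (hy : y ∈ S) (hz : z ∈ S) (a : Fin 12 × Fin m × Fin 5) : word x y z m a ∈ S := by
  refine mul_mem ?_ (mul_mem (pow_mem hz _) (pow_mem hy _))
  have h : ∀ k, rep x y k ∈ S := by
    intro k
    fin_cases k <;> simp only [rep, Matrix.cons_val] <;> repeat (first | exact one_mem S | exact hx | exact hy | apply mul_mem)
  exact h _

/-- The generators of `A₅`. -/
def x5 : alternatingGroup (Fin 5) :=
  ⟨Equiv.swap 0 3 * Equiv.swap 3 1, Equiv.Perm.mem_alternatingGroup.2 (by decide)⟩

/-- The generators of `A₅`. -/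
def y5 : alternatingGroup (Fin 5) := ⟨finRotate 5, Equiv.Perm.mem_alternatingGroup.2 (by decide)⟩

theorem rels5 : Rels x5 y5 1 1 := by
  constructor <;> decide +kernel

set_option maxHeartbeats 400000 in
theorem gen5 : Subgroup.closure ({x5, y5} : Set (alternatingGroup (Fin 5))) = ⊤ := by
  have h : ∀ g : alternatingGroup (Fin 5), ∃ a, word x5 y5 1 1 a = g := by decide +kernel
  refine eq_top_iff.2 fun g _ => ?_
  obtain ⟨a, rfl⟩ := h g
  exact word_mem (x := x5) (y := y5) (z := (1 : alternatingGroup (Fin 5))) (m := 1)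
    (S := Subgroup.closure ({x5, y5} : Set (alternatingGroup (Fin 5))))
    (Subgroup.subset_closure (Set.mem_insert x5 _))
    (Subgroup.subset_closure (Set.mem_insert_of_mem x5 rfl)) (one_mem _) a

/-- The generators of `SL(2, 5)`. -/
def xs : Matrix.SpecialLinearGroup (Fin 2) (ZMod 5) := ⟨!![0, 4; 1, 4], by decide⟩

/-- The generators of `SL(2, 5)`. -/
def ys : Matrix.SpecialLinearGroup (Fin 2) (ZMod 5) := ⟨!![1, 1; 0, 1], by decide⟩

/-- The central involution of `SL(2, 5)`. -/
def zs : Matrix.SpecialLinearGroup (Fin 2) (ZMod 5) := ⟨!![4, 0; 0, 4], by decide⟩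

theorem relsS : Rels xs ys zs 2 := by
  constructor <;> decide +kernel

theorem genS : Subgroup.closure ({xs, ys} : Set (Matrix.SpecialLinearGroup (Fin 2) (ZMod 5))) = ⊤ := by
  have h : ∀ g : Matrix.SpecialLinearGroup (Fin 2) (ZMod 5), ∃ a, word xs ys zs 2 a = g := by
    decide +kernel
  refine eq_top_iff.2 fun g _ => ?_
  obtain ⟨a, rfl⟩ := h g
  have hx : xs ∈ Subgroup.closure ({xs, ys} : Set (Matrix.SpecialLinearGroup (Fin 2) (ZMod 5))) :=
    Subgroup.subset_closure (Set.mem_insert xs _)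
  have hy : ys ∈ Subgroup.closure ({xs, ys} : Set (Matrix.SpecialLinearGroup (Fin 2) (ZMod 5))) :=
    Subgroup.subset_closure (Set.mem_insert_of_mem xs rfl)
  refine word_mem (x := xs) (y := ys) (z := zs) (m := 2) hx hy ?_ a
  rw [← relsS.sq]
  exact mul_mem (mul_mem hx hy) (mul_mem hx hy)

theorem card_alt5 : Nat.card (alternatingGroup (Fin 5)) = 60 := by
  rw [nat_card_alternatingGroup]; simp [Nat.factorial]

theorem card_sl25 : Nat.card (Matrix.SpecialLinearGroup (Fin 2) (ZMod 5)) = 120 := by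
  rw [Nat.card_eq_fintype_card]; decide +kernel

end Cfsg.Agent.FPFStructure.Pres
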