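import Cfsg.Agent.FPFStructure.Algebra
import Cfsg.Agent.FPFStructure.Counting
import Cfsg.Agent.Lib.Frobenius.Involution

set_option autoImplicit false
set_option linter.style.haveILetI false

/-!
A group acting without fixed points on an abelian group, seen inside the endomorphism ring:
algebraic consequences for the elements of order three.
-/

namespace Cfsg.Agent.FPFStructure

universe u v

/-- A representation in a ring in which `ρ g - 1` is a unit for `g ≠ 1`. -/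
structure Rep {K : Type u} [Group K] {R : Type v} [Ring R] (ρ : K →* R) : Prop where
  inj : Function.Injective ρ
  unit : ∀ g : K, g ≠ 1 → IsUnit (ρ g - 1)

/-- `ζ` is an involution. -/
def IsInv2 {K : Type u} [Group K] (ζ : K) : Prop := ζ ≠ 1 ∧ ζ * ζ = 1

open scoped IsMulCommutative in
theorem exists_rep {G : Type u} [Group G] [Finite G] {A V : Subgroup G} [IsMulCommutative V]
    (h : Frobenius.IsFPF A V) (hV : V ≠ ⊥) :
    ∃ (R : Type u) (_ : Ring R) (ρ : A →* R), Rep ρ := by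
  let φ : A →* AddMonoid.End (Additive V) :=
    { toFun := fun a => AddMonoidHom.mk'
        (fun v => Additive.ofMul ⟨(a : G) * (Additive.toMul v : V) * (a : G)⁻¹,
          h.conj_mem a.2 (Additive.toMul v).2⟩)
        (fun x y => congrArg Additive.ofMul (Subtype.ext (by simp [mul_assoc])))
      map_one' := by
        refine AddMonoidHom.ext fun v => congrArg Additive.ofMul (Subtype.ext ?_)
        show (1 : G) * ((Additive.toMul v : V) : G) * (1 : G)⁻¹ = _
        simp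
        rfl
      map_mul' := fun a b => by
        refine AddMonoidHom.ext fun v => congrArg Additive.ofMul (Subtype.ext ?_)
        show ((a * b : A) : G) * ((Additive.toMul v : V) : G) * ((a * b : A) : G)⁻¹ =
          (a : G) * ((b : G) * ((Additive.toMul v : V) : G) * (b : G)⁻¹) * (a : G)⁻¹
        simp [mul_assoc] }
  refine ⟨AddMonoid.End (Additive V), inferInstance, φ, ?_, ?_⟩
  · refine (injective_iff_map_eq_one φ).2 fun a ha => ?_
    refine Subtype.ext (h.eq_one_of_centralizes hV a.2 fun v hv => ?_)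
    have := congrArg (fun f : AddMonoid.End (Additive V) =>
      ((Additive.toMul (f (Additive.ofMul ⟨v, hv⟩)) : V) : G)) ha
    exact mul_inv_eq_iff_eq_mul.1 this
  · intro a ha
    have hinj : Function.Injective (φ a - 1 : AddMonoid.End (Additive V)) := by
      refine (injective_iff_map_eq_zero (φ a - 1 : AddMonoid.End (Additive V))).2 fun v hv => ?_
      have hv' : φ a v = v := sub_eq_zero.1 hv
      have h1 : (a : G) * (Additive.toMul v : V) * (a : G)⁻¹ = (Additive.toMul v : V) :=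
        congrArg (fun w : Additive V => ((Additive.toMul w : V) : G)) hv'
      have h2 := h.eq_one_of_commute a.2 (fun he => ha (Subtype.ext he)) (Additive.toMul v).2
        (mul_inv_eq_iff_eq_mul.1 h1)
      exact Additive.toMul.injective (Subtype.ext h2)
    have hb := Finite.injective_iff_bijective.1 hinj
    let e : Additive V ≃+ Additive V := AddEquiv.ofBijective (φ a - 1) hb
    exact ⟨⟨φ a - 1, (e.symm : Additive V →+ Additive V),
      AddMonoidHom.ext fun x => e.apply_symm_apply x,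
      AddMonoidHom.ext fun x => e.symm_apply_apply x⟩, rfl⟩

namespace Rep

variable {K : Type u} [Group K] {R : Type v} [Ring R] {ρ : K →* R}

theorem comp {H : Type*} [Group H] (hr : Rep ρ) (f : H →* K) (hf : Function.Injective f) :
    Rep (ρ.comp f) :=
  ⟨hr.inj.comp hf, fun g hg => hr.unit (f g) fun h => hg (hf (h.trans f.map_one.symm))⟩

theorem isUnit_sub (hr : Rep ρ) {a b : K} (h : a ≠ b) : IsUnit (ρ a - ρ b) := by
  have e : ρ a - ρ b = ρ b * (ρ (b⁻¹ * a) - 1) := by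
    rw [mul_sub, mul_one, ← map_mul, mul_inv_cancel_left]
  rw [e]
  exact ((Group.isUnit b).map ρ).mul (hr.unit _ fun he => h (inv_mul_eq_one.1 he).symm)

theorem inv2_val (hr : Rep ρ) {t : K} (ht : IsInv2 t) : ρ t = -1 := by
  have h : (ρ t - 1) * (ρ t + 1) = (ρ t - 1) * 0 := by
    rw [mul_zero, sub_mul, mul_add, mul_one, one_mul, ← map_mul, ht.2, map_one]
    abel
  exact eq_neg_of_add_eq_zero_left ((hr.unit t ht.1).mul_left_cancel h)

theorem invol (hr : Rep ρ) {ζ : K} (hζ : IsInv2 ζ) {t : K} (ht : t * t = 1) : t = 1 ∨ t = ζ :=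
  or_iff_not_imp_left.2 fun h => hr.inj ((hr.inv2_val ⟨h, ht⟩).trans (hr.inv2_val hζ).symm)

theorem central (hr : Rep ρ) {ζ : K} (hζ : IsInv2 ζ) (g : K) : ζ * g = g * ζ :=
  hr.inj (by simp [hr.inv2_val hζ])

theorem cube_val (hr : Rep ρ) {x : K} (hx : x * x * x = 1) (hx1 : x ≠ 1) :
    ρ x * ρ x = -1 - ρ x := by
  have h : (ρ x - 1) * (ρ x * ρ x + ρ x + 1) = (ρ x - 1) * 0 := by
    rw [mul_zero, sub_mul, one_mul, mul_add, mul_add, mul_one, ← mul_assoc, ← map_mul, ← map_mul,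
      hx, map_one]
    abel
  have h' := (hr.unit x hx1).mul_left_cancel h
  calc ρ x * ρ x = (ρ x * ρ x + ρ x + 1) + (-1 - ρ x) := by abel
    _ = _ := by rw [h', zero_add]

theorem inv_val (hr : Rep ρ) {x : K} (hx : x * x * x = 1) (hx1 : x ≠ 1) :
    ρ x⁻¹ = -1 - ρ x := by
  rw [inv_eq_of_mul_eq_one_left hx, map_mul, hr.cube_val hx hx1]

/-- Two commuting elements of order three generate the same subgroup. -/
theorem commute_cube (hr : Rep ρ) {x y : K} (hx : x * x * x = 1) (hx1 : x ≠ 1)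
    (hy : y * y * y = 1) (hy1 : y ≠ 1) (hc : Commute x y) : y = x ∨ y = x * x := by
  refine or_iff_not_imp_left.2 fun hne => hr.inj ?_
  have hc' : ρ x * ρ y = ρ y * ρ x := by rw [← map_mul, ← map_mul, hc.eq]
  have h : (ρ y - ρ x) * (ρ y - ρ (x * x)) = (ρ y - ρ x) * 0 := by
    rw [mul_zero, map_mul, hr.cube_val hx hx1]
    simp only [mul_sub, sub_mul, mul_neg, mul_one, hr.cube_val hy hy1,
      hr.cube_val hx hx1, hc']
    abel
  exact sub_eq_zero.1 ((hr.isUnit_sub hne).mul_left_cancel h)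

/-- The anticommutator of two roots of `x² + x + 1` commutes with both. -/
theorem anti_comm {X Y : R} (hX : X * X = -1 - X) (hY : Y * Y = -1 - Y) :
    Commute X (Y * X + X * Y + X + Y) ∧ Commute Y (Y * X + X * Y + X + Y) := by
  constructor <;> rw [commute_iff_eq] <;>
    simp only [mul_add, add_mul, ← mul_assoc, hX, hY, sub_mul, neg_mul, one_mul] <;>
    simp only [mul_assoc, hX, hY, mul_sub, mul_neg, mul_one] <;> abel

theorem adj_val (hr : Rep ρ) {ζ : K} (hζ : IsInv2 ζ) {x y : K} (hx : x * x * x = 1)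
    (hx1 : x ≠ 1) (hy : y * y * y = 1) (hy1 : y ≠ 1) (h : x * y * (x * y) = ζ) :
    ρ y * ρ x = -1 - ρ x * ρ y - ρ x - ρ y := by
  have e : y * x = x * x * ζ * (y * y) := by
    rw [← h]
    calc y * x = 1 * (y * x) * 1 := by simp
      _ = x * x * x * (y * x) * (y * y * y) := by rw [hx, hy]
      _ = _ := by simp only [mul_assoc]
  rw [← map_mul, e, map_mul, map_mul, map_mul, map_mul, hr.inv2_val hζ, hr.cube_val hx hx1,
    hr.cube_val hy hy1]
  simp only [mul_sub, sub_mul, mul_neg, neg_mul, mul_one, one_mul]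
  abel

theorem twoDim (hr : Rep ρ) {ζ : K} (hζ : IsInv2 ζ)
    (ht : ∀ g h : K, Commute (ρ g + ρ g⁻¹) (ρ h)) : TwoDim ζ := by
  have hsq : ∀ k : K, k ≠ 1 → k ≠ ζ → k ≠ k⁻¹ := fun k h1 h2 he => by
    rcases hr.invol hζ (mul_eq_one_iff_eq_inv.2 he) with h | h
    exacts [h1 h, h2 h]
  refine ⟨hζ.1, hζ.2, hr.central hζ, fun g hg => hr.invol hζ hg, ?_, ?_⟩
  · intro k hk1 hk2 a b ha hb
    have key : ∀ g h : K, ρ g * ρ h + ρ h * ρ g = (ρ (g * h) + ρ (g * h)⁻¹) -
        (ρ h + ρ h⁻¹) * (ρ g + ρ g⁻¹) + (ρ h + ρ h⁻¹) * ρ g + ρ h * (ρ g + ρ g⁻¹) := by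
      intro g h
      rw [mul_inv_rev, map_mul, map_mul]
      simp only [mul_add, add_mul]
      abel
    set c : R := (ρ (a * k) + ρ (a * k)⁻¹) - (ρ k + ρ k⁻¹) * (ρ a + ρ a⁻¹) +
      ρ k * (ρ a + ρ a⁻¹) with hc
    have hak : ρ a * ρ k = ρ k * ρ a := by rw [← map_mul, ← map_mul, ha.eq]
    have e1 : ρ a * (ρ k - ρ k⁻¹) = c := by
      have h1 := key a k
      rw [← hak] at h1
      have h2 : (ρ k + ρ k⁻¹) * ρ a = ρ a * (ρ k + ρ k⁻¹) := (ht k a).eq
      calc ρ a * (ρ k - ρ k⁻¹) = (ρ a * ρ k + ρ a * ρ k) - ρ a * (ρ k + ρ k⁻¹) := by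
            simp only [mul_sub, mul_add]; abel
        _ = c := by rw [h1, h2, hc]; abel
    have hbD : Commute (ρ b) (ρ k - ρ k⁻¹) := (hb.map ρ).sub_right (hb.inv_right.map ρ)
    have hbc : Commute (ρ b) c :=
      ((ht _ _).symm.sub_right ((ht _ _).symm.mul_right (ht _ _).symm)).add_right
        ((hb.map ρ).mul_right (ht _ _).symm)
    have hD : IsUnit (ρ k - ρ k⁻¹) := hr.isUnit_sub (hsq k hk1 hk2)
    refine hr.inj ?_
    rw [map_mul, map_mul]
    refine hD.mul_right_cancel ?_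
    calc ρ a * ρ b * (ρ k - ρ k⁻¹) = ρ a * (ρ k - ρ k⁻¹) * ρ b := by
          rw [mul_assoc, hbD.eq, ← mul_assoc]
      _ = ρ b * c := by rw [e1, hbc.eq]
      _ = _ := by rw [← e1, mul_assoc]
  · intro k hk1 hk2 g hg
    refine or_iff_not_imp_left.2 fun hne => hr.inj (sub_eq_zero.1 ?_)
    set k' := g * k * g⁻¹ with hk'
    have htr : ρ k' + ρ k'⁻¹ = ρ k + ρ k⁻¹ := by
      calc ρ k' + ρ k'⁻¹ = ρ g * (ρ k + ρ k⁻¹) * ρ g⁻¹ := by
            rw [hk']; simp only [mul_inv_rev, inv_inv, map_mul, mul_add, add_mul, mul_assoc]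
        _ = (ρ k + ρ k⁻¹) * (ρ g * ρ g⁻¹) := by rw [← (ht k g).eq, mul_assoc]
        _ = _ := by rw [← map_mul, mul_inv_cancel, map_one, mul_one]
    refine (hr.isUnit_sub hne).mul_left_cancel ?_
    rw [mul_zero]
    calc (ρ k' - ρ k) * (ρ k' - ρ k⁻¹) = ρ k' * ρ k' - (ρ k' * ρ k⁻¹ + ρ k * ρ k') + ρ k * ρ k⁻¹ := by
          simp only [mul_sub, sub_mul]; abel
      _ = ρ k' * ρ k' - ρ k' * (ρ k' + ρ k'⁻¹) + 1 := by
          rw [htr, ← map_mul ρ k k⁻¹, mul_inv_cancel, map_one,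
            show ρ k * ρ k' = ρ k' * ρ k from (hg.map ρ).eq.symm, mul_add]
          abel
      _ = 0 := by rw [mul_add, ← map_mul ρ k' k'⁻¹, mul_inv_cancel, map_one]; abel

theorem trace_central (hr : Rep ρ) {ζ : K} (hζ : IsInv2 ζ) {x y z : K} {u v s : R}
    (hS : Alg.Setup (ρ x) (ρ y) (ρ z) u v s)
    (hx : x * x * x = 1 ∧ x ≠ 1) (hy : y * y * y = 1 ∧ y ≠ 1) (hz : z * z * z = 1 ∧ z ≠ 1)
    (hgen : Subgroup.closure ({x, y, z, ζ} : Set K) = ⊤) :
    ∀ g h : K, Commute (ρ g + ρ g⁻¹) (ρ h) := by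
  have hstep : ∀ w : K, (w = x ∨ w = y ∨ w = z) → ∀ g : K,
      Alg.Good (ρ x) (ρ y) (ρ z) (ρ g) (ρ g⁻¹) →
      Alg.Good (ρ x) (ρ y) (ρ z) (ρ (g * w)) (ρ (g * w)⁻¹) := by
    intro w hw g hg
    rw [mul_inv_rev, map_mul, map_mul]
    rcases hw with rfl | rfl | rfl
    · exact Alg.good_mul hS hg (Or.inl ⟨rfl, hr.inv_val hx.1 hx.2⟩)
    · exact Alg.good_mul hS hg (Or.inr (Or.inl ⟨rfl, hr.inv_val hy.1 hy.2⟩))
    · exact Alg.good_mul hS hg (Or.inr (Or.inr ⟨rfl, hr.inv_val hz.1 hz.2⟩))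
  have hzinv : ζ⁻¹ = ζ := inv_eq_of_mul_eq_one_left hζ.2
  have hneg : ∀ g : K, Alg.Good (ρ x) (ρ y) (ρ z) (ρ g) (ρ g⁻¹) →
      Alg.Good (ρ x) (ρ y) (ρ z) (ρ (g * ζ)) (ρ (g * ζ)⁻¹) := by
    intro g hg
    rw [mul_inv_rev, hzinv, map_mul, map_mul, hr.inv2_val hζ, mul_neg_one, neg_one_mul]
    exact Alg.good_neg hg
  have hcube : ∀ w : K, (w = x ∨ w = y ∨ w = z) → w⁻¹ = w * w := by
    rintro w (rfl | rfl | rfl)
    exacts [inv_eq_of_mul_eq_one_left hx.1, inv_eq_of_mul_eq_one_left hy.1,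
      inv_eq_of_mul_eq_one_left hz.1]
  have hgood : ∀ g : K, Alg.Good (ρ x) (ρ y) (ρ z) (ρ g) (ρ g⁻¹) := by
    intro g
    have hg : g ∈ Subgroup.closure ({x, y, z, ζ} : Set K) := hgen ▸ Subgroup.mem_top g
    induction hg using Subgroup.closure_induction_right with
    | one => rw [inv_one, map_one]; exact Alg.good_one
    | mul_right a _ w hw ih =>
      rcases hw with rfl | rfl | rfl | rfl
      exacts [hstep _ (Or.inl rfl) _ ih, hstep _ (Or.inr (Or.inl rfl)) _ ih,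
        hstep _ (Or.inr (Or.inr rfl)) _ ih, hneg _ ih]
    | mul_inv_cancel a _ w hw ih =>
      rcases hw with rfl | rfl | rfl | rfl
      rotate_right
      · rw [hzinv]; exact hneg _ ih
      all_goals rw [hcube _ (by simp), ← mul_assoc]; exact hstep _ (by simp) _ (hstep _ (by simp) _ ih)
  intro g h
  have hh : h ∈ Subgroup.closure ({x, y, z, ζ} : Set K) := hgen ▸ Subgroup.mem_top h
  induction hh using Subgroup.closure_induction with
  | mem w hw =>
    rcases hw with rfl | rfl | rfl | rfl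
    · exact (Alg.trace_comm hS (hgood g) (Or.inl rfl)).symm
    · exact (Alg.trace_comm hS (hgood g) (Or.inr (Or.inl rfl))).symm
    · exact (Alg.trace_comm hS (hgood g) (Or.inr (Or.inr rfl))).symm
    · rw [hr.inv2_val hζ]; exact (Commute.one_right _).neg_right
  | one => rw [map_one]; exact Commute.one_right _
  | mul a b _ _ ha hb => rw [map_mul]; exact ha.mul_right hb
  | inv a _ ha =>
    have hu : ρ a * ρ a⁻¹ = 1 := by rw [← map_mul, mul_inv_cancel, map_one]
    have hu' : ρ a⁻¹ * ρ a = 1 := by rw [← map_mul, inv_mul_cancel, map_one]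
    exact Commute.units_inv_right (u := ⟨ρ a, ρ a⁻¹, hu, hu'⟩) ha

/-- A pair of elements of order three generates a two-dimensional group. -/
theorem twoDim_pair (hr : Rep ρ) {ζ : K} (hζ : IsInv2 ζ) {x y : K}
    (hx : x * x * x = 1 ∧ x ≠ 1) (hy : y * y * y = 1 ∧ y ≠ 1)
    (hgen : Subgroup.closure ({x, y, ζ} : Set K) = ⊤) : TwoDim ζ := by
  set u := ρ y * ρ x + ρ x * ρ y + ρ x + ρ y with hu
  have hX := hr.cube_val hx.1 hx.2
  have hY := hr.cube_val hy.1 hy.2
  obtain ⟨hxu, hyu⟩ := anti_comm hX hY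
  have hba : ρ y * ρ x = u - ρ x * ρ y - ρ x - ρ y := by rw [hu]; abel
  have hcb : ρ y * ρ y = (-1 - 1) - ρ y * ρ y - ρ y - ρ y := by rw [hY]; abel
  have hs : ∀ r : R, r * (-1 - 1) = (-1 - 1) * r := fun r => by
    simp [mul_sub, sub_mul]
  have hS : Alg.Setup (ρ x) (ρ y) (ρ y) u u (-1 - 1) :=
    ⟨hX, hY, hY, hba, hba, hcb, hxu, hyu, hyu, hxu, hyu, hyu, hs _, hs _, hs _, rfl, (hs u).symm,
      (hs u).symm⟩
  refine hr.twoDim hζ (hr.trace_central hζ hS hx hy hy (top_unique ?_))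
  rw [← hgen]
  exact Subgroup.closure_mono (by rintro a (rfl | rfl | rfl) <;> simp)

/-- A triple `x, y, z` with `(xy)² = (xz)² = ζ` generates a two-dimensional group. -/
theorem twoDim_triple (hr : Rep ρ) {ζ : K} (hζ : IsInv2 ζ) {x y z : K}
    (hx : x * x * x = 1 ∧ x ≠ 1) (hy : y * y * y = 1 ∧ y ≠ 1) (hz : z * z * z = 1 ∧ z ≠ 1)
    (hxy : x * y * (x * y) = ζ) (hxz : x * z * (x * z) = ζ)
    (hgen : Subgroup.closure ({x, y, z, ζ} : Set K) = ⊤) : TwoDim ζ := by
  set s := ρ z * ρ y + ρ y * ρ z + ρ y + ρ z with hs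
  have hX := hr.cube_val hx.1 hx.2
  have hY := hr.cube_val hy.1 hy.2
  have hZ := hr.cube_val hz.1 hz.2
  have hba := hr.adj_val hζ hx.1 hx.2 hy.1 hy.2 hxy
  have hca := hr.adj_val hζ hx.1 hx.2 hz.1 hz.2 hxz
  obtain ⟨hys, hzs⟩ := anti_comm hY hZ
  have hcb : ρ z * ρ y = s - ρ y * ρ z - ρ y - ρ z := by rw [hs]; abel
  have hm : ∀ r : R, r * (-1) = (-1) * r := fun r => by simp
  have has := Alg.comm_third hba hca hcb (hm _) (hm _)
  have hS : Alg.Setup (ρ x) (ρ y) (ρ z) (-1) (-1) s :=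
    ⟨hX, hY, hZ, hba, hca, hcb, hm _, hm _, hm _, hm _, hm _, hm _, has, hys, hzs, rfl, hm _, hm _⟩
  exact hr.twoDim hζ (hr.trace_central hζ hS hx hy hz hgen)

end Rep

end Cfsg.Agent.FPFStructure
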