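import Cfsg.Agent.FPFStructure.Main
import Cfsg.Agent.Lib.Frobenius.Complement
import Cfsg.Agent.Lib.Transfer.Frobenius
import Cfsg.Agent.Lib.Coprime.Action
import Cfsg.Agent.Lib.PGroup.Basic
import Cfsg.Agent.SylowNum.Swaps

set_option autoImplicit false
set_option linter.style.haveILetI false

/-!
Solvability of fixed-point-free groups with few subgroups of order three.
-/

namespace Cfsg.Agent.FPFStructure

universe u v

open Subgroup

/-- The `p`-subgroups are cyclic for odd `p`, and two-generated in a special way for `p = 2`. -/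
structure SylowData (A : Type u) [Group A] : Prop where
  odd_cyclic : ∀ p : ℕ, p.Prime → p ≠ 2 → ∀ Q : Subgroup A, IsPGroup p Q → IsCyclic Q
  two : ∀ Q : Subgroup A, IsPGroup 2 Q → ∃ c d : Q, ∀ q : Q, ∃ i : ℤ, q = c ^ i ∨ q = d * c ^ i

theorem SylowData.comap {A : Type u} [Group A] {M : Type v} [Group M] (h : SylowData A)
    (f : M →* A) (hf : Function.Injective f) : SylowData M := by
  refine ⟨fun p hp h2 Q hQ => ?_, fun Q hQ => ?_⟩
  · haveI := h.odd_cyclic p hp h2 _ (hQ.map f)
    exact isCyclic_of_surjective (Q.equivMapOfInjective f hf).symm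
      (Q.equivMapOfInjective f hf).symm.surjective
  · obtain ⟨c, d, hcd⟩ := h.two _ (hQ.map f)
    let e := Q.equivMapOfInjective f hf
    refine ⟨e.symm c, e.symm d, fun q => ?_⟩
    obtain ⟨i, hi | hi⟩ := hcd (e q) <;> refine ⟨i, ?_⟩
    · left; rw [← map_zpow, ← hi, e.symm_apply_apply]
    · right; rw [← map_zpow, ← map_mul, ← hi, e.symm_apply_apply]

theorem sylowData_of_isFPF {G : Type u} [Group G] [Finite G] {A V : Subgroup G}
    (h : Frobenius.IsFPF A V) (hV : V ≠ ⊥) : SylowData A := by
  constructor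
  · intro p hp h2 Q hQ
    haveI := Fact.mk hp
    obtain ⟨P, hP⟩ := hQ.exists_le_sylow
    rcases h.sylow_isCyclic_or_quaternion hV P with hc | ⟨h2', -⟩
    · haveI := hc
      exact isCyclic_of_injective (Subgroup.inclusion hP) (Subgroup.inclusion_injective hP)
    · exact absurd h2' h2
  · intro Q hQ
    haveI := Fact.mk Nat.prime_two
    obtain ⟨P, hP⟩ := hQ.exists_le_sylow
    obtain ⟨C, hC, hC2⟩ : ∃ C : Subgroup (P : Subgroup A), IsCyclic C ∧
        (C.index = 1 ∨ C.index = 2) := by
      rcases h.sylow_isCyclic_or_quaternion hV P with hc | ⟨-, n, ⟨e⟩⟩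
      · haveI := hc
        exact ⟨⊤, inferInstance, Or.inl (index_top)⟩
      · haveI : NeZero (2 ^ n) := ⟨by positivity⟩
        refine ⟨zpowers (e.symm (QuaternionGroup.a 1)), inferInstance, Or.inr ?_⟩
        have := card_mul_index (zpowers (e.symm (QuaternionGroup.a 1)))
        rw [Nat.card_zpowers, MulEquiv.orderOf_eq, QuaternionGroup.orderOf_a_one,
          Nat.card_congr e.toEquiv, Nat.card_eq_fintype_card, QuaternionGroup.card] at this
        have hpos : 0 < 2 ^ n := by positivity
        nlinarith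
    let j : Q →* (P : Subgroup A) := Subgroup.inclusion hP
    haveI : IsCyclic (C.comap j) := by
      haveI := hC
      exact isCyclic_of_injective (j.subgroupComap C)
        (fun a b hab => Subtype.ext (Subgroup.inclusion_injective hP
          (congrArg Subtype.val hab)))
    obtain ⟨c, hc⟩ := IsCyclic.exists_generator (α := C.comap j)
    have hin : ∀ q : Q, q ∈ C.comap j → ∃ i : ℤ, q = (c : Q) ^ i := fun q hq => by
      obtain ⟨i, hi⟩ := mem_zpowers_iff.1 (hc ⟨q, hq⟩)
      exact ⟨i, by simpa using (congrArg Subtype.val hi).symm⟩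
    by_cases hall : ∀ q : Q, q ∈ C.comap j
    · exact ⟨c, 1, fun q => (hin q (hall q)).imp fun i hi => Or.inl hi⟩
    · simp only [not_forall] at hall
      obtain ⟨d, hd⟩ := hall
      have h2 : C.index = 2 := hC2.resolve_left fun h1 => hd (by
        rw [Subgroup.mem_comap, index_eq_one.1 h1]; exact mem_top _)
      refine ⟨c, d, fun q => ?_⟩
      by_cases hq : q ∈ C.comap j
      · exact (hin q hq).imp fun i hi => Or.inl hi
      · have hm : d⁻¹ * q ∈ C.comap j := by
          rw [Subgroup.mem_comap, map_mul, mul_mem_iff_of_index_two h2, map_inv, inv_mem_iff]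
          exact ⟨fun h => absurd h hd, fun h => absurd h hq⟩
        exact (hin _ hm).imp fun i hi => Or.inr (by rw [← hi, mul_inv_cancel_left])

variable {A : Type u} [Group A]

/-- A `3'`-element normalising a `2`-subgroup centralises it. -/
theorem SylowData.two_centralize [Finite A] (h : SylowData A) {Q : Subgroup A} (hQ : IsPGroup 2 Q)
    {g : A} (hg : g ∈ normalizer (Q : Set A)) (h2 : Nat.Coprime (orderOf g) 2)
    (h3 : Nat.Coprime (orderOf g) 3) : g ∈ centralizer (Q : Set A) := by
  haveI := Fact.mk Nat.prime_two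
  classical
  obtain ⟨c, d, hcd⟩ := h.two Q hQ
  set Φ := frattini Q with hΦ
  let T := Q ⧸ Φ
  have hsq : ∀ t : T, t ^ 2 = 1 := fun t => PGroup.quotient_frattini_pow hQ t
  have hcard : Nat.card T ≤ 4 := by
    have : Function.Surjective (fun b : Bool × Bool =>
        (if b.1 then (d : T) else 1) * (if b.2 then (c : T) else 1)) := by
      intro t
      obtain ⟨q, rfl⟩ := QuotientGroup.mk'_surjective Φ t
      have hp : ∀ i : ℤ, ((c : T) ^ i = 1) ∨ ((c : T) ^ i = c) := fun i => by
        rcases Int.even_or_odd' i with ⟨m, rfl | rfl⟩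
        · left; rw [zpow_mul, show (c : T) ^ (2 : ℤ) = 1 by exact_mod_cast hsq (c : T), one_zpow]
        · right
          rw [zpow_add, zpow_mul, show (c : T) ^ (2 : ℤ) = 1 by exact_mod_cast hsq (c : T), one_zpow,
            zpow_one, one_mul]
      obtain ⟨i, rfl | rfl⟩ := hcd q
      · rcases hp i with e | e
        · exact ⟨(false, false), by simp [e]⟩
        · exact ⟨(false, true), by simp [e]⟩
      · rcases hp i with e | e
        · exact ⟨(true, false), by simp [e]⟩
        · exact ⟨(true, true), by simp [e]⟩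
    refine le_trans (Nat.card_le_card_of_surjective _ this) (by simp)
  -- the automorphism induced on the Frattini quotient
  let N := normalizer (Q : Set A)
  let φ : N →* MulAut Q := Subgroup.normalizerMonoidHom Q
  have hmap : ∀ x : N, Φ.map (φ x).toMonoidHom = Φ := fun x =>
    Subgroup.characteristic_iff_map_eq.1 inferInstance _
  let ψ : N →* MulAut T :=
    { toFun := fun x => QuotientGroup.congr Φ Φ (φ x) (hmap x)
      map_one' := MulEquiv.ext fun t => by
        obtain ⟨q, rfl⟩ := QuotientGroup.mk'_surjective Φ t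
        simp
      map_mul' := fun x y => MulEquiv.ext fun t => by
        obtain ⟨q, rfl⟩ := QuotientGroup.mk'_surjective Φ t
        show QuotientGroup.mk' Φ (φ (x * y) q) = QuotientGroup.mk' Φ (φ x (φ y q))
        rw [map_mul]; rfl }
  let π : N →* Equiv.Perm {t : T // t ≠ 1} :=
    { toFun := fun x => (ψ x).toEquiv.subtypeEquiv (fun t => by simp)
      map_one' := Equiv.ext fun t => Subtype.ext (by simp)
      map_mul' := fun x y => Equiv.ext fun t => Subtype.ext (by simp) }
  have hπ : π ⟨g, hg⟩ = 1 := by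
    refine orderOf_eq_one_iff.1 (Nat.eq_one_of_dvd_coprimes (k := orderOf (π ⟨g, hg⟩))
      (Nat.Coprime.mul_right h2 h3) ?_ ?_)
    · exact (orderOf_map_dvd π _).trans (dvd_of_eq (Subgroup.orderOf_mk g hg))
    · refine (_root_.orderOf_dvd_natCard _).trans ?_
      rw [Nat.card_perm]
      have : Nat.card {t : T // t ≠ 1} ≤ 3 := by
        have : Nat.card {t : T // t ≠ 1} < Nat.card T :=
          Finite.card_subtype_lt (x := (1 : T)) (by simp)
        omega
      exact (Nat.factorial_dvd_factorial this).trans (dvd_of_eq rfl)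
  refine Coprime.le_centralizer_of_frattini (zpowers g) Q (zpowers_le.2 hg) ?_ ?_
    (Subgroup.mem_zpowers g)
  · rw [Nat.card_zpowers]
    obtain ⟨k, hk⟩ := (hQ.to_subgroup Φ).exists_card_eq
    rw [hk]; exact Nat.Coprime.pow_right _ h2
  · intro a ha k hk
    have hψ : ∀ x : N, π x = 1 → ∀ q : Q, φ x q * q⁻¹ ∈ Φ := by
      intro x hx q
      rw [← QuotientGroup.eq_one_iff, QuotientGroup.mk_mul, QuotientGroup.mk_inv, mul_inv_eq_one]
      show ψ x (q : T) = (q : T)
      rcases eq_or_ne (q : T) 1 with e | e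
      · rw [e, map_one]
      · exact congrArg Subtype.val (Equiv.ext_iff.1 hx ⟨(q : T), e⟩)
    obtain ⟨n, rfl⟩ := mem_zpowers_iff.1 ha
    have hπn : π (⟨g, hg⟩ ^ n) = 1 := by rw [map_zpow, hπ, one_zpow]
    refine ⟨_, hψ _ hπn ⟨k, hk⟩, ?_⟩
    show ((φ (⟨g, hg⟩ ^ n) ⟨k, hk⟩ * ⟨k, hk⟩⁻¹ : Q) : A) = g ^ n * k * (g ^ n)⁻¹ * k⁻¹
    rw [Subgroup.coe_mul, Subgroup.coe_inv]
    rfl

/-- If the elements of order three are central, the group is solvable. -/
theorem solvable_of_central [Finite A] (h : SylowData A)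
    (hc : ∀ x : A, Ord3 x → ∀ g : A, Commute g x) : Group.IsSolvable A := by
  haveI := Fact.mk Nat.prime_three
  haveI := Fact.mk Nat.prime_two
  have h3 : HasNormalPComplement 3 A := by
    refine Transfer.hasNormalPComplement_of_normalizer_centralizer default fun Q hQP hQ g hg hgc => ?_
    have hQ3 : IsPGroup 3 Q := (default : Sylow 3 A).2.to_le hQP
    haveI := h.odd_cyclic 3 Nat.prime_three (by norm_num) Q hQ3
    obtain ⟨c, hc'⟩ := IsCyclic.exists_generator (α := Q)
    obtain ⟨m, hm⟩ : ∃ m, orderOf (c : A) = 3 ^ (m + 1) := by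
      obtain ⟨k, hk⟩ := hQ3.exists_orderOf_eq_pow c
      refine ⟨k - 1, ?_⟩
      rw [orderOf_coe, hk]
      rcases Nat.eq_zero_or_pos k with rfl | hk0
      · exfalso
        rw [pow_zero, orderOf_eq_one_iff] at hk
        subst hk
        exact hQ ((eq_bot_iff_forall _).2 fun x hx => by
          obtain ⟨i, hi⟩ := mem_zpowers_iff.1 (hc' ⟨x, hx⟩)
          simpa using (congrArg Subtype.val hi).symm)
      · rw [Nat.sub_add_cancel hk0]
    obtain ⟨r, hr⟩ := mem_zpowers_iff.1 (hc' ⟨_, (mem_normalizer_iff.1 hg c).1 c.2⟩)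
    have hr' : g * c * g⁻¹ = (c : A) ^ r := by simpa using (congrArg Subtype.val hr).symm
    -- `r ≡ 1 (mod 3)`
    have hr3 : (3 : ℤ) ∣ r - 1 := by
      have hx : Ord3 ((c : A) ^ (3 ^ m)) := by
        refine ⟨?_, fun e => ?_⟩
        · rw [← pow_add, ← pow_add,
            show 3 ^ m + 3 ^ m + 3 ^ m = 3 ^ (m + 1) by ring, ← hm, pow_orderOf_eq_one]
        · have := Nat.le_of_dvd (by positivity) (orderOf_dvd_of_pow_eq_one e)
          rw [hm, pow_succ] at this
          have : 0 < 3 ^ m := by positivity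
          omega
      have hcomm := hc _ hx g
      have e2 : ((c : A) ^ r) ^ (3 ^ m) = (c : A) ^ (3 ^ m) := by
        rw [← hr', conj_pow, hcomm.eq, mul_inv_cancel_right]
      rw [← zpow_natCast, ← zpow_mul, ← zpow_natCast, ← orderOf_dvd_sub_iff_zpow_eq_zpow, hm] at e2
      push_cast at e2
      rw [pow_succ, show (r * 3 ^ m - 3 ^ m : ℤ) = 3 ^ m * (r - 1) by ring] at e2
      exact (mul_dvd_mul_iff_left (by positivity)).1 e2
    have hiter : ∀ k : ℕ, g ^ k * c * (g ^ k)⁻¹ = (c : A) ^ (r ^ k) := by
      intro k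
      induction k with
      | zero => simp
      | succ k ih =>
        calc g ^ (k + 1) * c * (g ^ (k + 1))⁻¹ = g * (g ^ k * c * (g ^ k)⁻¹) * g⁻¹ := by
              rw [pow_succ']; group
          _ = (g * c * g⁻¹) ^ (r ^ k) := by rw [ih, conj_zpow]
          _ = _ := by rw [hr', ← zpow_mul, pow_succ']
    have hcp : Commute (g ^ (3 ^ m)) (c : A) := by
      have hd : ((3 : ℤ) ^ (m + 1)) ∣ r ^ (3 ^ m) - 1 ^ (3 ^ m) := by
        exact_mod_cast dvd_sub_pow_of_dvd_sub (R := ℤ) (p := 3) (a := r) (b := 1)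
          (by exact_mod_cast hr3) m
      rw [one_pow] at hd
      have := hiter (3 ^ m)
      rw [show (c : A) ^ (r ^ (3 ^ m)) = (c : A) ^ (1 : ℤ) by
        rw [← orderOf_dvd_sub_iff_zpow_eq_zpow, hm]; exact_mod_cast hd, zpow_one] at this
      exact mul_inv_eq_iff_eq_mul.1 this
    have hmem : g ∈ zpowers (g ^ (3 ^ m)) := by
      rw [mem_zpowers_pow_iff]
      exact Nat.Coprime.pow_left _ hgc.symm
    rw [mem_centralizer_iff]
    intro x hx
    obtain ⟨i, hi⟩ := mem_zpowers_iff.1 (hc' ⟨x, hx⟩)
    have hx' : x = (c : A) ^ i := by simpa using (congrArg Subtype.val hi).symm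
    obtain ⟨j, hj⟩ := mem_zpowers_iff.1 hmem
    rw [hx', ← hj]
    exact ((hcp.zpow_left j).zpow_right i).symm.eq
  obtain ⟨P, M, hMn, hMc⟩ := h3
  haveI := hMn
  have hM3 : ¬ 3 ∣ Nat.card M := by
    rw [← hMc.index_eq_card]
    exact P.not_dvd_index
  have hM := h.comap M.subtype M.subtype_injective
  have h2 : HasNormalPComplement 2 M := by
    refine Transfer.hasNormalPComplement_of_normalizer_centralizer default fun Q hQP _ g hg hgc => ?_
    refine hM.two_centralize ((default : Sylow 2 M).2.to_le hQP) hg hgc ?_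
    rw [Nat.coprime_comm, Nat.prime_three.coprime_iff_not_dvd]
    exact fun hd => hM3 (hd.trans (orderOf_dvd_natCard g))
  obtain ⟨P2, N, hNn, hNc⟩ := h2
  haveI := hNn
  have hN2 : ¬ 2 ∣ Nat.card N := by
    rw [← hNc.index_eq_card]
    exact P2.not_dvd_index
  have hN := hM.comap N.subtype N.subtype_injective
  haveI : IsZGroup N := (isZGroup_iff N).2 fun p hp S => by
    rcases eq_or_ne p 2 with rfl | hne
    · haveI := Fact.mk hp
      have : (S : Subgroup N) = ⊥ := by
        by_contra hS
        obtain ⟨k, hk⟩ := S.2.exists_card_eq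
        rcases Nat.eq_zero_or_pos k with rfl | hk0
        · exact hS (card_eq_one.1 (hk.trans (pow_zero 2)))
        · exact hN2 ((dvd_pow_self 2 hk0.ne').trans (hk ▸ card_subgroup_dvd_card _))
      rw [this]; infer_instance
    · exact hN.odd_cyclic p hp hne S S.2
  haveI : Group.IsSolvable M := by
    haveI : Group.IsSolvable (M ⧸ N) := by
      have hq : IsPGroup 2 (M ⧸ N) := P2.2.of_equiv hNc.symm.QuotientMulEquiv.symm
      haveI := hq.isNilpotent
      infer_instance
    exact Group.isSolvable_of_ker_le_range N.subtype (QuotientGroup.mk' N)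
      (by rw [QuotientGroup.ker_mk', Subgroup.range_subtype])
  haveI : Group.IsSolvable (A ⧸ M) := by
    have hq : IsPGroup 3 (A ⧸ M) := P.2.of_equiv hMc.symm.QuotientMulEquiv.symm
    haveI := hq.isNilpotent
    infer_instance
  exact Group.isSolvable_of_ker_le_range M.subtype (QuotientGroup.mk' M)
    (by rw [QuotientGroup.ker_mk', Subgroup.range_subtype])

/-- The subgroups of order three. -/
abbrev Sub3 (A : Type u) [Group A] := {P : Subgroup A // Nat.card P = 3}

/-- At most four subgroups of order three imply solvability. -/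
theorem solvable_of_few [Finite A] (h : SylowData A) (h4 : Nat.card (Sub3 A) ≤ 4) :
    Group.IsSolvable A := by
  haveI := Fact.mk Nat.prime_three
  have hcard : ∀ (g : A) (P : Sub3 A), Nat.card (P.1.map (MulAut.conj g).toMonoidHom) = 3 :=
    fun g P => by rw [card_map_of_injective (MulAut.conj g).injective, P.2]
  letI : MulAction A (Sub3 A) :=
    { smul := fun g P => ⟨P.1.map (MulAut.conj g).toMonoidHom, hcard g P⟩
      one_smul := fun P => Subtype.ext (by
        show P.1.map (MulAut.conj 1).toMonoidHom = P.1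
        ext x; simp)
      mul_smul := fun g k P => Subtype.ext (by
        show P.1.map (MulAut.conj (g * k)).toMonoidHom =
          (P.1.map (MulAut.conj k).toMonoidHom).map (MulAut.conj g).toMonoidHom
        rw [Subgroup.map_map]; congr 1; ext x; simp [mul_assoc]) }
  let f := MulAction.toPermHom A (Sub3 A)
  haveI := SylowNum.isSolvable_perm_of_card_le_four h4
  set K := f.ker
  -- in the kernel, each element of order three is sent to itself or its square
  have hK : ∀ g ∈ K, ∀ x : A, Ord3 x → g * x * g⁻¹ = x ∨ g * x * g⁻¹ = x * x := by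
    intro g hg x hx
    have hP : Nat.card (zpowers x) = 3 := by rw [Nat.card_zpowers, hx.orderOf]
    have he := congrArg Subtype.val (Equiv.ext_iff.1 (show f g = 1 from hg) ⟨zpowers x, hP⟩)
    have hm : g * x * g⁻¹ ∈ zpowers x := by
      rw [← (show (zpowers x).map (MulAut.conj g).toMonoidHom = zpowers x from he)]
      exact ⟨x, Subgroup.mem_zpowers x, rfl⟩
    obtain ⟨n, hn⟩ := mem_zpowers_iff.1 hm
    rw [← zpow_mod_orderOf, hx.orderOf] at hn
    have h1 := Int.emod_nonneg n (show ((3 : ℕ) : ℤ) ≠ 0 by norm_num)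
    have h2 := Int.emod_lt_of_pos n (show (0 : ℤ) < ((3 : ℕ) : ℤ) by norm_num)
    have hcase : n % ((3 : ℕ) : ℤ) = 0 ∨ n % ((3 : ℕ) : ℤ) = 1 ∨ n % ((3 : ℕ) : ℤ) = 2 := by
      push_cast at h1 h2 ⊢; omega
    rcases hcase with e | e | e <;> rw [e] at hn
    · rw [zpow_zero] at hn
      exact absurd (conj_eq_one_iff.1 hn.symm) hx.2
    · rw [zpow_one] at hn; exact Or.inl hn.symm
    · rw [zpow_two] at hn; exact Or.inr hn.symm
  let C : Subgroup A := centralizer {x : A | Ord3 x}
  have hCsol : Group.IsSolvable C := by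
    refine solvable_of_central (h.comap C.subtype C.subtype_injective) fun x hx g => Subtype.ext ?_
    exact (mem_centralizer_iff.1 g.2 (x : A)
      ⟨congrArg Subtype.val hx.1, fun e => hx.2 (Subtype.ext e)⟩).symm
  haveI : Group.IsSolvable K := by
    haveI := hCsol
    haveI hCn : (C.subgroupOf K).Normal := by
      refine ⟨fun n hn g => mem_centralizer_iff.2 fun x hx => ?_⟩
      have := mem_centralizer_iff.1 hn _ (show (g : A)⁻¹ * x * g ∈ {x : A | Ord3 x} by
        simpa using (Ord3.conj (show Ord3 x from hx) (g : A)⁻¹))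
      simp only [Subgroup.coe_subtype, Subgroup.coe_mul, Subgroup.coe_inv] at this ⊢
      calc x * ((g : A) * n * (g : A)⁻¹) = (g : A) * ((g : A)⁻¹ * x * g * n) * (g : A)⁻¹ := by group
        _ = _ := by rw [this]; group
    haveI : Group.IsSolvable (C.subgroupOf K) :=
      Group.isSolvable_of_isSolvable_injective (f := (K.subtype.subgroupComap C))
        (fun a b hab => Subtype.ext (Subtype.ext (congrArg (fun z : C => (z : A)) hab)))
    haveI : Group.IsSolvable (K ⧸ C.subgroupOf K) := by
      haveI : IsMulCommutative (K ⧸ C.subgroupOf K) :=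
        Normal.quotient_commutative_iff_commutator_le.2 (by
          rw [_root_.commutator_def, commutator_le]
          intro a _ b _
          rw [mem_subgroupOf, mem_centralizer_iff]
          intro x hx
          have hx : Ord3 x := hx
          have key : (b : A) * a * x * ((b : A) * a)⁻¹ = (a : A) * b * x * ((a : A) * b)⁻¹ := by
            have e : ∀ p q : A, p * q * x * (p * q)⁻¹ = p * (q * x * q⁻¹) * p⁻¹ := fun p q => by group
            have e2 : ∀ p : A, p * (x * x) * p⁻¹ = (p * x * p⁻¹) * (p * x * p⁻¹) := fun p => by group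
            rw [e, e]
            rcases hK a a.2 x hx with ha | ha <;> rcases hK b b.2 x hx with hb | hb <;>
              simp only [ha, hb, e2, hx.sq_sq]
          simp only [commutatorElement_def, Subgroup.coe_mul, Subgroup.coe_inv]
          have : (a : A) * b * (a : A)⁻¹ * (b : A)⁻¹ * x * ((a : A) * b * (a : A)⁻¹ * (b : A)⁻¹)⁻¹ = x := by
            calc _ = (a : A) * b * ((a : A)⁻¹ * (b : A)⁻¹ * x * ((a : A)⁻¹ * (b : A)⁻¹)⁻¹) *
                  ((a : A) * b)⁻¹ := by group
              _ = (b : A) * a * ((a : A)⁻¹ * (b : A)⁻¹ * x * ((a : A)⁻¹ * (b : A)⁻¹)⁻¹) *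
                  ((b : A) * a)⁻¹ := by
                have h' : Ord3 ((a : A)⁻¹ * (b : A)⁻¹ * x * ((a : A)⁻¹ * (b : A)⁻¹)⁻¹) := hx.conj _
                have e : ∀ p q y : A, p * q * y * (p * q)⁻¹ = p * (q * y * q⁻¹) * p⁻¹ :=
                  fun p q y => by group
                have e2 : ∀ p y : A, p * (y * y) * p⁻¹ = (p * y * p⁻¹) * (p * y * p⁻¹) :=
                  fun p y => by group
                rw [e (a : A), e (b : A)]
                rcases hK a a.2 _ h' with ha | ha <;> rcases hK b b.2 _ h' with hb | hb <;>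
                  simp only [ha, hb, e2, h'.sq_sq]
              _ = x := by group
          exact (mul_inv_eq_iff_eq_mul.1 this).symm)
      exact Group.isSolvable_of_comm fun a b => mul_comm' a b
    exact Group.isSolvable_of_ker_le_range (C.subgroupOf K).subtype
      (QuotientGroup.mk' (C.subgroupOf K)) (by rw [QuotientGroup.ker_mk', Subgroup.range_subtype])
  exact Group.isSolvable_of_ker_le_range K.subtype f (by rw [Subgroup.range_subtype])

theorem sub3_le_of_commute [Finite A] {R : Type v} [Ring R] {ρ : A →* R} (hr : Rep ρ)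
    (hc : ∀ x y : A, Ord3 x → Ord3 y → Commute x y) : Nat.card (Sub3 A) ≤ 4 := by
  haveI := Fact.mk Nat.prime_three
  have : Subsingleton (Sub3 A) := by
    refine ⟨fun P Q => Subtype.ext ?_⟩
    obtain ⟨⟨x, hxP⟩, hx⟩ := exists_prime_orderOf_dvd_card' (G := P.1) 3 (dvd_of_eq P.2.symm)
    obtain ⟨⟨y, hyQ⟩, hy⟩ := exists_prime_orderOf_dvd_card' (G := Q.1) 3 (dvd_of_eq Q.2.symm)
    rw [orderOf_mk] at hx hy
    have hx3 : Ord3 x := cube_of_orderOf hx
    have hy3 : Ord3 y := cube_of_orderOf hy
    have e1 : zpowers x = P.1 :=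
      eq_of_le_of_card_ge (zpowers_le.2 hxP) (by rw [P.2, Nat.card_zpowers, hx])
    have e2 : zpowers y = Q.1 :=
      eq_of_le_of_card_ge (zpowers_le.2 hyQ) (by rw [Q.2, Nat.card_zpowers, hy])
    have hyx : y ∈ zpowers x := by
      rcases hr.commute_cube hx3.1 hx3.2 hy3.1 hy3.2 (hc x y hx3 hy3) with e | e <;> rw [e]
      exacts [Subgroup.mem_zpowers x, mul_mem (Subgroup.mem_zpowers x) (Subgroup.mem_zpowers x)]
    rw [← e1, ← e2]
    exact (eq_of_le_of_card_ge (zpowers_le.2 hyx)
      (by rw [Nat.card_zpowers, Nat.card_zpowers, hx, hy])).symm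
  have := Finite.card_le_one_iff_subsingleton.2 this
  omega

theorem sub3_le_of_card [Finite A] {N : Subgroup A} (hN : Nat.card N = 24)
    (h : ∀ x : A, Ord3 x → x ∈ N) : Nat.card (Sub3 A) ≤ 4 := by
  haveI := Fact.mk Nat.prime_three
  have hle : ∀ P : Sub3 A, P.1 ≤ N := fun P x hx => by
    rcases eq_or_ne x 1 with rfl | hx1
    · exact one_mem _
    refine h x (cube_of_orderOf ?_)
    have := Subgroup.orderOf_dvd_natCard P.1 hx
    rw [P.2, Nat.dvd_prime Nat.prime_three] at this
    exact this.resolve_left fun e => hx1 (orderOf_eq_one_iff.1 e)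
  have hf : (Nat.card N).factorization 3 = 1 := by
    rw [hN, show (24 : ℕ) = 3 * 8 from rfl, Nat.factorization_mul (by norm_num) (by norm_num),
      Finsupp.add_apply, Nat.Prime.factorization_self Nat.prime_three,
      Nat.factorization_eq_zero_of_not_dvd (by norm_num)]
  let F : Sub3 A → Sylow 3 N := fun P => Sylow.ofCard (P.1.subgroupOf N) (by
    rw [Nat.card_congr (Subgroup.subgroupOfEquivOfLe (hle P)).toEquiv, P.2, hf, pow_one])
  have hF : Function.Injective F := fun P Q e => by
    have e' : P.1.subgroupOf N = Q.1.subgroupOf N :=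
      congrArg (fun S : Sylow 3 N => (S : Subgroup N)) e
    refine Subtype.ext ?_
    have := Subgroup.subgroupOf_inj.1 e'
    rwa [inf_eq_left.2 (hle P), inf_eq_left.2 (hle Q)] at this
  refine (Nat.card_le_card_of_injective F hF).trans ?_
  have hmod := card_sylow_modEq_one 3 N
  have hd : Nat.card (Sylow 3 N) ∣ 8 := by
    have hP : Nat.card ((default : Sylow 3 N) : Subgroup N) = 3 := by
      rw [(default : Sylow 3 N).card_eq_multiplicity, hf, pow_one]
    have := card_mul_index ((default : Sylow 3 N) : Subgroup N)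
    rw [hP, hN] at this
    have h8 : ((default : Sylow 3 N) : Subgroup N).index = 8 := by omega
    exact h8 ▸ Sylow.card_dvd_index _
  have : ∀ m ∈ Nat.divisors 8, m % 3 = 1 → m ≤ 4 := by decide
  exact this _ (Nat.mem_divisors.2 ⟨hd, by norm_num⟩) hmod

/-- A non-solvable group with a fixed-point-free representation contains a double cover of `A₅`
with all elements of order three. -/
theorem exists_cover [Finite A] {R : Type v} [Ring R] {ρ : A →* R} (hr : Rep ρ) {ζ : A}
    (hζ : IsInv2 ζ) (h : SylowData A) (hns : ¬ Group.IsSolvable A) :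
    ∃ B : Subgroup A, Cover ζ B 5 ∧ ∀ x : A, Ord3 x → x ∈ B := by
  rcases dichotomy hr hζ with ⟨B, hB⟩ | hc | ⟨N, hN, hall⟩
  · exact ⟨B, hB, fun x hx => mem_of_cover_five hr hζ hB hx⟩
  · exact absurd (solvable_of_few h (sub3_le_of_commute hr hc)) hns
  · exact absurd (solvable_of_few h (sub3_le_of_card hN hall)) hns

end Cfsg.Agent.FPFStructure
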