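import Cfsg.Agent.FPFStructure.Struct
import Cfsg.Agent.FPFStructure.QuatAut
import Cfsg.Agent.OddLocal44.Stability
import Cfsg.Agent.Lib.Thompson.PSolvable

set_option autoImplicit false
set_option linter.style.haveILetI false

/-!
Solvable fixed-point-free groups modulo their largest normal `Z`-subgroup.
-/

namespace Cfsg.Agent.FPFStructure

universe u v

open Subgroup
open Cfsg (pCore pPrimeCore)

theorem odd_normal_bot {Q : Type} [Group Q] [Finite Q] {c : ℕ} (hc : Nat.card Q = c)
    (hdiv : ∀ d ∈ c.divisors, d % 2 = 1 → d = 1 ∨ d = 3)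
    (h : ∀ x : Q, x * x * x = 1 → (∀ y : Q, y * x * y⁻¹ = x ∨ y * x * y⁻¹ = x * x) → x = 1) :
    Cfsg.pPrimeCore 2 Q = ⊥ := by
  set N := Cfsg.pPrimeCore 2 Q
  have hodd : (Nat.card N).Coprime 2 := Thompson.card_pPrimeCore_coprime
  haveI : N.Normal := inferInstance
  have hm : Nat.card N ∈ c.divisors :=
    Nat.mem_divisors.2 ⟨hc ▸ Subgroup.card_subgroup_dvd_card N, hc ▸ Nat.card_pos.ne'⟩
  rcases hdiv _ hm (Nat.odd_iff.1 (Nat.coprime_two_right.1 hodd)) with e | e
  · exact Subgroup.card_eq_one.1 e
  · haveI := Fact.mk Nat.prime_three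
    refine (Subgroup.eq_bot_iff_forall N).2 fun x hx => ?_
    by_contra hx1
    have ho : orderOf x = 3 := by
      have := Subgroup.orderOf_dvd_natCard N hx
      rw [e, Nat.dvd_prime Nat.prime_three] at this
      exact this.resolve_left fun e => hx1 (orderOf_eq_one_iff.1 e)
    have hz : Subgroup.zpowers x = N :=
      Subgroup.eq_of_le_of_card_ge (Subgroup.zpowers_le.2 hx) (by rw [e, Nat.card_zpowers, ho])
    refine hx1 (h x (cube_of_orderOf ho).1 fun y => ?_)
    have hy : y * x * y⁻¹ ∈ Subgroup.zpowers x := hz ▸ (inferInstance : N.Normal).conj_mem x hx y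
    obtain ⟨n, hn⟩ := Subgroup.mem_zpowers_iff.1 hy
    rw [← zpow_mod_orderOf, ho] at hn
    have h1 := Int.emod_nonneg n (show ((3 : ℕ) : ℤ) ≠ 0 by norm_num)
    have h2 := Int.emod_lt_of_pos n (show (0 : ℤ) < ((3 : ℕ) : ℤ) by norm_num)
    have hcase : n % ((3 : ℕ) : ℤ) = 0 ∨ n % ((3 : ℕ) : ℤ) = 1 ∨ n % ((3 : ℕ) : ℤ) = 2 := by
      push_cast at h1 h2 ⊢; omega
    rcases hcase with e | e | e <;> rw [e] at hn
    · rw [zpow_zero] at hn; exact absurd (conj_eq_one_iff.1 hn.symm) hx1
    · rw [zpow_one] at hn; exact Or.inl hn.symm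
    · rw [zpow_two] at hn; exact Or.inr hn.symm

theorem pPrimeCore_d2 : Cfsg.pPrimeCore 2 (DihedralGroup 2) = ⊥ :=
  odd_normal_bot (c := 4) DihedralGroup.nat_card (by decide) (by decide +kernel)

theorem pPrimeCore_a4 : Cfsg.pPrimeCore 2 (alternatingGroup (Fin 4)) = ⊥ :=
  odd_normal_bot (c := 12) (by rw [nat_card_alternatingGroup]; simp [Nat.factorial])
    (by decide) (by decide +kernel)

theorem pPrimeCore_s4 : Cfsg.pPrimeCore 2 (Equiv.Perm (Fin 4)) = ⊥ :=
  odd_normal_bot (c := 24) (by rw [Nat.card_perm, Nat.card_fin]; rfl)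
    (by decide) (by decide +kernel)

/-- Every two-subgroup is cyclic or a quaternion group. -/
def CQ (G : Type u) [Group G] : Prop :=
  ∀ Q : Subgroup G, IsPGroup 2 Q → IsCyclic Q ∨ ∃ k : ℕ, Nonempty (Q ≃* QuaternionGroup (2 ^ k))

/-- The quotient by `N` is the four-group, `A₄` or `S₄`. -/
def Small (G : Type u) [Group G] (N : Subgroup G) : Prop :=
  (∃ f : G →* DihedralGroup 2, Function.Surjective f ∧ f.ker = N) ∨
    (∃ f : G →* alternatingGroup (Fin 4), Function.Surjective f ∧ f.ker = N) ∨
    (∃ f : G →* Equiv.Perm (Fin 4), Function.Surjective f ∧ f.ker = N)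

theorem Small.comap {G : Type u} [Group G] {H : Type v} [Group H] {N : Subgroup H}
    (h : Small H N) (π : G →* H) (hπ : Function.Surjective π) : Small G (N.comap π) := by
  refine Or.imp ?_ (Or.imp ?_ ?_) h <;>
  · rintro ⟨f, hf, rfl⟩
    exact ⟨f.comp π, hf.comp hπ, (MonoidHom.comap_ker f π).symm⟩

theorem Small.map {G : Type u} [Group G] {H : Type v} [Group H] {N : Subgroup G} (π : G →* H)
    (hπ : Function.Surjective π) (hk : π.ker ≤ N) (h : Small G N) : Small H (N.map π) := by
  refine Or.imp ?_ (Or.imp ?_ ?_) h <;>
  · rintro ⟨f, hf, rfl⟩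
    refine ⟨π.liftOfSurjective hπ ⟨f, hk⟩, fun y => ?_, ?_⟩
    · obtain ⟨x, rfl⟩ := hf y
      exact ⟨π x, π.liftOfRightInverse_comp_apply _ (Function.rightInverse_surjInv hπ) ⟨f, hk⟩ x⟩
    · refine Subgroup.comap_injective hπ ?_
      rw [comap_map_eq_self hk, MonoidHom.comap_ker]
      congr 1
      exact MonoidHom.ext fun x =>
        π.liftOfRightInverse_comp_apply _ (Function.rightInverse_surjInv hπ) ⟨f, hk⟩ x

theorem cq_of_rep {G : Type u} [Group G] [Finite G] {R : Type v} [Ring R] {ρ : G →* R} {ζ : G}
    (hr : Rep ρ) (hζ : IsInv2 ζ) : CQ G := by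
  intro Q hQ
  haveI := Fact.mk Nat.prime_two
  have huniq : ∀ X : Subgroup Q, Nat.card X = 2 → X.map Q.subtype = zpowers ζ := by
    intro X hX
    obtain ⟨x, hx⟩ := exists_prime_orderOf_dvd_card' (G := X) 2 (dvd_of_eq hX.symm)
    have hx' : orderOf ((x : Q) : G) = 2 := by rw [orderOf_coe, orderOf_coe, hx]
    have hxζ : ((x : Q) : G) = ζ := by
      rcases hr.invol hζ (show ((x : Q) : G) * ((x : Q) : G) = 1 by
        rw [← pow_two, ← hx', pow_orderOf_eq_one]) with e | e
      · rw [e, orderOf_one] at hx'; norm_num at hx'
      · exact e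
    have hm : ζ ∈ X.map Q.subtype := ⟨(x : Q), x.2, hxζ⟩
    refine (eq_of_le_of_card_ge (zpowers_le.2 hm) ?_).symm
    rw [card_map_of_injective Q.subtype_injective, hX, Nat.card_zpowers, ← hxζ, hx']
  rcases S0016.result (G := Q) 2 hQ fun X Y hX hY =>
      map_injective Q.subtype_injective ((huniq X hX).trans (huniq Y hY).symm) with h | ⟨-, h⟩
  exacts [Or.inl h, Or.inr h]

theorem CQ.quotient {G : Type u} [Group G] [Finite G] (h : CQ G) (O : Subgroup G) [O.Normal]
    (hO : (Nat.card O).Coprime 2) : CQ (G ⧸ O) := by
  intro Q hQ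
  haveI := Fact.mk Nat.prime_two
  set Qh := Q.comap (QuotientGroup.mk' O)
  obtain ⟨P⟩ : Nonempty (Sylow 2 Qh) := inferInstance
  let P' := (P : Subgroup Qh).map Qh.subtype
  have hP' : IsPGroup 2 P' := P.2.map _
  have hQh : Nat.card Qh = Nat.card Q * Nat.card O := Thompson.card_comap_quotient O Q
  have hPcard : Nat.card P' = Nat.card Q := by
    obtain ⟨k, hk⟩ := hQ.exists_card_eq
    rw [card_map_of_injective Qh.subtype_injective, P.card_eq_multiplicity, hQh, hk,
      Nat.factorization_mul (pow_ne_zero _ two_ne_zero) Nat.card_pos.ne', Finsupp.add_apply,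
      Nat.prime_two.factorization_pow, Finsupp.single_eq_same,
      Nat.factorization_eq_zero_of_not_dvd ((Nat.prime_two.coprime_iff_not_dvd).1 hO.symm), add_zero]
  have hmem : ∀ x : P', QuotientGroup.mk' O (x : G) ∈ Q := fun x =>
    (map_subtype_le (P : Subgroup Qh) x.2 :)
  let f : P' →* Q := ((QuotientGroup.mk' O).comp P'.subtype).codRestrict Q hmem
  have hf : Function.Injective f := by
    refine (injective_iff_map_eq_one f).2 fun x hx => Subtype.ext ?_
    have h1 : (x : G) ∈ O :=
      (QuotientGroup.eq_one_iff _).1 (congrArg (fun y : Q => (y : G ⧸ O)) hx)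
    have h2 : P' ⊓ O = ⊥ := inf_eq_bot_of_coprime (by
      obtain ⟨k, hk⟩ := hP'.exists_card_eq
      rw [hk]; exact Nat.Coprime.pow_left _ hO.symm)
    exact mem_bot.1 (h2 ▸ mem_inf.2 ⟨x.2, h1⟩)
  have e : P' ≃* Q := MulEquiv.ofBijective f ((Nat.bijective_iff_injective_and_card f).2 ⟨hf, hPcard⟩)
  rcases h P' hP' with hc | ⟨k, ⟨q⟩⟩
  · haveI := hc
    exact Or.inl (isCyclic_of_surjective e e.surjective)
  · exact Or.inr ⟨k, ⟨e.symm.trans q⟩⟩

/-- A `Z`-group has no four-subgroup. -/
theorem not_isZGroup_of_klein {H : Type u} [Group H] [Finite H] {a b : H} (ha : a * a = 1)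
    (hb : b * b = 1) (hab : a * b = b * a) (ha1 : a ≠ 1) (hb1 : b ≠ 1) (hne : a ≠ b) :
    ¬ IsZGroup H := by
  intro hZ
  haveI := hZ
  set S := closure ({a, b} : Set H)
  have hc : ∀ x ∈ S, ∀ y ∈ S, Commute x y := by
    intro x hx y hy
    have hle : S ≤ centralizer (S : Set H) := by
      refine (closure_le _).2 fun w hw => ?_
      show w ∈ centralizer ((closure ({a, b} : Set H) : Subgroup H) : Set H)
      rw [centralizer_closure, mem_centralizer_iff]
      rintro v (rfl | rfl) <;> rcases hw with rfl | rfl
      exacts [rfl, hab, hab.symm, rfl]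
    exact mem_centralizer_iff.1 (hle hy) x hx
  haveI : Group.IsNilpotent S := by
    letI : CommGroup S :=
      { (inferInstance : Group S) with mul_comm := fun x y => Subtype.ext (hc x x.2 y y.2).eq }
    infer_instance
  haveI : IsCyclic S := inferInstance
  obtain ⟨c, hc'⟩ := IsCyclic.exists_ofOrder_eq_natCard (α := S)
  have h2 : ∀ x ∈ S, x * x = 1 := by
    intro x hx
    induction hx using closure_induction with
    | mem w hw => rcases hw with rfl | rfl; exacts [ha, hb]
    | one => simp
    | mul p q hp hq h1 h2 =>
      rw [← pow_two] at h1 h2 ⊢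
      rw [(hc p hp q hq).mul_pow, h1, h2, one_mul]
    | inv p _ h1 => rw [← mul_inv_rev, h1, inv_one]
  have hle : Nat.card S ≤ 2 := by
    rw [← hc']
    exact Nat.le_of_dvd two_pos (orderOf_dvd_of_pow_eq_one (Subtype.ext (by
      simpa [pow_two] using h2 c c.2)))
  have h3 : Function.Injective (![(1 : S), ⟨a, subset_closure (Or.inl rfl)⟩,
      ⟨b, subset_closure (Or.inr rfl)⟩] : Fin 3 → S) := by
    intro i j h
    fin_cases i <;> fin_cases j <;> simp_all [Subtype.ext_iff]
  have := Nat.card_le_card_of_injective _ h3
  rw [Nat.card_fin] at this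
  omega

theorem not_isZGroup_d2 : ¬ IsZGroup (DihedralGroup 2) := by
  refine not_isZGroup_of_klein (a := DihedralGroup.r 1) (b := DihedralGroup.sr 0) ?_ ?_ ?_ ?_ ?_ ?_ <;>
    decide +kernel

theorem not_isZGroup_a4 : ¬ IsZGroup (alternatingGroup (Fin 4)) := by
  have h : ∃ a b : alternatingGroup (Fin 4), a * a = 1 ∧ b * b = 1 ∧ a * b = b * a ∧ a ≠ 1 ∧
      b ≠ 1 ∧ a ≠ b := by decide +kernel
  obtain ⟨a, b, h1, h2, h3, h4, h5, h6⟩ := h
  exact not_isZGroup_of_klein h1 h2 h3 h4 h5 h6

theorem not_isZGroup_s4 : ¬ IsZGroup (Equiv.Perm (Fin 4)) := fun h =>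
  not_isZGroup_a4 (by haveI := h; infer_instance)

theorem Small.not_isZGroup {G : Type u} [Group G] [Finite G] {N : Subgroup G} (h : Small G N) :
    ¬ IsZGroup G := by
  intro hZ
  haveI := hZ
  rcases h with ⟨f, hf, -⟩ | ⟨f, hf, -⟩ | ⟨f, hf, -⟩
  · exact not_isZGroup_d2 (IsZGroup.of_surjective hf)
  · exact not_isZGroup_a4 (IsZGroup.of_surjective hf)
  · exact not_isZGroup_s4 (IsZGroup.of_surjective hf)

theorem isSolvable_of_small {G : Type u} [Group G] {N : Subgroup G} (hN : Group.IsSolvable N)
    (h : Small G N) : Group.IsSolvable G := by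
  haveI := hN
  haveI := SylowNum.isSolvable_perm_four
  haveI : Group.IsSolvable (DihedralGroup 2) :=
    Group.isSolvable_of_comm fun a b => (by decide +kernel : ∀ a b : DihedralGroup 2, a * b = b * a) a b
  rcases h with ⟨f, -, rfl⟩ | ⟨f, -, rfl⟩ | ⟨f, -, rfl⟩
  · exact Group.isSolvable_of_ker_le_range f.ker.subtype f (by rw [range_subtype])
  · exact Group.isSolvable_of_ker_le_range f.ker.subtype f (by rw [range_subtype])
  · exact Group.isSolvable_of_ker_le_range f.ker.subtype f (by rw [range_subtype])

theorem d2_sq : ∀ d : DihedralGroup 2, d * d = 1 := by decide +kernel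

theorem q8_center : ∀ x : QuaternionGroup (2 ^ 1), (∀ y, y * x = x * y) →
    x = 1 ∨ x = QuaternionGroup.a 2 := by decide +kernel

theorem q8_sq : ∀ x y : QuaternionGroup (2 ^ 1), x * x * y = y * (x * x) := by decide +kernel

theorem q8_invol : ∀ y : QuaternionGroup (2 ^ 1), y * y = 1 → y = 1 ∨ y = QuaternionGroup.a 2 := by
  decide +kernel

theorem q8_z : (QuaternionGroup.a 2 * QuaternionGroup.a 2 : QuaternionGroup (2 ^ 1)) = 1 ∧
    (QuaternionGroup.a 2 : QuaternionGroup (2 ^ 1)) ≠ 1 := by decide +kernel

/-- The reduced group: no nontrivial normal subgroup of odd order. -/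
theorem reduced {H : Type u} [Group H] [Finite H] [Group.IsSolvable H] (hcq : CQ H)
    (hO : pPrimeCore 2 H = ⊥) :
    (IsPGroup 2 H ∧ IsCyclic H) ∨
      ∃ N : Subgroup H, N.Normal ∧ IsCyclic N ∧ IsPGroup 2 N ∧ Small H N ∧
        ∀ N' : Subgroup H, N'.Normal → IsCyclic N' → IsPGroup 2 N' → Small H N' → N' = N := by
  haveI := Fact.mk Nat.prime_two
  set P := pCore 2 H
  have hP : IsPGroup 2 P := Thompson.isPGroup_pCore
  have hcent : centralizer (P : Set H) ≤ P :=
    Thompson.centralizer_pCore_le OddLocal44.isPSolvable_of_isSolvable hO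
  rcases hcq P hP with hc | ⟨k, ⟨e⟩⟩
  -- `P` cyclic or quaternion; if no element of odd order acts, `H` is a two-group
  all_goals
    have key : (∀ g : H, Odd (orderOf g) → g ∈ centralizer (P : Set H)) → IsPGroup 2 H := by
      intro hg
      have hodd : ∀ g : H, Odd (orderOf g) → g = 1 := fun g h => by
        obtain ⟨j, hj⟩ := hP ⟨g, hcent (hg g h)⟩
        have h1 : orderOf g ∣ 2 ^ j := orderOf_dvd_of_pow_eq_one (congrArg Subtype.val hj)
        exact orderOf_eq_one_iff.1
          (Nat.eq_one_of_dvd_coprimes ((Nat.coprime_two_left.2 h).pow_left j) h1 dvd_rfl)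
      intro g
      obtain ⟨a, m, hm, he⟩ := Nat.exists_eq_two_pow_mul_odd (orderOf_pos g).ne'
      refine ⟨a, hodd _ ?_⟩
      rw [orderOf_pow' _ (pow_ne_zero _ two_ne_zero), he,
        Nat.gcd_eq_right (dvd_mul_right (2 ^ a) m), Nat.mul_div_cancel_left _ (Nat.two_pow_pos a)]
      exact hm
  · -- cyclic: every odd element centralises
    haveI := hc
    refine Or.inl ?_
    have h2 : IsPGroup 2 H := key fun g hg => by
      obtain ⟨c, hc'⟩ := IsCyclic.exists_generator (α := P)
      have hcard : Nat.card (MulAut P) = Nat.totient (Nat.card P) := IsCyclic.card_mulAut P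
      obtain ⟨j, hj⟩ := hP.exists_card_eq
      have hd : orderOf (MulAut.conjNormal g : MulAut P) ∣ orderOf g := orderOf_map_dvd _ g
      have hd2 : orderOf (MulAut.conjNormal g : MulAut P) ∣ 2 ^ j := by
        refine (_root_.orderOf_dvd_natCard _).trans ?_
        rw [hcard, hj]
        rcases j with _ | j
        · simp
        · (rw [Nat.totient_prime_pow_succ Nat.prime_two, show (2 : ℕ) - 1 = 1 from rfl, mul_one]; exact pow_dvd_pow 2 (Nat.le_succ j))
      have h1 : orderOf (MulAut.conjNormal g : MulAut P) = 1 :=
        Nat.eq_one_of_dvd_coprimes ((Nat.coprime_two_left.2 hg).pow_left j) hd2 hd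
      rw [orderOf_eq_one_iff] at h1
      rw [mem_centralizer_iff]
      intro x hx
      have := congrArg (fun φ : MulAut P => ((φ ⟨x, hx⟩ : P) : H)) h1
      simp only [MulAut.conjNormal_apply, MulAut.one_apply] at this
      exact (mul_inv_eq_iff_eq_mul.1 this).symm
    refine ⟨h2, ?_⟩
    have htop : P = ⊤ := Thompson.pCore_eq_top_iff.2 h2
    haveI : IsCyclic (⊤ : Subgroup H) := htop ▸ hc
    exact isCyclic_of_surjective (Subgroup.topEquiv (G := H)) Subgroup.topEquiv.surjective
  · by_cases hk : k = 0
    · -- `Q₄` is cyclic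
      subst hk
      haveI : IsCyclic (QuaternionGroup (2 ^ 0)) :=
        isCyclic_of_orderOf_eq_card (QuaternionGroup.xa 0)
          (by rw [QuaternionGroup.orderOf_xa, Nat.card_eq_fintype_card, QuaternionGroup.card]; norm_num)
      haveI : IsCyclic P := isCyclic_of_surjective e.symm e.symm.surjective
      refine Or.inl ?_
      have h2 : IsPGroup 2 H := key fun g hg => by
        have h1 : (MulAut.congr e) (MulAut.conjNormal g) = 1 := by
          refine quat_aut_trivial zero_ne_one _ ?_
          rw [MulEquiv.orderOf_eq]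
          exact hg.of_dvd_nat (orderOf_map_dvd _ g)
        rw [MulEquiv.map_eq_one_iff] at h1
        rw [mem_centralizer_iff]
        intro x hx
        have := congrArg (fun φ : MulAut P => ((φ ⟨x, hx⟩ : P) : H)) h1
        simp only [MulAut.conjNormal_apply, MulAut.one_apply] at this
        exact (mul_inv_eq_iff_eq_mul.1 this).symm
      refine ⟨h2, ?_⟩
      have htop : P = ⊤ := Thompson.pCore_eq_top_iff.2 h2
      haveI : IsCyclic (⊤ : Subgroup H) := htop ▸ (inferInstance : IsCyclic P)
      exact isCyclic_of_surjective (Subgroup.topEquiv (G := H)) Subgroup.topEquiv.surjective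
    · refine Or.inr ?_
      haveI : NeZero (2 ^ k) := ⟨by positivity⟩
      by_cases h2 : IsPGroup 2 H
      · -- `H` is quaternion
        have htop : P = ⊤ := Thompson.pCore_eq_top_iff.2 h2
        let q : H ≃* QuaternionGroup (2 ^ k) :=
          ((MulEquiv.subgroupCongr htop).trans Subgroup.topEquiv).symm.trans e
        obtain ⟨f, hf, hker⟩ := exists_quat_hom (m := 2 ^ k) (dvd_pow_self 2 hk)
        let F := f.comp q.toMonoidHom
        have hFs : Function.Surjective F := fun y => by
          obtain ⟨x, rfl⟩ := hf y
          exact ⟨q.symm x, congrArg f (q.apply_symm_apply x)⟩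
        have hFz : F.ker ≤ zpowers (q.symm (QuaternionGroup.a 1)) := by
          intro g hg
          obtain ⟨i, hi⟩ := mem_zpowers_iff.1 (hker _ hg).1
          exact mem_zpowers_iff.2 ⟨i, (map_zpow q.symm _ i).symm.trans
            ((congrArg q.symm hi).trans (q.symm_apply_apply g))⟩
        refine ⟨F.ker, inferInstance, ?_, h2.to_subgroup _,
          Or.inl ⟨F, hFs, rfl⟩, ?_⟩
        · exact isCyclic_of_injective (Subgroup.inclusion hFz) (Subgroup.inclusion_injective hFz)
        intro N' hN' _ _ hs
        have hFd : F.ker.index = 4 := by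
          rw [index_ker, MonoidHom.range_eq_top.2 (hFs), Subgroup.card_top,
            DihedralGroup.nat_card]
        obtain ⟨f', hf', rfl⟩ : ∃ f' : H →* DihedralGroup 2, Function.Surjective f' ∧ f'.ker = N' := by
          rcases hs with h | ⟨f', hf', -⟩ | ⟨f', hf', -⟩
          · exact h
          · exfalso
            obtain ⟨j, hj⟩ := h2.exists_card_eq
            have := Subgroup.card_dvd_of_surjective f' hf'
            rw [hj, nat_card_alternatingGroup] at this
            have h3 : 3 ∣ 2 ^ j := (show (3 : ℕ) ∣ _ by simp [Nat.factorial]).trans this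
            exact absurd ((Nat.prime_dvd_prime_iff_eq Nat.prime_three Nat.prime_two).1
              (Nat.prime_three.dvd_of_dvd_pow h3)) (by norm_num)
          · exfalso
            obtain ⟨j, hj⟩ := h2.exists_card_eq
            have := Subgroup.card_dvd_of_surjective f' hf'
            rw [hj, Nat.card_perm, Nat.card_fin] at this
            have h3 : 3 ∣ 2 ^ j := (show (3 : ℕ) ∣ Nat.factorial 4 by decide).trans this
            exact absurd ((Nat.prime_dvd_prime_iff_eq Nat.prime_three Nat.prime_two).1
              (Nat.prime_three.dvd_of_dvd_pow h3)) (by norm_num)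
        have hle : F.ker ≤ f'.ker := by
          intro g hg
          have hsq : (closure (Set.range fun x : QuaternionGroup (2 ^ k) => x * x)) ≤
              f'.ker.map q.toMonoidHom := by
            refine (closure_le _).2 ?_
            rintro _ ⟨x, rfl⟩
            refine ⟨q.symm x * q.symm x, ?_, by simp⟩
            show f' (q.symm x * q.symm x) = 1
            rw [map_mul]
            exact d2_sq _
          obtain ⟨g', hg', he⟩ := hsq (hker _ hg).2
          rwa [← q.injective he]
        refine (eq_of_le_of_card_ge hle ?_).symm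
        have h1 := card_mul_index f'.ker
        have h3 := card_mul_index F.ker
        rw [index_ker, MonoidHom.range_eq_top.2 hf', Subgroup.card_top, DihedralGroup.nat_card] at h1
        rw [hFd] at h3
        omega
      · -- an odd element acts on `P ≅ Q₈`
        obtain ⟨g, hgo, hg⟩ : ∃ g : H, Odd (orderOf g) ∧ g ∉ centralizer (P : Set H) := by
          by_contra hno
          exact h2 (key fun g hg => by_contra fun h => hno ⟨g, hg, h⟩)
        have hφg : (MulAut.congr e) (MulAut.conjNormal g) ≠ 1 := fun h1 => hg (by
          rw [MulEquiv.map_eq_one_iff] at h1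
          rw [mem_centralizer_iff]
          intro x hx
          have := congrArg (fun φ : MulAut P => ((φ ⟨x, hx⟩ : P) : H)) h1
          simp only [MulAut.conjNormal_apply, MulAut.one_apply] at this
          exact (mul_inv_eq_iff_eq_mul.1 this).symm)
        have hk1 : k = 1 := by_contra fun hk1 => hφg (quat_aut_trivial hk1 _ (by
          rw [MulEquiv.orderOf_eq]
          exact hgo.of_dvd_nat (orderOf_map_dvd _ g)))
        subst hk1
        obtain ⟨ι, hι⟩ := exists_aut_quat_hom
        let φ : H →* Equiv.Perm (Fin 4) :=
          ι.comp ((MulAut.congr e).toMonoidHom.comp MulAut.conjNormal)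
        have hσ1 : φ g ≠ 1 := fun h => hφg (hι (h.trans (map_one ι).symm))
        have hσ3 : φ g * φ g * φ g = 1 := by
          rcases perm_four_odd_order (φ g) with h | h
          · exact h
          · exfalso
            refine hσ1 (orderOf_eq_one_iff.1 (Nat.eq_one_of_dvd_coprimes
              ((Nat.coprime_two_left.2 hgo).pow_left 2) ?_ (orderOf_map_dvd φ g)))
            exact orderOf_dvd_of_pow_eq_one (by simpa [pow_succ, mul_assoc] using h)
        have hkP : ∀ x : H, φ x = 1 → x ∈ centralizer (P : Set H) := by
          intro x hx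
          have h1 : MulAut.congr e (MulAut.conjNormal x : MulAut P) = 1 := hι (hx.trans (map_one ι).symm)
          rw [MulEquiv.map_eq_one_iff] at h1
          rw [mem_centralizer_iff]
          intro y hy
          have := congrArg (fun φ : MulAut P => ((φ ⟨y, hy⟩ : P) : H)) h1
          simp only [MulAut.conjNormal_apply, MulAut.one_apply] at this
          exact (mul_inv_eq_iff_eq_mul.1 this).symm
        have hcenQ := q8_center
        have hkz : φ.ker ≤ zpowers ((e.symm (QuaternionGroup.a 2) : P) : H) := by
          intro x hx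
          have hxP : x ∈ P := hcent (hkP x hx)
          have hc := hcenQ (e ⟨x, hxP⟩) fun y => by
            have h1 := mem_centralizer_iff.1 (hkP x hx) _ (e.symm y).2
            have h2 : e.symm y * ⟨x, hxP⟩ = ⟨x, hxP⟩ * e.symm y := Subtype.ext h1
            simpa using congrArg e h2
          rcases hc with h | h
          · rw [MulEquiv.map_eq_one_iff] at h
            rw [show x = 1 from congrArg Subtype.val h]
            exact one_mem _
          · rw [← h, e.symm_apply_apply]
            exact Subgroup.mem_zpowers _
        have hkcard : Nat.card φ.ker ≤ 2 := by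
          refine (Nat.le_of_dvd Nat.card_pos (card_dvd_of_le hkz)).trans ?_
          rw [Nat.card_zpowers]
          refine Nat.le_of_dvd two_pos (orderOf_dvd_of_pow_eq_one ?_)
          rw [pow_two, ← Subgroup.coe_mul, ← map_mul,
            q8_z.1,
            map_one, Subgroup.coe_one]
        have hker1 : φ.ker ≤ P := fun x hx => hcent (hkP x hx)
        have hkcyc : IsCyclic φ.ker :=
          isCyclic_of_injective (Subgroup.inclusion hkz) (Subgroup.inclusion_injective hkz)
        -- the image
        have hPcard : Nat.card P = 8 := by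
          rw [Nat.card_congr e.toEquiv, Nat.card_eq_fintype_card, QuaternionGroup.card]; norm_num
        have h4 : 4 ∣ Nat.card φ.range := by
          have hPi : Nat.card (P.map φ) ∣ Nat.card φ.range := card_dvd_of_le (map_le_range φ P)
          have := card_mul_index (φ.ker.subgroupOf P)
          rw [show (φ.ker.subgroupOf P).index = Nat.card (P.map φ) by
            rw [← relIndex_ker]; rfl] at this
          rw [Nat.card_congr (subgroupOfEquivOfLe hker1).toEquiv, hPcard] at this
          obtain ⟨j, hj⟩ := (hP.map φ).exists_card_eq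
          have hj2 : 2 ≤ j := by
            by_contra hlt
            have : 2 ^ j ≤ 2 := by
              calc 2 ^ j ≤ 2 ^ 1 := Nat.pow_le_pow_right (by norm_num) (by omega)
                _ = 2 := by norm_num
            nlinarith [hkcard, hj]
          exact (hj ▸ pow_dvd_pow 2 hj2).trans hPi
        have h3 : 3 ∣ Nat.card φ.range := by
          haveI := Fact.mk Nat.prime_three
          rw [← orderOf_eq_prime (show φ g ^ 3 = 1 by rw [pow_three, ← mul_assoc, hσ3]) hσ1]
          exact Subgroup.orderOf_dvd_natCard _ ⟨g, rfl⟩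
        have hrange : φ.range = alternatingGroup (Fin 4) ∨ φ.range = ⊤ := by
          have h12 : 12 ∣ Nat.card φ.range :=
            (show Nat.Coprime 4 3 by norm_num).mul_dvd_of_dvd_of_dvd h4 h3
          have := card_mul_index φ.range
          rw [Nat.card_perm, Nat.card_fin, show Nat.factorial 4 = 24 by rfl] at this
          obtain ⟨t, ht⟩ := h12
          rw [ht] at this
          have hi : φ.range.index ≤ 2 := by
            rcases Nat.eq_zero_or_pos t with rfl | htp
            · simp at this
            · nlinarith
          have hi0 : φ.range.index ≠ 0 := fun h0 => by rw [h0] at this; simp at this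
          rcases (show φ.range.index = 1 ∨ φ.range.index = 2 by omega) with h | h
          · exact Or.inr (index_eq_one.1 h)
          · exact Or.inl (Equiv.Perm.eq_alternatingGroup_of_index_eq_two h)
        refine ⟨φ.ker, inferInstance, hkcyc, hP.to_le hker1, ?_, ?_⟩
        · rcases hrange with h | h
          · refine Or.inr (Or.inl ⟨φ.codRestrict (alternatingGroup (Fin 4)) (fun x => h ▸ ⟨x, rfl⟩),
              fun y => ?_, ?_⟩)
            · obtain ⟨x, hx⟩ : (y : Equiv.Perm (Fin 4)) ∈ φ.range := h.symm ▸ y.2
              exact ⟨x, Subtype.ext hx⟩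
            · exact MonoidHom.ker_codRestrict _ _ _
          · exact Or.inr (Or.inr ⟨φ, MonoidHom.range_eq_top.1 h, rfl⟩)
        intro N' hN' hN'c hN'2 hs
        haveI := hN'
        have hN'P : N' ≤ P := Thompson.le_pCore hN' hN'2
        -- no element of order four
        have hle : N' ≤ φ.ker := by
          intro u hu
          by_contra hne
          haveI := hN'c
          have hτ2 : φ u * φ u = 1 := by
            rw [← map_mul]
            have hsqQ := q8_sq
            show φ (u * u) = 1
            refine (congrArg ι ?_).trans (map_one ι)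
            show MulAut.congr e (MulAut.conjNormal (u * u) : MulAut P) = 1
            rw [MulEquiv.map_eq_one_iff]
            refine MulEquiv.ext fun y => Subtype.ext ?_
            have h1 := hsqQ (e ⟨u, hN'P hu⟩) (e y)
            rw [← map_mul, ← map_mul, ← map_mul] at h1
            have h2 := congrArg Subtype.val (e.injective h1)
            simp only [Subgroup.coe_mul] at h2
            rw [MulAut.conjNormal_apply, MulAut.one_apply, h2, mul_inv_cancel_right]
          -- `g` centralises the cyclic four-group modulo the kernel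
          have hcomm : φ g * φ u = φ u * φ g := by
            obtain ⟨j, hj⟩ := hN'2.exists_card_eq
            have hd : orderOf (MulAut.conjNormal g : MulAut N') ∣ orderOf g := orderOf_map_dvd _ g
            have hd2 : orderOf (MulAut.conjNormal g : MulAut N') ∣ 2 ^ j := by
              refine (_root_.orderOf_dvd_natCard _).trans ?_
              rw [IsCyclic.card_mulAut N', hj]
              rcases j with _ | j
              · simp
              · (rw [Nat.totient_prime_pow_succ Nat.prime_two, show (2 : ℕ) - 1 = 1 from rfl, mul_one]; exact pow_dvd_pow 2 (Nat.le_succ j))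
            have h1 : orderOf (MulAut.conjNormal g : MulAut N') = 1 :=
              Nat.eq_one_of_dvd_coprimes ((Nat.coprime_two_left.2 hgo).pow_left j) hd2 hd
            rw [orderOf_eq_one_iff] at h1
            have := congrArg (fun φ : MulAut N' => ((φ ⟨u, hu⟩ : N') : H)) h1
            simp only [MulAut.conjNormal_apply, MulAut.one_apply] at this
            rw [← map_mul, ← map_mul, mul_inv_eq_iff_eq_mul.1 this]
          exact hσ1 (perm_four_centralizer _ _ hσ3 hτ2 hne hcomm)
        rcases eq_or_ne N' φ.ker with h | hne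
        · exact h
        · exfalso
          -- otherwise `N'` is trivial and the quotient has a central involution
          have hN'bot : N' = ⊥ := by
            by_contra hb
            obtain ⟨j, hj⟩ := hN'2.exists_card_eq
            have h2 : 2 ∣ Nat.card N' := by
              rcases Nat.eq_zero_or_pos j with rfl | hj0
              · exact absurd (card_eq_one.1 (hj.trans (pow_zero 2))) hb
              · exact hj ▸ dvd_pow_self 2 hj0.ne'
            exact hne (eq_of_le_of_card_ge hle (hkcard.trans (Nat.le_of_dvd Nat.card_pos h2)))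
          set z : H := ((e.symm (QuaternionGroup.a 2) : P) : H)
          have hz1 : z ≠ 1 := by
            intro h
            have : e.symm (QuaternionGroup.a 2) = 1 := Subtype.ext h
            rw [MulEquiv.map_eq_one_iff] at this
            exact q8_z.2 this
          have hzc : ∀ x : H, x * z = z * x := by
            intro x
            have hQ := q8_invol
            have h1 : e (MulAut.conjNormal x (e.symm (QuaternionGroup.a 2))) = QuaternionGroup.a 2 := by
              refine (hQ _ ?_).resolve_left fun h => ?_
              · rw [← map_mul, ← map_mul, ← map_mul,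
                  q8_z.1]
                simp
              · rw [MulEquiv.map_eq_one_iff, MulEquiv.map_eq_one_iff, MulEquiv.map_eq_one_iff] at h
                exact q8_z.2 h
            have h2 := congrArg (fun y => ((e.symm y : P) : H)) h1
            simp only [e.symm_apply_apply, MulAut.conjNormal_apply] at h2
            exact mul_inv_eq_iff_eq_mul.1 h2
          rcases hs with ⟨f', hf', hk'⟩ | ⟨f', hf', hk'⟩ | ⟨f', hf', hk'⟩
          · have h1 := card_mul_index f'.ker
            rw [index_ker, MonoidHom.range_eq_top.2 hf', Subgroup.card_top, DihedralGroup.nat_card,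
              hk', hN'bot, Subgroup.card_bot] at h1
            have h8 := card_subgroup_dvd_card P
            rw [hPcard, ← h1] at h8
            norm_num at h8
          · refine hz1 (mem_bot.1 (hN'bot ▸ hk' ▸ ?_))
            exact MonoidHom.mem_ker.2 (alt_four_center _ fun σ => by
              obtain ⟨x, rfl⟩ := hf' σ
              rw [← map_mul, ← map_mul, hzc x])
          · refine hz1 (mem_bot.1 (hN'bot ▸ hk' ▸ ?_))
            exact MonoidHom.mem_ker.2 (perm_four_center _ fun σ => by
              obtain ⟨x, rfl⟩ := hf' σ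
              rw [← map_mul, ← map_mul, hzc x])

/-- Solvable groups: a `Z`-group, or a unique normal `Z`-subgroup with small quotient. -/
theorem solvable_structure {G : Type u} [Group G] [Finite G] [Group.IsSolvable G] (hd : SylowData G)
    (hcq : CQ G) :
    IsZGroup G ∨ ∃ N : Subgroup G, N.Normal ∧ IsZGroup N ∧ Small G N ∧
      ∀ N' : Subgroup G, N'.Normal → IsZGroup N' → Small G N' → N' = N := by
  haveI := Fact.mk Nat.prime_two
  set O := pPrimeCore 2 G
  have hOc : (Nat.card O).Coprime 2 := Thompson.card_pPrimeCore_coprime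
  set π := QuotientGroup.mk' O
  have hπ : Function.Surjective π := QuotientGroup.mk'_surjective O
  have hπO : π.ker = O := QuotientGroup.ker_mk' O
  -- a subgroup with cyclic two-image is a `Z`-group
  have hZof : ∀ N : Subgroup G, IsCyclic (N.map π) → IsZGroup N := by
    intro N hc
    haveI := hc
    refine (isZGroup_iff N).2 fun p hp S => ?_
    haveI := Fact.mk hp
    rcases eq_or_ne p 2 with rfl | hne
    · let f : (S : Subgroup N) →* N.map π := (π.subgroupMap N).comp (S : Subgroup N).subtype
      refine isCyclic_of_injective f ((injective_iff_map_eq_one f).2 fun x hx => ?_)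
      have h1 : ((x : N) : G) ∈ O :=
        (QuotientGroup.eq_one_iff _).1 (congrArg (fun y : N.map π => (y : G ⧸ O)) hx)
      obtain ⟨j, hj⟩ := S.2 x
      have h2 : orderOf ((x : N) : G) ∣ 2 ^ j :=
        orderOf_dvd_of_pow_eq_one (congrArg (fun y : (S : Subgroup N) => ((y : N) : G)) hj)
      have h3 := Subgroup.orderOf_dvd_natCard O h1
      have h4 := orderOf_eq_one_iff.1
        (Nat.eq_one_of_dvd_coprimes (hOc.symm.pow_left j) h2 h3)
      exact Subtype.ext (Subtype.ext h4)
    · exact (hd.comap N.subtype N.subtype_injective).odd_cyclic p hp hne S S.2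
  rcases reduced (hcq.quotient O hOc) (Thompson.pPrimeCore_quotient_pPrimeCore) with
    ⟨-, hc⟩ | ⟨N₀, hn, hc, -, hs, huniq⟩
  · left
    haveI := hc
    haveI : IsCyclic ((⊤ : Subgroup G).map π) := inferInstance
    haveI := hZof ⊤ inferInstance
    exact IsZGroup.of_injective (f := (Subgroup.topEquiv (G := G)).symm.toMonoidHom)
      (Subgroup.topEquiv (G := G)).symm.injective
  · right
    haveI := hn
    refine ⟨N₀.comap π, inferInstance, hZof _ ?_, hs.comap π hπ, fun N' hN' hZ hsm => ?_⟩
    · rw [map_comap_eq_self_of_surjective hπ]; exact hc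
    haveI := hN'
    haveI := hZ
    -- the odd core lies in `N'`
    have hON : O ≤ N' := by
      intro x hx
      have key : ∀ {Q : Type} [Group Q] [Finite Q], (pPrimeCore 2 Q = ⊥) → ∀ f : G →* Q,
          Function.Surjective f → f x = 1 := by
        intro Q _ _ hQ f hf
        refine mem_bot.1 (hQ ▸ Thompson.map_pPrimeCore_le_of_surjective f hf ?_)
        exact mem_map_of_mem f hx
      rcases hsm with ⟨f, hf, rfl⟩ | ⟨f, hf, rfl⟩ | ⟨f, hf, rfl⟩
      · exact key pPrimeCore_d2 f hf
      · exact key pPrimeCore_a4 f hf
      · exact key pPrimeCore_s4 f hf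
    have hcyc : IsCyclic (N'.map π) ∧ IsPGroup 2 (N'.map π) := by
      haveI : IsZGroup (N'.map π) :=
        IsZGroup.of_surjective (f := π.subgroupMap N') (π.subgroupMap_surjective N')
      have h2 : IsPGroup 2 (N'.map π) := by
        haveI : IsCyclic ((default : Sylow 2 (N'.map π)) : Subgroup (N'.map π)) := inferInstance
        by_cases hdvd : 2 ∣ Nat.card (N'.map π)
        · have hmin : (Nat.card (N'.map π)).minFac = 2 :=
            (Nat.minFac_eq_two_iff _).2 hdvd
          set P2 : Sylow 2 (N'.map π) := default
          have hle := IsCyclic.normalizer_le_centralizer (P := P2) hmin inferInstance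
          set K := (MonoidHom.transferSylow P2 hle).ker
          have hKc := MonoidHom.ker_transferSylow_isComplement' P2 hle
          have hKodd : (Nat.card K).Coprime 2 := by
            rw [← hKc.index_eq_card, Nat.coprime_comm, Nat.prime_two.coprime_iff_not_dvd]
            exact P2.not_dvd_index
          haveI : K.Characteristic := by
            have : K = pPrimeCore 2 (N'.map π) := by
              refine le_antisymm (Thompson.le_pPrimeCore inferInstance hKodd) fun y hy => ?_
              show MonoidHom.transferSylow P2 hle y = 1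
              obtain ⟨j, hj⟩ := P2.2 (MonoidHom.transferSylow P2 hle y)
              refine orderOf_eq_one_iff.1 (Nat.eq_one_of_dvd_coprimes (Nat.Coprime.pow_left j
                (Thompson.card_pPrimeCore_coprime (p := 2) (G := N'.map π)).symm)
                (orderOf_dvd_of_pow_eq_one hj)
                ((orderOf_map_dvd _ y).trans (Subgroup.orderOf_dvd_natCard _ hy)))
            rw [this]; infer_instance
          have hKbot : K = ⊥ := by
            haveI : (N'.map π).Normal := hN'.map π hπ
            haveI := Thompson.map_subtype_normal_of_characteristic (N'.map π) K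
            have h := Thompson.le_pPrimeCore (p := 2) (G := G ⧸ O)
              (N := K.map (N'.map π).subtype) inferInstance
              (by rw [card_map_of_injective (N'.map π).subtype_injective]; exact hKodd)
            rw [Thompson.pPrimeCore_quotient_pPrimeCore, le_bot_iff,
              map_eq_bot_iff_of_injective _ (N'.map π).subtype_injective] at h
            exact h
          have hKc : K.IsComplement' (P2 : Subgroup (N'.map π)) := hKc
          rw [hKbot, isComplement'_bot_left] at hKc
          exact (P2.2.of_equiv ((MulEquiv.subgroupCongr hKc).trans Subgroup.topEquiv))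
        · haveI : (N'.map π).Normal := hN'.map π hπ
          have h := Thompson.le_pPrimeCore (p := 2) (N := N'.map π) (G := G ⧸ O) inferInstance
            (by rw [Nat.coprime_comm, Nat.prime_two.coprime_iff_not_dvd]; exact hdvd)
          rw [Thompson.pPrimeCore_quotient_pPrimeCore, le_bot_iff] at h
          rw [h]
          exact IsPGroup.of_card (n := 0) (by rw [Subgroup.card_bot, pow_zero])
      haveI := h2.isNilpotent
      exact ⟨inferInstance, h2⟩
    rw [← huniq (N'.map π) (hN'.map π hπ) hcyc.1 hcyc.2 (hsm.map π hπ (hπO.le.trans hON)),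
      comap_map_eq_self (hπO.le.trans hON)]

end Cfsg.Agent.FPFStructure
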