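import Cfsg.Agent.FPFStructure.Iso
import Cfsg.Agent.Lib.CharCore.Burnside
import Mathlib.GroupTheory.SpecificGroups.Quaternion
import Mathlib.GroupTheory.SpecificGroups.ZGroup

set_option autoImplicit false
set_option linter.style.haveILetI false

/-!
The non-solvable group of order 120 with quaternion Sylow two-subgroups.
-/

namespace Cfsg.Agent.FPFStructure

open Subgroup

universe u

theorem solvable_of_normal {G : Type u} [Group G] (N : Subgroup G) [N.Normal]
    (hN : Group.IsSolvable N) (hQ : Group.IsSolvable (G ⧸ N)) : Group.IsSolvable G := by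
  haveI := hN
  haveI := hQ
  exact Group.isSolvable_of_ker_le_range N.subtype (QuotientGroup.mk' N)
    (by rw [QuotientGroup.ker_mk', Subgroup.range_subtype])

theorem isSolvable_dvd_120 {G : Type u} [Group G] [Finite G] (hd : Nat.card G ∣ 120)
    (hne : Nat.card G ≠ 120) (h60 : Nat.card G ≠ 60) : Group.IsSolvable G := by
  have key : ∀ m ∈ Nat.divisors 120, m ≠ 120 → m ≠ 60 → m = 15 ∨ m = 30 ∨
      (∃ a ∈ Finset.range 4, ∃ b ∈ Finset.range 2, m = 2 ^ a * 3 ^ b) ∨
      (∃ a ∈ Finset.range 4, ∃ b ∈ Finset.range 2, m = 2 ^ a * 5 ^ b) := by decide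
  rcases key _ (Nat.mem_divisors.2 ⟨hd, by norm_num⟩) hne h60 with
    e | e | ⟨a, -, b, -, e⟩ | ⟨a, -, b, -, e⟩
  · haveI : IsZGroup G := IsZGroup.of_squarefree (by
      rw [e, show (15 : ℕ) = 3 * 5 from rfl, Nat.squarefree_mul_iff]
      exact ⟨by norm_num, Nat.prime_three.prime.squarefree,
        (show Nat.Prime 5 by norm_num).prime.squarefree⟩)
    infer_instance
  · haveI : IsZGroup G := IsZGroup.of_squarefree (by
      rw [e, show (30 : ℕ) = 2 * (3 * 5) from rfl, Nat.squarefree_mul_iff, Nat.squarefree_mul_iff]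
      exact ⟨by norm_num, Nat.prime_two.prime.squarefree, by norm_num,
        Nat.prime_three.prime.squarefree, (show Nat.Prime 5 by norm_num).prime.squarefree⟩)
    infer_instance
  · exact CharCore.isSolvable_of_card_eq_prime_pow_mul Nat.prime_two Nat.prime_three _ G a b rfl e
  · exact CharCore.isSolvable_of_card_eq_prime_pow_mul Nat.prime_two
      (show Nat.Prime 5 by norm_num) _ G a b rfl e

theorem quaternion_invol : ∀ a b : QuaternionGroup 2, a * a = 1 → b * b = 1 → a ≠ 1 → b ≠ 1 →
    a = b := by decide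

theorem equiv_sl_of_120 {G : Type u} [Group G] [Finite G] (h120 : Nat.card G = 120)
    (hns : ¬ Group.IsSolvable G)
    (hP : ∀ P : Sylow 2 G, Nonempty ((P : Subgroup G) ≃* QuaternionGroup 2)) :
    Nonempty (G ≃* Matrix.SpecialLinearGroup (Fin 2) (ZMod 5)) := by
  haveI := Fact.mk Nat.prime_two
  haveI := Fact.mk (show Nat.Prime 5 by norm_num)
  obtain ⟨P5⟩ : Nonempty (Sylow 5 G) := inferInstance
  have hP5 : Nat.card (P5 : Subgroup G) = 5 := by
    rw [P5.card_eq_multiplicity, h120, show (120 : ℕ) = 5 * 24 from rfl,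
      Nat.factorization_mul (by norm_num) (by norm_num), Finsupp.add_apply,
      Nat.Prime.factorization_self (by norm_num),
      Nat.factorization_eq_zero_of_not_dvd (by norm_num), add_zero, pow_one]
  have hi5 : (P5 : Subgroup G).index = 24 := by
    have := card_mul_index (P5 : Subgroup G)
    rw [hP5, h120] at this
    omega
  have hn : Nat.card (Sylow 5 G) = 6 := by
    have hmem : Nat.card (Sylow 5 G) ∈ Nat.divisors 24 :=
      Nat.mem_divisors.2 ⟨hi5 ▸ Sylow.card_dvd_index P5, by norm_num⟩
    have hl : ∀ m ∈ Nat.divisors 24, m % 5 = 1 → m = 1 ∨ m = 6 := by decide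
    refine (hl _ hmem (card_sylow_modEq_one 5 G)).resolve_left fun h1 => hns ?_
    haveI : Subsingleton (Sylow 5 G) := (Nat.card_eq_one_iff_unique.1 h1).1
    haveI : (P5 : Subgroup G).Normal := Sylow.normal_of_subsingleton P5
    refine solvable_of_normal (P5 : Subgroup G) ?_ ?_
    · exact isSolvable_dvd_120 (by rw [hP5]; norm_num) (by omega) (by omega)
    · have : Nat.card (G ⧸ (P5 : Subgroup G)) = 24 := hi5
      exact isSolvable_dvd_120 (by rw [this]; norm_num) (by omega) (by omega)
  let f := MulAction.toPermHom G (Sylow 5 G)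
  have hker : ∀ t : G, t * t = 1 → t ∈ f.ker := by
    intro t ht
    rcases eq_or_ne t 1 with rfl | ht1
    · exact one_mem _
    obtain ⟨P, hPt⟩ := (IsPGroup.of_card (p := 2) (n := 1) (show Nat.card (zpowers t) = 2 ^ 1 by
      rw [Nat.card_zpowers, pow_one]
      exact orderOf_eq_prime (by rw [pow_two, ht]) ht1)).exists_le_sylow
    obtain ⟨e⟩ := hP P
    refine Equiv.ext fun Q => ?_
    show t • Q = Q
    let S := MulAction.stabilizer (P : Subgroup G) Q
    have horb : S.index ≤ 6 := by
      rw [MulAction.index_stabilizer, ← hn]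
      exact Nat.card_le_card_of_injective Subtype.val Subtype.val_injective
    have hcard8 : Nat.card (P : Subgroup G) = 8 := by
      rw [Nat.card_congr e.toEquiv, Nat.card_eq_fintype_card, QuaternionGroup.card]
    have hS1 : Nat.card S ≠ 1 := by
      intro h1
      have := card_mul_index S
      rw [h1, hcard8] at this
      omega
    obtain ⟨k, hk⟩ := (P.2.to_subgroup S).exists_card_eq
    have hk0 : k ≠ 0 := by rintro rfl; exact hS1 (by rw [hk, pow_zero])
    obtain ⟨u, hu⟩ := exists_prime_orderOf_dvd_card' (G := S) 2 (hk ▸ dvd_pow_self 2 hk0)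
    have hu2 : (u : (P : Subgroup G)) * u = 1 := by
      have hu' : u ^ 2 = 1 := orderOf_dvd_iff_pow_eq_one.1 hu.dvd
      rw [← Subgroup.coe_mul, ← pow_two, hu', Subgroup.coe_one]
    have hu1 : (u : (P : Subgroup G)) ≠ 1 := by
      intro he
      rw [show u = 1 from Subtype.ext he, orderOf_one] at hu
      norm_num at hu
    have heq := quaternion_invol (e ⟨t, hPt (Subgroup.mem_zpowers t)⟩) (e u)
      (by rw [← map_mul]; exact (congrArg e (Subtype.ext ht)).trans (map_one e))
      (by rw [← map_mul, hu2, map_one])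
      (fun h => ht1 (congrArg Subtype.val (e.injective (h.trans (map_one e).symm))))
      (fun h => hu1 (e.injective (h.trans (map_one e).symm)))
    have := e.injective heq
    have hfix : (u : (P : Subgroup G)) • Q = Q := u.2
    rw [← this] at hfix
    exact hfix
  have hK2 : 2 ∣ Nat.card f.ker := by
    obtain ⟨t, ht⟩ := exists_prime_orderOf_dvd_card' (G := G) 2 (by rw [h120]; norm_num)
    have := Subgroup.orderOf_dvd_natCard _ (hker t (by rw [← pow_two, ← ht, pow_orderOf_eq_one]))
    rwa [ht] at this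
  have hKN : f.ker ≤ normalizer ((P5 : Subgroup G) : Set G) := fun g hg =>
    Sylow.smul_eq_iff_mem_normalizer.1 (Equiv.ext_iff.1 hg P5)
  have hN20 : Nat.card (normalizer ((P5 : Subgroup G) : Set G)) = 20 := by
    have := card_mul_index (normalizer ((P5 : Subgroup G) : Set G))
    rw [show (normalizer ((P5 : Subgroup G) : Set G)).index = Nat.card (Sylow 5 G) from
      P5.card_eq_index_normalizer.symm, hn, h120] at this
    omega
  have hKd : Nat.card f.ker ∣ 20 := hN20 ▸ card_dvd_of_le hKN
  have hQd := card_mul_index f.ker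
  rw [index_eq_card, h120] at hQd
  have hKsol : Group.IsSolvable f.ker := by
    have h1 : Nat.card f.ker ≤ 20 := Nat.le_of_dvd (by norm_num) hKd
    exact isSolvable_dvd_120 (hKd.trans (by norm_num)) (by omega) (by omega)
  have hK : Nat.card f.ker = 2 := by
    by_contra hne
    refine hns (solvable_of_normal f.ker hKsol (isSolvable_dvd_120 ?_ ?_ ?_))
    · exact Dvd.intro_left _ hQd
    · intro h; rw [h] at hQd
      have hp : 1 < Nat.card f.ker := by
        have := Nat.le_of_dvd Nat.card_pos hK2; omega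
      omega
    · intro h; rw [h] at hQd; omega
  obtain ⟨⟨ζ, hζK⟩, hζo⟩ := exists_prime_orderOf_dvd_card' (G := f.ker) 2 hK2
  rw [orderOf_mk] at hζo
  have hz : zpowers ζ = f.ker :=
    eq_of_le_of_card_ge (zpowers_le.2 hζK) (by rw [hK, Nat.card_zpowers, hζo])
  have hζ : IsInv2 ζ :=
    ⟨fun e => by rw [e, orderOf_one] at hζo; norm_num at hζo,
      by rw [← pow_two, ← hζo, pow_orderOf_eq_one]⟩
  have hmem : ∀ g ∈ f.ker, g = 1 ∨ g = ζ := by
    intro g hg
    rw [← hz] at hg
    obtain ⟨n, rfl⟩ := mem_zpowers_iff.1 hg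
    rcases Int.even_or_odd' n with ⟨m, rfl | rfl⟩
    · left; rw [zpow_mul, zpow_two, hζ.2, one_zpow]
    · right; rw [zpow_add, zpow_mul, zpow_two, hζ.2, one_zpow, zpow_one, one_mul]
  have hcen : ∀ g, ζ * g = g * ζ := by
    intro g
    have hn' := (MonoidHom.normal_ker f).conj_mem ζ hζK g
    rcases hmem _ hn' with e | e
    · exact absurd (conj_eq_one_iff.1 e) hζ.1
    · exact (mul_inv_eq_iff_eq_mul.1 e).symm
  have hQ60 : Nat.card (G ⧸ f.ker) = 60 := by rw [hK] at hQd; omega
  haveI : Nontrivial (G ⧸ f.ker) := Finite.one_lt_card_iff_nontrivial.1 (by omega)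
  haveI : IsSimpleGroup (G ⧸ f.ker) := ⟨fun N hN => by
    by_contra hc
    rw [not_or] at hc
    have hmul := card_mul_index N
    rw [hQ60] at hmul
    have h1 : Nat.card N ≠ 1 := fun h => hc.1 (card_eq_one.1 h)
    have h2 : N.index ≠ 1 := fun h => hc.2 (index_eq_one.1 h)
    refine hns (solvable_of_normal f.ker hKsol (solvable_of_normal N ?_ ?_))
    · refine isSolvable_dvd_120 ((Dvd.intro _ hmul).trans (by norm_num)) ?_ ?_
      · intro h; rw [h] at hmul; omega
      · intro h; rw [h] at hmul; omega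
    · rw [index_eq_card] at hmul h2
      refine isSolvable_dvd_120 ((Dvd.intro_left _ hmul).trans (by norm_num)) ?_ ?_
      · intro h; rw [h] at hmul; omega
      · intro h; rw [h] at hmul; omega⟩
  obtain ⟨e⟩ := S0494.result hQ60
  refine equiv_sl hζ hcen (fun t ht => hmem t (hker t ht))
    ⟨e.toMonoidHom.comp (QuotientGroup.mk' f.ker),
      e.surjective.comp (QuotientGroup.mk'_surjective _), fun g => ?_⟩
  rw [MonoidHom.comp_apply, MulEquiv.coe_toMonoidHom, MulEquiv.map_eq_one_iff,
    QuotientGroup.mk'_apply, QuotientGroup.eq_one_iff]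
  exact ⟨hmem g, fun h => h.elim (fun e => e ▸ one_mem _) (fun e => e ▸ hζK)⟩

end Cfsg.Agent.FPFStructure
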