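import Cfsg.Agent.FPFStructure.Solv
import Cfsg.Agent.FPFStructure.Iso
import Cfsg.Agent.Lib.Frobenius.Kernel
import Cfsg.Agent.Lib.Frobenius.Involution
import Cfsg.Agent.S2119

set_option autoImplicit false
set_option linter.style.haveILetI false

/-!
The structure of non-solvable fixed-point-free groups.
-/

namespace Cfsg.Agent.FPFStructure

universe u v

open Subgroup

/-- A fixed-point-free action: Sylow subgroups and, for even order, the central involution. -/
theorem data_of_isFPF {G : Type u} [Group G] [Finite G] {A V : Subgroup G}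
    (h : Frobenius.IsFPF A V) (hV : V ≠ ⊥) :
    SylowData A ∧ (2 ∣ Nat.card A →
      ∃ (R : Type u) (_ : Ring R) (ρ : A →* R) (ζ : A), Rep ρ ∧ IsInv2 ζ) := by
  refine ⟨sylowData_of_isFPF h hV, fun heven => ?_⟩
  obtain ⟨⟨s, hs, hs2, -, -⟩, hab⟩ := h.unique_involution hV heven
  haveI := hab
  obtain ⟨R, hR, ρ, hρ⟩ := exists_rep h hV
  refine ⟨R, hR, ρ, ⟨s, hs⟩, hρ, fun e => ?_, Subtype.ext ?_⟩
  · have : s = 1 := congrArg Subtype.val e
    rw [this, orderOf_one] at hs2
    norm_num at hs2
  · show s * s = 1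
    rw [← pow_two, ← hs2, pow_orderOf_eq_one]

/-- An odd-order group with cyclic odd Sylow subgroups is solvable. -/
theorem solvable_of_odd {A : Type u} [Group A] [Finite A] (h : SylowData A)
    (hodd : ¬ 2 ∣ Nat.card A) : Group.IsSolvable A := by
  haveI : IsZGroup A := (isZGroup_iff A).2 fun p hp S => by
    rcases eq_or_ne p 2 with rfl | hne
    · haveI := Fact.mk hp
      have : (S : Subgroup A) = ⊥ := by
        by_contra hS
        obtain ⟨k, hk⟩ := S.2.exists_card_eq
        rcases Nat.eq_zero_or_pos k with rfl | hk0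
        · exact hS (card_eq_one.1 (hk.trans (pow_zero 2)))
        · exact hodd ((dvd_pow_self 2 hk0.ne').trans (hk ▸ card_subgroup_dvd_card _))
      rw [this]; infer_instance
    · exact h.odd_cyclic p hp hne S S.2
  infer_instance

/-- The hypothesis of being a Frobenius complement gives the same data. -/
theorem data_of_fc {G : Type u} [Group G] [Finite G]
    (hFC : ∃ (L : Type) (_ : Group L) (_ : Finite L) (H : Subgroup L),
      Cfsg.IsFrobeniusComplement H ∧ Nonempty (G ≃* H)) :
    SylowData G ∧ (2 ∣ Nat.card G →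
      ∃ (R : Type) (_ : Ring R) (ρ : G →* R) (ζ : G), Rep ρ ∧ IsInv2 ζ) := by
  obtain ⟨L, _, _, H, hF, ⟨e⟩⟩ := hFC
  obtain ⟨K, -, hKn, hc⟩ := Frobenius.exists_frobeniusKernel_subgroup hF
  haveI := hKn
  have hfpf : Frobenius.IsFPF H K :=
    Frobenius.isFPF_of_normal (Frobenius.fixedPointFree_of_isFrobeniusComplement hc hF)
  have hKb : K ≠ ⊥ := by
    intro h
    have h1 := Frobenius.two_le_index hF
    rw [hc.index_eq_card, h, Subgroup.card_bot] at h1
    omega
  obtain ⟨hd, hev⟩ := data_of_isFPF hfpf hKb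
  refine ⟨hd.comap e.toMonoidHom e.injective, fun h2 => ?_⟩
  obtain ⟨R, hR, ρ, ζ, hρ, hζ⟩ := hev (Nat.card_congr e.toEquiv ▸ h2)
  refine ⟨R, hR, ρ.comp e.toMonoidHom, e.symm ζ, hρ.comp e.toMonoidHom e.injective,
    fun h => hζ.1 ?_, ?_⟩
  · rw [← e.apply_symm_apply ζ, h, map_one]
  · rw [← map_mul, hζ.2, map_one]

variable {A : Type u} [Group A] [Finite A] {R : Type v} [Ring R] {ρ : A →* R} {ζ : A}

theorem Cover.eq_cl (hr : Rep ρ) (hζ : IsInv2 ζ) {B : Subgroup A} (hB : Cover ζ B 5) :
    B = cl ζ {x | Ord3 x} := by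
  obtain ⟨hz, f, hf, hk⟩ := hB
  haveI : IsSimpleGroup (alternatingGroup (Fin 5)) := alternatingGroup.isSimpleGroup_five
  set N := cl ζ {x : A | Ord3 x}
  have hNB : N ≤ B := cl_le hz fun x hx => mem_of_cover_five hr hζ ⟨hz, f, hf, hk⟩ hx
  haveI hNn : N.Normal := ⟨fun n hn g => by
    have hle : N.map (MulAut.conj g).toMonoidHom ≤ N := by
      rw [map_le_iff_le_comap]
      refine cl_le ?_ fun x hx => ?_
      · show g * ζ * g⁻¹ ∈ N
        rw [← hr.central hζ g, mul_inv_cancel_right]
        exact zeta_mem_cl _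
      · exact mem_cl (show Ord3 (g * x * g⁻¹) from Ord3.conj hx g)
    exact hle ⟨n, hn, rfl⟩⟩
  refine le_antisymm (fun b hb => ?_) hNB
  have hnorm : ((N.subgroupOf B).map f).Normal := Subgroup.Normal.map inferInstance f hf
  rcases hnorm.eq_bot_or_eq_top with hbot | htop
  · exfalso
    obtain ⟨a', ha', ha1⟩ := a5_exists_cube
    obtain ⟨a, ha, rfl⟩ := exists_lift hk hf (hr.central hζ) hζ hz ⟨ha', ha1⟩
    have : f a ∈ (N.subgroupOf B).map f := Subgroup.mem_map_of_mem f (mem_cl ha)
    rw [hbot, Subgroup.mem_bot] at this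
    exact ha1 this
  · obtain ⟨n, hn, he⟩ : f ⟨b, hb⟩ ∈ (N.subgroupOf B).map f := htop ▸ mem_top _
    have h1 : f (n⁻¹ * ⟨b, hb⟩) = 1 := by rw [map_mul, map_inv, he, inv_mul_cancel]
    rcases (hk _).1 h1 with e | e <;> simp only [Subgroup.coe_mul, Subgroup.coe_inv] at e
    · rw [← inv_mul_eq_one.1 e]; exact hn
    · rw [show b = (n : A) * ζ by rw [← e, mul_inv_cancel_left]]
      exact mul_mem hn (zeta_mem_cl _)

theorem Cover.normal (hr : Rep ρ) (hζ : IsInv2 ζ) {B : Subgroup A} (hB : Cover ζ B 5) :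
    B.Normal := by
  refine ⟨fun n hn g => ?_⟩
  rw [hB.eq_cl hr hζ] at hn ⊢
  have hle : (cl ζ {x : A | Ord3 x}).map (MulAut.conj g).toMonoidHom ≤ cl ζ {x | Ord3 x} := by
    rw [map_le_iff_le_comap]
    refine cl_le ?_ fun x hx => ?_
    · show g * ζ * g⁻¹ ∈ cl ζ {x : A | Ord3 x}
      rw [← hr.central hζ g, mul_inv_cancel_right]
      exact zeta_mem_cl _
    · exact mem_cl (show Ord3 (g * x * g⁻¹) from Ord3.conj hx g)
  exact hle ⟨n, hn, rfl⟩

/-- The structure theorem, with the permutation representation on five points. -/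
theorem structure_nonsolvable' (hr : Rep ρ) (hζ : IsInv2 ζ) (hd : SylowData A)
    (hns : ¬ Group.IsSolvable A) :
    (∃ ψ : A →* Equiv.Perm (Fin 5), IsZGroup ψ.ker ∧ alternatingGroup (Fin 5) ≤ ψ.range) ∧
    ∃ G₀ : Subgroup A, G₀.Normal ∧ (G₀.index = 1 ∨ G₀.index = 2) ∧
      ∃ S M : Subgroup A, S ⊔ M = G₀ ∧ S ⊓ M = ⊥ ∧ (∀ s ∈ S, ∀ x ∈ M, s * x = x * s) ∧
        Nonempty (S ≃* Matrix.SpecialLinearGroup (Fin 2) (ZMod 5)) ∧
        (∀ (p : ℕ) [Fact p.Prime] (P : Sylow p M), IsCyclic P) ∧ (Nat.card M).Coprime 30 := by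
  obtain ⟨B, hB, hB3⟩ := exists_cover hr hζ hd hns
  obtain ⟨eB⟩ := hB.equiv_sl hr hζ
  have hBn := hB.normal hr hζ
  have hBeq := hB.eq_cl hr hζ
  have hcardB := hB.card_five hζ
  obtain ⟨hz, f, hf, hk⟩ := hB
  have hcen := hr.central hζ
  -- the induced automorphisms of `A₅`
  have hkerf : ∀ g : A, ∀ b : B, f b = 1 → f (MulAut.conjNormal g b) = 1 := by
    intro g b hb
    rw [hk, MulAut.conjNormal_apply]
    rcases (hk b).1 hb with e | e <;> rw [e]
    · left; simp
    · right; rw [← hcen g, mul_inv_cancel_right]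
  choose s hs using hf
  have hdesc : ∀ (g : A) (b : B), f (MulAut.conjNormal g (s (f b))) = f (MulAut.conjNormal g b) := by
    intro g b
    rw [← mul_inv_eq_one, ← map_inv, ← map_mul, ← map_inv, ← map_mul]
    exact hkerf g _ (by rw [map_mul, map_inv, hs, mul_inv_cancel])
  let act : A → alternatingGroup (Fin 5) →* alternatingGroup (Fin 5) := fun g =>
    MonoidHom.mk' (fun q => f (MulAut.conjNormal g (s q))) fun q r => by
      show f (MulAut.conjNormal g (s (q * r))) = _
      rw [← map_mul f, ← map_mul, ← hdesc g (s q * s r), map_mul f, hs, hs]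
  have hact : ∀ (g : A) (b : B), act g (f b) = f (MulAut.conjNormal g b) := hdesc
  have hact1 : ∀ q, act 1 q = q := fun q => by
    obtain ⟨b, rfl⟩ : ∃ b, f b = q := ⟨s q, hs q⟩
    rw [hact, map_one, MulAut.one_apply]
  have hactm : ∀ g h q, act (g * h) q = act g (act h q) := fun g h q => by
    obtain ⟨b, rfl⟩ : ∃ b, f b = q := ⟨s q, hs q⟩
    rw [hact, hact, hact, map_mul, MulAut.mul_apply]
  let φ : A →* MulAut (alternatingGroup (Fin 5)) :=
    { toFun := fun g => MulEquiv.mk'
        ⟨act g, act g⁻¹, fun q => by rw [← hactm, inv_mul_cancel, hact1],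
          fun q => by rw [← hactm, mul_inv_cancel, hact1]⟩ (map_mul (act g))
      map_one' := MulEquiv.ext hact1
      map_mul' := fun g h => MulEquiv.ext (hactm g h) }
  let e5 := MulEquiv.ofBijective _ (S2119.result 5 (by norm_num) (by norm_num))
  let ψ : A →* Equiv.Perm (Fin 5) := e5.symm.toMonoidHom.comp φ
  have hψB : ∀ b : B, ψ (b : A) = (f b : Equiv.Perm (Fin 5)) := by
    intro b
    apply e5.injective
    show e5 (e5.symm (φ (b : A))) = _
    rw [e5.apply_symm_apply]
    refine MulEquiv.ext fun q => ?_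
    obtain ⟨c, rfl⟩ : ∃ c, f c = q := ⟨s q, hs q⟩
    show act (b : A) (f c) = _
    rw [hact]
    refine Subtype.ext ?_
    rw [show MulAut.conjNormal (b : A) c = b * c * b⁻¹ from
      Subtype.ext (by simp [MulAut.conjNormal_apply]), map_mul, map_mul, map_inv]
    simp [e5, MulAut.conjNormal_apply]
  set C := ψ.ker
  have hψker : ∀ g ∈ C, ∀ b : B, f (MulAut.conjNormal g b) = f b := by
    intro g hg b
    rw [← hact]
    have h1 : φ g = 1 := by
      have h2 : e5.symm (φ g) = 1 := hg
      rwa [MulEquiv.map_eq_one_iff] at h2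
    exact congrArg (fun a : MulAut (alternatingGroup (Fin 5)) => a (f b)) h1
  have hCcomm : ∀ g ∈ C, ∀ b ∈ B, g * b = b * g := by
    intro g hg b hb
    rw [hBeq] at hb
    induction hb using closure_induction with
    | mem w hw =>
      rcases hw with rfl | hw
      · exact (hcen g).symm
      · have hwB := hB3 w hw
        have h1 : ((MulAut.conjNormal g (⟨w, hwB⟩ : B) : B) : A) = w :=
          eq_of_map hk hζ hcen (a := MulAut.conjNormal g (⟨w, hwB⟩ : B)) (b := ⟨w, hwB⟩)
            (by rw [MulAut.conjNormal_apply]; exact Ord3.conj hw g) hw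
            (hψker g hg ⟨w, hwB⟩)
        rw [MulAut.conjNormal_apply] at h1
        exact mul_inv_eq_iff_eq_mul.1 h1
    | one => simp
    | mul a b _ _ ha hb => exact (Commute.mul_right (show Commute g a from ha) hb).eq
    | inv a _ ha => exact (Commute.inv_right (show Commute g a from ha)).eq
  have hCB : ∀ g ∈ C, g ∈ B → g = 1 ∨ g = ζ := by
    intro g hg hgB
    refine (hk ⟨g, hgB⟩).1 (Subtype.ext ?_)
    rw [← hψB ⟨g, hgB⟩]
    exact hg
  have hζC : ζ ∈ C := by
    show ψ ζ = 1
    rw [show ζ = ((⟨ζ, hz⟩ : B) : A) from rfl, hψB, (hk ⟨ζ, hz⟩).2 (Or.inr rfl), Subgroup.coe_one]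
  -- orders
  have h3C : ∀ g ∈ C, orderOf g ≠ 3 := by
    intro g hg h3
    have hg3 : Ord3 g := cube_of_orderOf h3
    rcases hCB g hg (hB3 g hg3) with rfl | rfl
    · exact hg3.2 rfl
    · have := orderOf_dvd_of_pow_eq_one (show g ^ 2 = 1 by rw [pow_two, hζ.2])
      rw [h3] at this
      norm_num at this
  have h5C : ∀ g ∈ C, orderOf g ≠ 5 := by
    intro g hg h5
    haveI := Fact.mk (show Nat.Prime 5 by norm_num)
    obtain ⟨⟨y, hyB⟩, hy⟩ := exists_prime_orderOf_dvd_card' (G := B) 5 (by rw [hcardB]; norm_num)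
    rw [orderOf_mk] at hy
    have hgy : g * y = y * g := hCcomm g hg y hyB
    set Q := closure ({g, y} : Set A)
    have hQc : ∀ q ∈ Q, ∀ r ∈ Q, Commute q r := by
      intro q hq r hr'
      have hle : Q ≤ centralizer (Q : Set A) := by
        refine (closure_le _).2 fun w hw => ?_
        show w ∈ centralizer ((closure ({g, y} : Set A) : Subgroup A) : Set A)
        rw [centralizer_closure, mem_centralizer_iff]
        rintro v (rfl | rfl) <;> rcases hw with rfl | rfl
        exacts [rfl, hgy, hgy.symm, rfl]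
      exact (mem_centralizer_iff.1 (hle hr') q hq)
    have hQ5 : ∀ q ∈ Q, q ^ 5 = 1 := by
      intro q hq
      induction hq using closure_induction with
      | mem w hw =>
        rcases hw with rfl | rfl
        · rw [← h5, pow_orderOf_eq_one]
        · rw [← hy, pow_orderOf_eq_one]
      | one => simp
      | mul a b ha' hb' ha hb => rw [(hQc a ha' b hb').mul_pow, ha, hb, one_mul]
      | inv a _ ha => rw [inv_pow, ha, inv_one]
    have hQp : IsPGroup 5 Q := fun q => ⟨1, Subtype.ext (by simpa using hQ5 q q.2)⟩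
    haveI := hd.odd_cyclic 5 (by norm_num) (by norm_num) Q hQp
    obtain ⟨c, hc⟩ := IsCyclic.exists_ofOrder_eq_natCard (α := Q)
    have hQcard : Nat.card Q ≤ 5 := by
      rw [← hc]
      exact Nat.le_of_dvd (by norm_num) (orderOf_dvd_of_pow_eq_one (Subtype.ext (by simpa using hQ5 c c.2)))
    have hgY : g ∈ zpowers y := by
      have hle : zpowers y ≤ Q := zpowers_le.2 (subset_closure (Or.inr rfl))
      rw [eq_of_le_of_card_ge hle (by rw [Nat.card_zpowers, hy]; exact hQcard)]
      exact subset_closure (Or.inl rfl)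
    rcases hCB g hg (zpowers_le.2 hyB hgY) with rfl | rfl
    · rw [orderOf_one] at h5; norm_num at h5
    · have := orderOf_dvd_of_pow_eq_one (show g ^ 2 = 1 by rw [pow_two, hζ.2])
      rw [h5] at this
      norm_num at this
  have h4C : ∀ g ∈ C, g * g = ζ → False := by
    intro g hg hg2
    have hgne : g ≠ 1 ∧ g ≠ ζ := by
      refine ⟨fun e => ?_, fun e => ?_⟩ <;> rw [e] at hg2
      · rw [one_mul] at hg2; exact hζ.1 hg2.symm
      · rw [hζ.2] at hg2; exact hζ.1 hg2.symm
    obtain ⟨y, hy⟩ : ∃ y : B, (y : A) * y = ζ := by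
      refine ⟨s (Pres.x5 * Pres.y5), ?_⟩
      have h1 : f (s (Pres.x5 * Pres.y5) * s (Pres.x5 * Pres.y5)) = 1 := by
        rw [map_mul, hs]; exact Pres.rels5.sq
      rcases (hk _).1 h1 with e | e
      · exfalso
        have hne : f (s (Pres.x5 * Pres.y5)) ≠ 1 := by rw [hs]; decide +kernel
        rcases hr.invol hζ e with e' | e'
        · exact hne ((hk _).2 (Or.inl e'))
        · exact hne ((hk _).2 (Or.inr e'))
      · exact e
    have h : g * y * (g * y) = 1 := by
      calc g * y * (g * y) = g * (y * g) * y := by simp only [mul_assoc]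
        _ = g * g * (y * y) := by rw [← hCcomm g hg y y.2]; simp only [mul_assoc]
        _ = 1 := by rw [hg2, hy, hζ.2]
    have hgB : g ∈ B := by
      have hyi : (y : A)⁻¹ ∈ B := inv_mem y.2
      rcases hr.invol hζ h with e | e
      · rw [mul_eq_one_iff_eq_inv.1 e]; exact hyi
      · rw [show g = ζ * (y : A)⁻¹ by rw [← e, mul_inv_cancel_right]]; exact mul_mem hz hyi
    rcases hCB g hg hgB with e | e
    exacts [hgne.1 e, hgne.2 e]
  -- the normal two-complement of `C`
  haveI := Fact.mk Nat.prime_two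
  let P : Sylow 2 C := default
  have hP : ∀ q : C, q ∈ (P : Subgroup C) → (q : A) = 1 ∨ (q : A) = ζ := by
    intro q hq
    obtain ⟨k, hk'⟩ := P.2 ⟨q, hq⟩
    have hk'' : (q : A) ^ 2 ^ k = 1 :=
      congrArg (fun z : (P : Subgroup C) => ((z : C) : A)) hk'
    clear hk'
    induction k with
    | zero => left; simpa using hk''
    | succ k ih =>
      rw [pow_succ, pow_mul, pow_two] at hk''
      rcases hr.invol hζ hk'' with e | e
      · exact ih e
      · cases k with
        | zero => right; simpa using e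
        | succ j =>
          exfalso
          rw [pow_succ, pow_mul, pow_two] at e
          exact h4C _ (pow_mem q.2 _) e
  have hPcen : normalizer ((P : Subgroup C) : Set C) ≤ centralizer ((P : Subgroup C) : Set C) := by
    intro g _
    rw [mem_centralizer_iff]
    intro q hq
    refine Subtype.ext ?_
    rcases hP q hq with e | e <;> simp only [Subgroup.coe_mul, e]
    · simp
    · exact hcen _
  set N := (MonoidHom.transferSylow P hPcen).ker
  have hNc : N.IsComplement' (P : Subgroup C) :=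
    MonoidHom.ker_transferSylow_isComplement' P hPcen
  have hN2 : ¬ 2 ∣ Nat.card N := by
    rw [← hNc.index_eq_card]; exact P.not_dvd_index
  set M : Subgroup A := N.map C.subtype
  have hMC : M ≤ C := map_subtype_le N
  have hMcard : Nat.card M = Nat.card N := card_map_of_injective C.subtype_injective
  have hcop : (Nat.card M).Coprime 30 := by
    have hp : ∀ p : ℕ, p.Prime → (∀ g ∈ C, orderOf g ≠ p) → ¬ p ∣ Nat.card M := by
      intro p hp hno hd'
      haveI := Fact.mk hp
      obtain ⟨g, hg⟩ := exists_prime_orderOf_dvd_card' (G := M) p hd'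
      exact hno g (hMC g.2) (by rwa [orderOf_coe])
    rw [show (30 : ℕ) = 2 * 3 * 5 from rfl]
    refine Nat.Coprime.mul_right (Nat.Coprime.mul_right ?_ ?_) ?_
    · rw [hMcard, Nat.coprime_comm, Nat.prime_two.coprime_iff_not_dvd]; exact hN2
    · rw [Nat.coprime_comm, Nat.prime_three.coprime_iff_not_dvd]; exact hp 3 Nat.prime_three h3C
    · rw [Nat.coprime_comm, (show Nat.Prime 5 by norm_num).coprime_iff_not_dvd]
      exact hp 5 (by norm_num) h5C
  refine ⟨⟨ψ, ?_, ?_⟩, (alternatingGroup (Fin 5)).comap ψ, inferInstance, ?_, B, M, ?_, ?_, ?_, ⟨eB⟩, ?_, hcop⟩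
  · refine (isZGroup_iff _).2 fun p hp P' => ?_
    rcases eq_or_ne p 2 with rfl | hne
    · -- the two-subgroups of the kernel have order at most two
      obtain ⟨g, hg⟩ := MulAction.exists_smul_eq C P' P
      haveI : IsCyclic ((P : Subgroup C)) := by
        refine isCyclic_of_injective (f := ((C.subtype.comp (P : Subgroup C).subtype).codRestrict
          (zpowers ζ) fun q => ?_)) ?_
        · rcases hP q q.2 with e | e
          · show ((q : C) : A) ∈ zpowers ζ
            rw [e]; exact one_mem _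
          · show ((q : C) : A) ∈ zpowers ζ
            rw [e]; exact Subgroup.mem_zpowers _
        · exact fun a b hab => Subtype.ext (Subtype.ext (congrArg (fun z : zpowers ζ => (z : A)) hab))
      exact isCyclic_of_surjective (Sylow.equiv P P') (Sylow.equiv P P').surjective
    · exact (hd.comap C.subtype C.subtype_injective).odd_cyclic p hp hne P' P'.2
  · intro q hq
    refine ⟨(s ⟨q, hq⟩ : A), ?_⟩
    rw [hψB, hs]
  · have h2 : (alternatingGroup (Fin 5)).index = 2 := alternatingGroup.index_eq_two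
    have hd2 : ((alternatingGroup (Fin 5)).comap ψ).index ∣ 2 := by
      rw [index_comap]
      exact h2 ▸ relIndex_dvd_index_of_normal _ _
    exact (Nat.dvd_prime Nat.prime_two).1 hd2
  · refine le_antisymm (sup_le (fun b hb => ?_) (fun g hg => ?_)) fun g hg => ?_
    · show ψ b ∈ alternatingGroup (Fin 5)
      rw [show b = ((⟨b, hb⟩ : B) : A) from rfl, hψB]; exact SetLike.coe_mem _
    · show ψ g ∈ alternatingGroup (Fin 5)
      rw [show ψ g = 1 from hMC hg]; exact one_mem _
    · set b := s ⟨ψ g, hg⟩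
      have hgb : (b : A)⁻¹ * g ∈ C := by
        show ψ _ = 1
        rw [map_mul, map_inv, hψB, hs, inv_mul_cancel]
      obtain ⟨⟨n, p⟩, hnp⟩ := hNc.existsUnique ⟨(b : A)⁻¹ * g, hgb⟩ |>.exists
      have hnp' : (b : A)⁻¹ * g = ((n : C) : A) * ((p : C) : A) :=
        (congrArg Subtype.val hnp).symm
      have e : g = (b : A) * (((n : C) : A) * ((p : C) : A)) := by
        rw [← hnp', mul_inv_cancel_left]
      rw [e]
      refine mul_mem (mem_sup_left b.2) (mul_mem (mem_sup_right ⟨n, n.2, rfl⟩) (mem_sup_left ?_))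
      rcases hP p p.2 with e | e <;> rw [e]
      exacts [one_mem _, hz]
  · rw [eq_bot_iff_forall]
    rintro g ⟨hgB, hgM⟩
    rcases hCB g (hMC hgM) hgB with e | e
    · exact e
    · exfalso
      refine hN2 (hMcard ▸ ?_)
      have := Subgroup.orderOf_dvd_natCard M hgM
      rwa [e, show orderOf ζ = 2 from orderOf_eq_prime (by rw [pow_two, hζ.2]) hζ.1] at this
  · intro b hb x hx
    exact (hCcomm x (hMC hx) b hb).symm
  · intro p hp P'
    have hMd := hd.comap M.subtype M.subtype_injective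
    rcases eq_or_ne p 2 with rfl | hne
    · have : (P' : Subgroup M) = ⊥ := by
        by_contra hS
        obtain ⟨k, hk'⟩ := P'.2.exists_card_eq
        rcases Nat.eq_zero_or_pos k with rfl | hk0
        · exact hS (card_eq_one.1 (hk'.trans (pow_zero 2)))
        · exact hN2 (hMcard ▸ (dvd_pow_self 2 hk0.ne').trans (hk' ▸ card_subgroup_dvd_card _))
      rw [this]; infer_instance
    · exact hMd.odd_cyclic p hp.out hne P' P'.2

/-- The structure theorem. -/
theorem structure_nonsolvable (hr : Rep ρ) (hζ : IsInv2 ζ) (hd : SylowData A)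
    (hns : ¬ Group.IsSolvable A) :
    ∃ G₀ : Subgroup A, G₀.Normal ∧ (G₀.index = 1 ∨ G₀.index = 2) ∧
      ∃ S M : Subgroup A, S ⊔ M = G₀ ∧ S ⊓ M = ⊥ ∧ (∀ s ∈ S, ∀ x ∈ M, s * x = x * s) ∧
        Nonempty (S ≃* Matrix.SpecialLinearGroup (Fin 2) (ZMod 5)) ∧
        (∀ (p : ℕ) [Fact p.Prime] (P : Sylow p M), IsCyclic P) ∧ (Nat.card M).Coprime 30 :=
  (structure_nonsolvable' hr hζ hd hns).2

end Cfsg.Agent.FPFStructure
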