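import Cfsg.Agent.FPFStructure.TIHall
import Cfsg.Agent.Lib.Coprime.Generation
import Cfsg.Agent.S0016

set_option autoImplicit false
set_option linter.style.haveILetI false

/-!
Centralisers of complements in Hall TI-subgroups.
-/

namespace Cfsg.Agent.FPFStructure

universe u

open Subgroup

/-- In a cyclic group subgroups of the same order coincide. -/
theorem eq_of_card_cyclic {G : Type u} [Group G] [Finite G] [IsCyclic G] {X Y : Subgroup G}
    (h : Nat.card X = Nat.card Y) : X = Y := by
  classical
  haveI := Fintype.ofFinite G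
  set n := Nat.card X
  set S := (Finset.univ.filter fun a : G => a ^ n = 1) with hS
  have hle : S.card ≤ n := IsCyclic.card_pow_eq_one_le Nat.card_pos
  have key : ∀ Z : Subgroup G, Nat.card Z = n → (Z : Set G) = (S : Set G) := by
    intro Z hZ
    refine Set.eq_of_subset_of_ncard_le (fun a ha => ?_) ?_ (Set.toFinite _)
    · rw [hS, Finset.coe_filter]
      refine ⟨Finset.mem_univ _, ?_⟩
      rw [← hZ]
      exact congrArg Subtype.val (pow_card_eq_one' (x := (⟨a, ha⟩ : Z)))
    · rw [Set.ncard_coe_finset, ← Nat.card_coe_set_eq]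
      exact hle.trans hZ.ge
  exact SetLike.coe_injective ((key X rfl).trans (key Y h.symm).symm)

theorem eq_of_card_cyclic_le {G : Type u} [Group G] [Finite G] {P X Y : Subgroup G} [IsCyclic P]
    (hX : X ≤ P) (hY : Y ≤ P) (h : Nat.card X = Nat.card Y) : X = Y := by
  have e : X.subgroupOf P = Y.subgroupOf P := eq_of_card_cyclic (by
    rw [Nat.card_congr (subgroupOfEquivOfLe hX).toEquiv,
      Nat.card_congr (subgroupOfEquivOfLe hY).toEquiv, h])
  rw [← map_subgroupOf_eq_of_le hX, e, map_subgroupOf_eq_of_le hY]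

variable {G : Type u} [Group G] [Finite G] {H O : Subgroup G}

theorem TIHall.isCyclic_of_abelian (h : TIHall H O) {A : Subgroup G} (hA : A ≤ H)
    [IsMulCommutative A] : IsCyclic A := by
  haveI := h.normal
  by_contra hnc
  have hON : O ≤ normalizer (H : Set G) := by
    refine Coprime.le_of_centralizer_le A O (normalizer (H : Set G)) hnc
      (by rw [normalizer_eq_top]; exact le_top)
      (h.cop.symm.coprime_dvd_left (card_dvd_of_le hA)) fun e he he1 g hg => ?_
    have hc := mem_centralizer_singleton_iff.1 hg.2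
    refine mem_normalizer_of_ti h.ti (hA he) he1 ?_
    rw [mul_inv_eq_iff_eq_mul.2 hc]
    exact hA he
  refine h.nn ?_
  rw [← normalizer_eq_top_iff, ← top_le_iff, ← h.frattini]
  exact sup_le hON le_rfl

theorem TIHall.isZGroup (h : TIHall H O) (h2 : ∀ P : Sylow 2 H, IsMulCommutative (P : Subgroup H)) :
    IsZGroup H := by
  refine ⟨fun p hp P => ?_⟩
  haveI := Fact.mk hp
  have hab : ∀ A : Subgroup H, IsMulCommutative A → IsCyclic A := fun A hA => by
    haveI := hA
    haveI := h.isCyclic_of_abelian (map_subtype_le A)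
    exact isCyclic_of_surjective (A.equivMapOfInjective _ H.subtype_injective).symm
      (A.equivMapOfInjective _ H.subtype_injective).symm.surjective
  have huniq : ∀ X Y : Subgroup (P : Subgroup H), Nat.card X = p → Nat.card Y = p → X = Y := by
    intro X Y hX hY
    haveI : Nontrivial (P : Subgroup H) := by
      by_contra hn
      rw [not_nontrivial_iff_subsingleton] at hn
      rw [Subsingleton.elim X ⊥, card_bot] at hX
      exact hp.ne_one hX.symm
    obtain ⟨z, hz⟩ := exists_prime_orderOf_dvd_card' (G := center (P : Subgroup H)) p (by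
      obtain ⟨n, hn⟩ := (P.2.to_subgroup (center (P : Subgroup H))).exists_card_eq
      rw [hn]
      refine dvd_pow_self p fun h0 => ?_
      rw [h0, pow_zero, card_eq_one] at hn
      exact P.2.bot_lt_center.ne' hn)
    rw [← orderOf_coe] at hz
    have key : ∀ W : Subgroup (P : Subgroup H), Nat.card W = p →
        W = zpowers (z : (P : Subgroup H)) := by
      intro W hW
      have hWc : IsMulCommutative (W ⊔ zpowers (z : (P : Subgroup H)) : Subgroup (P : Subgroup H)) := by
        haveI : IsCyclic W := isCyclic_of_prime_card hW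
        haveI : (zpowers (z : (P : Subgroup H))).Normal := ⟨fun n hn g => by
          have hnc : n ∈ center (P : Subgroup H) := zpowers_le.2 z.2 hn
          rw [(mem_center_iff.1 hnc g), mul_inv_cancel_right]
          exact hn⟩
        refine ⟨⟨fun a b => Subtype.ext ?_⟩⟩
        obtain ⟨w1, hw1, c1, hc1, e1⟩ := mem_sup_of_normal_right.1 a.2
        obtain ⟨w2, hw2, c2, hc2, e2⟩ := mem_sup_of_normal_right.1 b.2
        have h1 : Commute w1 w2 :=
          congrArg Subtype.val (mul_comm' (⟨w1, hw1⟩ : W) ⟨w2, hw2⟩)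
        have hc : ∀ (c g : (P : Subgroup H)), c ∈ zpowers (z : (P : Subgroup H)) → Commute g c :=
          fun c g hc => mem_center_iff.1 (zpowers_le.2 z.2 hc) g
        show (a : (P : Subgroup H)) * b = b * a
        rw [← e1, ← e2]
        exact ((h1.mul_right (hc c2 w1 hc2)).mul_left
          ((hc c1 w2 hc1).symm.mul_right (hc c2 c1 hc2))).eq
      have hsub := hab ((W ⊔ zpowers (z : (P : Subgroup H))).map (P : Subgroup H).subtype)
        inferInstance
      haveI := hsub
      haveI : IsCyclic (W ⊔ zpowers (z : (P : Subgroup H)) : Subgroup (P : Subgroup H)) :=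
        isCyclic_of_surjective
          ((W ⊔ zpowers (z : (P : Subgroup H))).equivMapOfInjective _
            (P : Subgroup H).subtype_injective).symm
          ((W ⊔ zpowers (z : (P : Subgroup H))).equivMapOfInjective _
            (P : Subgroup H).subtype_injective).symm.surjective
      exact eq_of_card_cyclic_le (P := W ⊔ zpowers (z : (P : Subgroup H))) le_sup_left le_sup_right
        (by rw [hW, Nat.card_zpowers, hz])
    rw [key X hX, key Y hY]
  rcases S0016.result (G := (P : Subgroup H)) p P.2 huniq with hc | ⟨rfl, -⟩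
  · exact hc
  · exact hab _ (h2 P)

/-- An element fixing an element of order `p` and normalising a cyclic `p`-group by an action of
order prime to `p` centralises it. -/
theorem centralize_cyclic {p : ℕ} [hp : Fact p.Prime] {P : Subgroup G} [IsCyclic P]
    (hP : IsPGroup p P) {x q : G} (hx : x ∈ P) (hxo : orderOf x = p)
    (hq : q ∈ normalizer (P : Set G)) (hqc : Commute q x) (hqp : (orderOf q).Coprime p) :
    ∀ y ∈ P, Commute q y := by
  suffices ∀ (n : ℕ) (y : G), y ∈ P → y ^ (p ^ n) = 1 → Commute q y by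
    intro y hy
    obtain ⟨n, hn⟩ := hP ⟨y, hy⟩
    exact this n y hy (congrArg Subtype.val hn)
  intro n
  induction n with
  | zero => intro y _ h1; rw [pow_zero, pow_one] at h1; rw [h1]; exact Commute.one_right q
  | succ n ih =>
    intro y hy h1
    have hpow : Commute q (y ^ p) :=
      ih _ (pow_mem hy p) (by rw [← pow_mul, ← pow_succ']; exact h1)
    set c := q * y * q⁻¹ * y⁻¹ with hc
    have hqy : q * y * q⁻¹ ∈ P := (mem_normalizer_iff.1 hq y).1 hy
    have hcP : c ∈ P := mul_mem hqy (inv_mem hy)
    have hcm : Commute (q * y * q⁻¹) y⁻¹ :=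
      congrArg Subtype.val (mul_comm' (⟨_, hqy⟩ : P) ⟨_, inv_mem hy⟩)
    have hcp : c ^ p = 1 := by
      rw [hc, hcm.mul_pow, conj_pow, hpow.eq, mul_inv_cancel_right, inv_pow, mul_inv_cancel]
    have hcX : c ∈ zpowers x := by
      by_cases hc1 : c = 1
      · rw [hc1]; exact one_mem _
      · rw [← eq_of_card_cyclic_le (P := P) (zpowers_le.2 hcP) (zpowers_le.2 hx)
          (by rw [Nat.card_zpowers, Nat.card_zpowers, hxo, orderOf_eq_prime hcp hc1])]
        exact mem_zpowers c
    have hqcc : Commute q c := by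
      obtain ⟨k, hk⟩ := mem_zpowers_iff.1 hcX
      rw [← hk]
      exact hqc.zpow_right k
    have hit : ∀ m : ℕ, q ^ m * y * (q ^ m)⁻¹ = c ^ m * y := by
      intro m
      induction m with
      | zero => simp
      | succ m ihm =>
        calc q ^ (m + 1) * y * (q ^ (m + 1))⁻¹
            = q * (q ^ m * y * (q ^ m)⁻¹) * q⁻¹ := by rw [pow_succ']; group
          _ = q * c ^ m * y * q⁻¹ := by rw [ihm, mul_assoc q (c ^ m) y]
          _ = c ^ m * (q * y * q⁻¹) := by rw [(hqcc.pow_right m).eq]; group
          _ = c ^ (m + 1) * y := by rw [pow_succ, hc]; group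
    have h0 := hit (orderOf q)
    rw [pow_orderOf_eq_one, one_mul, inv_one, mul_one, eq_comm, mul_eq_right] at h0
    have hc1 : c = 1 := orderOf_eq_one_iff.1
      (Nat.eq_one_of_dvd_coprimes hqp (orderOf_dvd_of_pow_eq_one h0) (orderOf_dvd_of_pow_eq_one hcp))
    exact mul_inv_eq_iff_eq_mul.1 (mul_inv_eq_one.1 (hc ▸ hc1))

/-- The centraliser in a normal Z-subgroup of a coprime complement. -/
theorem exists_complement_centralizer {M : Type u} [Group M] [Finite M] (H Q : Subgroup M)
    [H.Normal] [IsZGroup H] (hQH : Q ⊔ H = ⊤) (hcop : (Nat.card Q).Coprime (Nat.card H)) :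
    (Nat.card (H ⊓ centralizer (Q : Set M) : Subgroup M)).Coprime
        ((H ⊓ centralizer (Q : Set M)).relIndex H) ∧
      ∃ R : Subgroup M, R.Normal ∧ R ⊔ (H ⊓ centralizer (Q : Set M)) = ⊤ ∧
        (Nat.card R).Coprime (Nat.card (H ⊓ centralizer (Q : Set M) : Subgroup M)) := by
  classical
  set H0 := H ⊓ centralizer (Q : Set M) with hH0
  set R := normalClosure (Q : Set M)
  have hQR : Q ≤ R := subset_normalClosure
  have hQN : Q ≤ normalizer (H : Set M) := by rw [normalizer_eq_top]; exact le_top
  have hindex : ∀ p : ℕ, p.Prime → p ∣ Nat.card H → ¬ p ∣ H.index := by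
    intro p hp h1 h2
    refine hp.ne_one (Nat.eq_one_of_dvd_coprimes hcop (h2.trans ?_) h1)
    rw [← relIndex_top_right H, ← hQH, relIndex_sup_right]
    exact relIndex_dvd_card H Q
  have key : ∀ p : ℕ, p.Prime → p ∣ Nat.card H0 →
      ¬ p ∣ H0.relIndex H ∧ ¬ p ∣ Nat.card R := by
    intro p hp hpd
    haveI := Fact.mk hp
    obtain ⟨x0, hx0⟩ := exists_prime_orderOf_dvd_card' (G := H0) p hpd
    set x : M := (x0 : M) with hxdef
    have hxo : orderOf x = p := by rw [hxdef, orderOf_coe, hx0]
    have hxH : x ∈ H := x0.2.1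
    have hqx : ∀ q ∈ Q, Commute q x := fun q hq => mem_centralizer_iff.1 x0.2.2 q hq
    have hqord : ∀ q ∈ Q, (orderOf q).Coprime p := fun q hq =>
      Nat.Coprime.coprime_dvd_left (Subgroup.orderOf_dvd_natCard Q hq)
        (hcop.coprime_dvd_right (hpd.trans (card_dvd_of_le inf_le_left)))
    have hQX : Q ≤ normalizer (zpowers x : Set M) := by
      refine Coprime.le_normalizer_of_conj_mem fun q hq y hy => ?_
      obtain ⟨k, rfl⟩ := mem_zpowers_iff.1 hy
      rw [((hqx q hq).zpow_right k).eq, mul_inv_cancel_right]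
      exact hy
    obtain ⟨P, hxP, hQP⟩ := Coprime.exists_invariant_sylow_ge Q H hQN hcop (Or.inr inferInstance) p
      (zpowers x) (zpowers_le.2 hxH)
      (IsPGroup.of_card (n := 1) (by rw [Nat.card_zpowers, hxo, pow_one])) hQX
    set P1 := (P : Subgroup H).map H.subtype with hP1
    have hP1H : P1 ≤ H := map_subtype_le _
    haveI : IsCyclic P1 := isCyclic_of_surjective
      ((P : Subgroup H).equivMapOfInjective _ H.subtype_injective)
      ((P : Subgroup H).equivMapOfInjective _ H.subtype_injective).surjective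
    have hP1p : IsPGroup p P1 := P.2.map _
    have hQc : Q ≤ centralizer (P1 : Set M) := fun q hq => mem_centralizer_iff.2 fun y hy =>
      (centralize_cyclic hP1p (hxP (mem_zpowers x)) hxo (hQP hq) (hqx q hq) (hqord q hq) y hy).symm
    have hP1H0 : P1 ≤ H0 := le_inf hP1H fun y hy => mem_centralizer_iff.2 fun q hq =>
      (mem_centralizer_iff.1 (hQc hq) y hy).symm
    have hPrel : P1.relIndex H = (P : Subgroup H).index := by
      rw [hP1, Subgroup.relIndex, ← comap_subtype,
        comap_map_eq_self_of_injective H.subtype_injective]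
    refine ⟨fun hd => P.not_dvd_index (hPrel ▸ hd.trans (relIndex_dvd_of_le_left H hP1H0)), ?_⟩
    -- a normal subgroup containing `Q` in which `P1` is a central Sylow subgroup of its normaliser
    obtain ⟨C, hCn, hQC, hPC, hcent⟩ : ∃ C : Subgroup M, C.Normal ∧ Q ≤ C ∧ P1 ≤ C ∧
        ∀ n ∈ C, n ∈ normalizer (P1 : Set M) → n ∈ centralizer (P1 : Set M) := by
      set Hc := (commutator H).map H.subtype with hHc
      have hcopH := IsZGroup.coprime_commutator_index (G := H)
      haveI : IsCyclic (commutator H) := IsZGroup.isCyclic_commutator H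
      by_cases hpc : p ∣ Nat.card (commutator H)
      · have hle : P1 ≤ Hc := by
          rintro _ ⟨y, hy, rfl⟩
          refine mem_map_of_mem _ ((QuotientGroup.eq_one_iff (N := commutator H) y).1
            (orderOf_eq_one_iff.1 (Nat.eq_one_of_dvd_coprimes (a := p ^ (Nat.card (P : Subgroup H)))
              (Nat.Coprime.pow_left _ (hcopH.coprime_dvd_left hpc)) ?_ ?_)))
          · obtain ⟨k, hk⟩ := P.2.exists_card_eq
            refine ((orderOf_map_dvd (QuotientGroup.mk' (commutator H)) y).trans
              (Subgroup.orderOf_dvd_natCard (P : Subgroup H) hy)).trans ?_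
            conv_lhs => rw [hk]
            exact pow_dvd_pow p (hk ▸ (Nat.lt_pow_self hp.one_lt).le)
          · rw [index_eq_card]
            exact orderOf_dvd_natCard _
        haveI : IsCyclic Hc := isCyclic_of_surjective
          ((commutator H).equivMapOfInjective _ H.subtype_injective)
          ((commutator H).equivMapOfInjective _ H.subtype_injective).surjective
        haveI : Hc.Normal := hHc ▸ inferInstance
        haveI : P1.Normal := by
          refine ⟨fun y hy g => ?_⟩
          have e : P1.map (MulAut.conj g).toMonoidHom = P1 := by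
            refine eq_of_card_cyclic_le (P := Hc) ?_ hle (card_map_of_injective
              (MulAut.conj g).injective)
            rintro _ ⟨w, hw, rfl⟩
            exact (inferInstance : Hc.Normal).conj_mem w (hle hw) g
          rw [← e]
          exact ⟨y, hy, rfl⟩
        exact ⟨centralizer (P1 : Set M), inferInstance, hQc,
          fun y hy => mem_centralizer_iff.2 fun w hw =>
            congrArg Subtype.val (mul_comm' (⟨w, hw⟩ : P1) ⟨y, hy⟩),
          fun n hn _ => hn⟩
      · refine ⟨⊤, inferInstance, le_top, le_top, fun n _ hn => ?_⟩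
        have hn' : n ∈ Q ⊔ H := hQH ▸ mem_top n
        obtain ⟨q, hq, a, ha, rfl⟩ := mem_sup_of_normal_right.1 hn'
        have haN : a ∈ normalizer (P1 : Set M) := by
          have := mul_mem (inv_mem (hQP hq)) hn
          rwa [inv_mul_cancel_left] at this
        refine mul_mem (hQc hq) (mem_centralizer_iff.2 ?_)
        rintro w ⟨y, hy, rfl⟩
        set a' : H := ⟨a, ha⟩
        have hmem : (a' * y * a'⁻¹ * y⁻¹ : H) ∈ commutator H ⊓ (P : Subgroup H) := by
          refine mem_inf.2 ⟨commutator_mem_commutator (mem_top a') (mem_top y), mul_mem ?_ (inv_mem (show y ∈ (P : Subgroup H) from hy))⟩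
          obtain ⟨y', hy', e⟩ := (mem_normalizer_iff.1 haN (y : M)).1 ⟨y, hy, rfl⟩
          exact (show y' = a' * y * a'⁻¹ from Subtype.ext e) ▸ hy'
        have hbot : commutator H ⊓ (P : Subgroup H) = ⊥ := by
          obtain ⟨k, hk⟩ := P.2.exists_card_eq
          refine inf_eq_bot_of_coprime ?_
          rw [hk]
          exact (Nat.Coprime.pow_right k ((hp.coprime_iff_not_dvd.2 hpc).symm))
        rw [hbot, mem_bot] at hmem
        exact (congrArg Subtype.val (mul_inv_eq_iff_eq_mul.1 (mul_inv_eq_one.1 hmem))).symm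
    haveI := hCn
    have hidx : ¬ p ∣ (P1.subgroupOf C).index := by
      intro hd
      have h1 : P1.relIndex C ∣ P1.index := relIndex_dvd_index_of_le hPC
      have h2 : p ∣ P1.relIndex H * H.index := by
        rw [relIndex_mul_index hP1H]; exact (show p ∣ P1.relIndex C from hd).trans h1
      rcases hp.dvd_mul.1 h2 with h | h
      · exact P.not_dvd_index (hPrel ▸ h)
      · exact hindex p hp (hpd.trans (card_dvd_of_le inf_le_left)) h
    let PC : Sylow p C := IsPGroup.toSylow (P := P1.subgroupOf C)
      (hP1p.of_equiv (subgroupOfEquivOfLe hPC).symm) hidx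
    have hPN : normalizer ((PC : Subgroup C) : Set C) ≤ centralizer ((PC : Subgroup C) : Set C) := by
      intro n hn
      have hnN : (n : M) ∈ normalizer (P1 : Set M) := mem_normalizer_iff.2 fun w => by
        constructor
        · intro hw
          exact (mem_normalizer_iff.1 hn ⟨w, hPC hw⟩).1 hw
        · intro hw
          have hwC : w ∈ C := by
            have := C.mul_mem (C.mul_mem (C.inv_mem n.2) (hPC hw)) n.2
            simpa [mul_assoc] using this
          exact (mem_normalizer_iff.1 hn ⟨w, hwC⟩).2 hw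
      exact mem_centralizer_iff.2 fun w hw =>
        Subtype.ext (mem_centralizer_iff.1 (hcent n n.2 hnN) (w : M) hw)
    set K := (MonoidHom.transferSylow PC hPN).ker
    have hRK : R ≤ K.map C.subtype := by
      show Subgroup.closure _ ≤ _
      rw [closure_le]
      intro z hz
      obtain ⟨q, hq, hqz⟩ := Group.mem_conjugatesOfSet_iff.1 hz
      obtain ⟨g, hg⟩ := isConj_iff.1 hqz
      have hzC : z ∈ C := hg ▸ hCn.conj_mem q (hQC hq) g
      refine ⟨⟨z, hzC⟩, ?_, rfl⟩
      refine orderOf_eq_one_iff.1 ?_
      obtain ⟨k, hk⟩ := PC.2.exists_card_eq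
      have hz2 : orderOf (⟨z, hzC⟩ : C) = orderOf q := by
        rw [← orderOf_coe]
        show orderOf z = orderOf q
        rw [← hg]
        exact MulEquiv.orderOf_eq (MulAut.conj g) q
      exact Nat.eq_one_of_dvd_coprimes ((hqord q hq).pow_right k)
        (hz2 ▸ orderOf_map_dvd (MonoidHom.transferSylow PC hPN) _)
        (hk ▸ orderOf_dvd_natCard _)
    intro hd
    have hd2 := hd.trans (card_dvd_of_le hRK)
    rw [card_map_of_injective C.subtype_injective] at hd2
    exact MonoidHom.not_dvd_card_ker_transferSylow PC hPN hd2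
  refine ⟨Nat.coprime_of_dvd fun p hp h1 h2 => (key p hp h1).1 h2, R, inferInstance, ?_,
    Nat.coprime_of_dvd fun p hp h1 h2 => (key p hp h2).2 h1⟩
  refine top_unique (hQH.ge.trans (sup_le (hQR.trans le_sup_left) fun a ha => ?_))
  haveI : Group.IsSolvable (R ⊓ H : Subgroup M) :=
    Coprime.solvable_of_le inf_le_right (inferInstance : Group.IsSolvable H)
  have hfixq : ∀ q ∈ Q, q * a * q⁻¹ * a⁻¹ ∈ R ⊓ H := fun q hq => by
    refine mem_inf.2 ⟨?_, mul_mem ((inferInstance : H.Normal).conj_mem a ha q) (inv_mem ha)⟩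
    rw [mul_assoc, mul_assoc, ← mul_assoc a]
    exact mul_mem (hQR hq)
      ((inferInstance : R.Normal).conj_mem _ (inv_mem (hQR hq)) a)
  obtain ⟨d, hd, hfix⟩ := Coprime.exists_fixed_in_coset_of_normal Q (R ⊓ H)
    (by rw [normalizer_eq_top]; exact le_top)
    (hcop.coprime_dvd_right (card_dvd_of_le inf_le_right)) (Or.inr inferInstance) a
    (by rw [normalizer_eq_top]; exact mem_top a) hfixq
  have h1 : a * d ∈ R ⊔ H0 := mem_sup_right ⟨mul_mem ha hd.2, hfix⟩
  have h2 : d ∈ R ⊔ H0 := mem_sup_left hd.1
  simpa using mul_mem h1 (inv_mem h2)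

theorem TIHall.centralizer_complement (h : TIHall H O)
    (hHall : (Nat.card H).Coprime (H.subgroupOf (normalizer (H : Set G))).index)
    (h2 : ∀ P : Sylow 2 H, IsMulCommutative (P : Subgroup H)) {Q : Subgroup G}
    (hQ : Q ≤ normalizer (H : Set G)) (hQH : Q ⊓ H = ⊥)
    (hQH' : Q ⊔ H = normalizer (H : Set G)) :
    (Nat.card (H ⊓ centralizer (Q : Set G) : Subgroup G)).Coprime
        (H ⊓ centralizer (Q : Set G)).index ∧
      ∃ N : Subgroup G, N.Normal ∧ N.IsComplement' (H ⊓ centralizer (Q : Set G)) := by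
  haveI := h.normal
  haveI := h.isZGroup h2
  set N := normalizer (H : Set G) with hN
  haveI : (H.subgroupOf N).Normal := normal_in_normalizer
  haveI : IsZGroup (H.subgroupOf N) :=
    IsZGroup.of_injective (f := (subgroupOfEquivOfLe (le_normalizer : H ≤ N)).toMonoidHom)
      (subgroupOfEquivOfLe (le_normalizer : H ≤ N)).injective
  have hsup : Q.subgroupOf N ⊔ H.subgroupOf N = ⊤ := by
    rw [← subgroupOf_sup hQ le_normalizer, hQH', subgroupOf_self]
  have hcop : (Nat.card (Q.subgroupOf N)).Coprime (Nat.card (H.subgroupOf N)) := by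
    rw [Nat.card_congr (subgroupOfEquivOfLe hQ).toEquiv,
      Nat.card_congr (subgroupOfEquivOfLe (le_normalizer : H ≤ N)).toEquiv]
    refine Nat.Coprime.coprime_dvd_left ?_ hHall.symm
    have e : H.relIndex Q = Nat.card Q := by
      rw [← inf_relIndex_right, inf_comm, hQH, relIndex_bot_left]
    rw [← e, ← relIndex_subgroupOf hQ]
    exact relIndex_dvd_index_of_normal _ _
  obtain ⟨hHall0, R, hRn, hRsup, hRcop⟩ :=
    exists_complement_centralizer (H.subgroupOf N) (Q.subgroupOf N) hsup hcop
  set H0 := H ⊓ centralizer (Q : Set G) with hH0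
  set H0' := H.subgroupOf N ⊓ centralizer (Q.subgroupOf N : Set N)
  have hmap : H0'.map N.subtype = H0 := by
    refine le_antisymm ?_ ?_
    · rintro _ ⟨y, ⟨hy1, hy2⟩, rfl⟩
      exact ⟨hy1, mem_centralizer_iff.2 fun q hq =>
        congrArg Subtype.val (mem_centralizer_iff.1 hy2 ⟨q, hQ hq⟩ hq)⟩
    · rintro y ⟨hy1, hy2⟩
      exact ⟨⟨y, le_normalizer hy1⟩, ⟨hy1, mem_centralizer_iff.2 fun q hq =>
        Subtype.ext (mem_centralizer_iff.1 hy2 (q : G) hq)⟩, rfl⟩
  have hH0N : H0 ≤ N := inf_le_left.trans le_normalizer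
  have hc0 : Nat.card H0' = Nat.card H0 := by
    rw [← hmap, card_map_of_injective N.subtype_injective]
  have hrel : H0'.relIndex (H.subgroupOf N) = H0.relIndex H := by
    rw [← hmap, ← relIndex_subgroupOf (H := H0'.map N.subtype) (le_normalizer : H ≤ N),
      show (H0'.map N.subtype).subgroupOf N = H0' from
        comap_map_eq_self_of_injective N.subtype_injective H0']
  rw [hc0, hrel] at hHall0
  rw [hc0] at hRcop
  have hHall' : (Nat.card H0).Coprime H0.index := by
    rw [← relIndex_mul_index (inf_le_left : H0 ≤ H)]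
    exact Nat.Coprime.mul_right hHall0 (h.hall.coprime_dvd_left (card_dvd_of_le inf_le_left))
  set R1 := R.map N.subtype
  have hR1N : N ≤ normalizer (R1 : Set G) := by
    refine Coprime.le_normalizer_of_conj_mem fun g hg => ?_
    rintro _ ⟨r, hr, rfl⟩
    exact ⟨⟨g, hg⟩ * r * ⟨g, hg⟩⁻¹, hRn.conj_mem r hr _, rfl⟩
  have hNn : (O ⊔ R1).Normal := by
    rw [← normalizer_eq_top_iff, ← top_le_iff, ← h.frattini]
    refine sup_le (le_sup_left.trans le_normalizer) (Coprime.le_normalizer_sup ?_ hR1N)
    rw [normalizer_eq_top (H := O)]; exact le_top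
  have hcN : (Nat.card (O ⊔ R1 : Subgroup G)).Coprime (Nat.card H0) := by
    refine Nat.Coprime.coprime_dvd_left ?_ (Nat.Coprime.mul_left
      (h.cop.coprime_dvd_right (card_dvd_of_le (inf_le_left : H0 ≤ H)))
      (show (Nat.card R1).Coprime (Nat.card H0) by
        rw [card_map_of_injective N.subtype_injective]; exact hRcop))
    rw [mul_comm, sup_comm]
    exact Thompson.card_sup_dvd_mul R1 O
  haveI := hNn
  refine ⟨hHall', O ⊔ R1, hNn, isComplement'_of_disjoint_and_mul_eq_univ
    (disjoint_of_coprime_natCard hcN) ?_⟩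
  rw [← normal_mul, ← coe_top, SetLike.coe_set_eq, ← top_le_iff, ← h.frattini]
  refine sup_le (le_sup_left.trans le_sup_left) ?_
  intro g hg
  have : (⟨g, hg⟩ : N) ∈ R ⊔ H0' := hRsup ▸ mem_top _
  have h3 := mem_map_of_mem N.subtype this
  rw [Subgroup.map_sup, hmap] at h3
  exact sup_le_sup_right le_sup_right H0 h3

end Cfsg.Agent.FPFStructure
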