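import Cfsg.Agent.FPFStructure.AutSolvable
import Cfsg.Agent.Lib.Coprime.Action
import Cfsg.Agent.Lib.Thompson.Cores
import Cfsg.Prelude.Def_OddOrderLocal

set_option autoImplicit false
set_option linter.style.haveILetI false

/-!
Hall TI-subgroups of separable groups.
-/

namespace Cfsg.Agent.FPFStructure

universe u

open Subgroup

variable {G : Type u} [Group G] [Finite G] {H O : Subgroup G}

/-- The hypotheses. -/
structure TIHall (H O : Subgroup G) : Prop where
  ti : Cfsg.IsTISubset (H : Set G)
  nn : ¬ H.Normal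
  hall : (Nat.card H).Coprime H.index
  normal : O.Normal
  cop : (Nat.card O).Coprime (Nat.card H)
  max : ∀ K : Subgroup G, K.Normal → (Nat.card K).Coprime (Nat.card H) → K ≤ O
  frattini : O ⊔ normalizer (H : Set G) = ⊤
  sup_normal : (O ⊔ H).Normal

theorem ne_bot_of_not_normal (hnn : ¬ H.Normal) : H ≠ ⊥ := fun h => hnn (h ▸ inferInstance)

theorem mem_normalizer_of_ti (hTI : Cfsg.IsTISubset (H : Set G)) {x g : G} (hx : x ∈ H)
    (hx1 : x ≠ 1) (hg : g * x * g⁻¹ ∈ H) : g ∈ normalizer (H : Set G) :=
  by_contra fun h => hx1 (hTI g h x hx hg)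

theorem normalizer_le_of_ti (hTI : Cfsg.IsTISubset (H : Set G)) {X : Subgroup G} (hX : X ≤ H)
    (hX1 : X ≠ ⊥) : normalizer (X : Set G) ≤ normalizer (H : Set G) := by
  intro g hg
  obtain ⟨⟨x, hx⟩, hx1⟩ := ne_bot_iff_exists_ne_one.1 hX1
  exact mem_normalizer_of_ti hTI (hX hx) (fun e => hx1 (Subtype.ext e))
    (hX ((mem_normalizer_iff.1 hg x).1 hx))

theorem hall_of_ti (hTI : Cfsg.IsTISubset (H : Set G))
    (hHall : (Nat.card H).Coprime (H.subgroupOf (normalizer (H : Set G))).index) :
    (Nat.card H).Coprime H.index := by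
  refine Nat.coprime_of_dvd fun p hp h1 h2 => ?_
  haveI := Fact.mk hp
  obtain ⟨P⟩ : Nonempty (Sylow p H) := inferInstance
  set P' := (P : Subgroup H).map H.subtype with hP'
  have hP'H : P' ≤ H := map_subtype_le _
  have hP'p : IsPGroup p P' := P.2.map _
  have hne : P' ≠ ⊥ := by
    intro hb
    rw [hP', map_eq_bot_iff_of_injective _ H.subtype_injective] at hb
    exact P.ne_bot_of_dvd_card h1 hb
  obtain ⟨n, hn⟩ := hP'p.exists_card_eq
  have hdvd : p ^ (n + 1) ∣ Nat.card G := by
    rw [← card_mul_index H, pow_succ]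
    exact mul_dvd_mul (hn ▸ card_dvd_of_le hP'H) h2
  have hN : p ∣ P'.relIndex (normalizer (P' : Set G)) :=
    Sylow.prime_dvd_card_quotient_normalizer hdvd hn
  have hNH := normalizer_le_of_ti hTI hP'H hne
  have hPsyl : ¬ p ∣ P'.relIndex H := by
    rw [hP']
    have : ((P : Subgroup H).map H.subtype).relIndex H = (P : Subgroup H).index := by
      rw [Subgroup.relIndex, ← comap_subtype, comap_map_eq_self_of_injective H.subtype_injective]
    rw [this]
    exact P.not_dvd_index
  have hmul := relIndex_mul_relIndex P' H (normalizer (H : Set G)) hP'H le_normalizer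
  have hd : p ∣ P'.relIndex (normalizer (H : Set G)) := by
    refine hN.trans ?_
    have := relIndex_mul_relIndex P' (normalizer (P' : Set G)) (normalizer (H : Set G))
      le_normalizer hNH
    exact Dvd.intro _ this
  rw [← hmul] at hd
  rcases hp.dvd_mul.1 hd with h | h
  · exact hPsyl h
  · exact hp.ne_one (Nat.eq_one_of_dvd_coprimes hHall h1 h)

theorem sSup_normal_coprime (n : ℕ) :
    (sSup {K : Subgroup G | K.Normal ∧ (Nat.card K).Coprime n}).Normal ∧
      (Nat.card (sSup {K : Subgroup G | K.Normal ∧ (Nat.card K).Coprime n} : Subgroup G)).Coprime n := by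
  classical
  set S : Set (Subgroup G) := {K | K.Normal ∧ (Nat.card K).Coprime n}
  have hS : S.Finite := Set.toFinite _
  suffices sSup S ∈ S from this
  have h : sSup S = hS.toFinset.sup id := by
    apply le_antisymm
    · exact sSup_le fun N hN => Finset.le_sup (f := id) (hS.mem_toFinset.mpr hN)
    · exact Finset.sup_le fun N hN => le_sSup (hS.mem_toFinset.mp hN)
  rw [h]
  refine Finset.sup_induction ⟨inferInstance, by simp⟩ ?_ fun N hN => hS.mem_toFinset.mp hN
  intro a ha b hb
  haveI := ha.1
  haveI := hb.1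
  exact ⟨inferInstance, Nat.Coprime.coprime_dvd_left (Thompson.card_sup_dvd_mul a b)
    (Nat.Coprime.mul_left ha.2 hb.2)⟩

theorem tiHall_of (hTI : Cfsg.IsTISubset (H : Set G)) (hnn : ¬ H.Normal)
    (hHall : (Nat.card H).Coprime (H.subgroupOf (normalizer (H : Set G))).index)
    (hsep : ∃ (n : ℕ) (M : Fin (n + 1) → Subgroup G), M 0 = ⊥ ∧ M (Fin.last n) = ⊤ ∧ Monotone M ∧
      (∀ i, (M i).Normal) ∧ ∀ i : Fin n,
        (∀ q : ℕ, q.Prime → q ∣ (M i.castSucc).relIndex (M i.succ) → q ∣ Nat.card H) ∨
          ((M i.castSucc).relIndex (M i.succ)).Coprime (Nat.card H))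
    (hO : O = sSup {K : Subgroup G | K.Normal ∧ (Nat.card K).Coprime (Nat.card H)}) :
    TIHall H O := by
  have hall := hall_of_ti hTI hHall
  obtain ⟨hOn, hOc⟩ := sSup_normal_coprime (G := G) (Nat.card H)
  rw [← hO] at hOn hOc
  haveI := hOn
  have hmax : ∀ K : Subgroup G, K.Normal → (Nat.card K).Coprime (Nat.card H) → K ≤ O :=
    fun K h1 h2 => hO ▸ le_sSup ⟨h1, h2⟩
  obtain ⟨n, M, h0, hlast, hmono, hMn, hfac⟩ := hsep
  -- the first term outside `O`
  obtain ⟨i, hi, hi'⟩ : ∃ i : Fin n, M i.castSucc ≤ O ∧ ¬ M i.succ ≤ O := by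
    by_contra hcon
    have hall' : ∀ j : Fin (n + 1), M j ≤ O := by
      intro j
      induction j using Fin.induction with
      | zero => rw [h0]; exact bot_le
      | succ j ih => exact by_contra fun h => hcon ⟨j, ih, h⟩
    have htop : O = ⊤ := top_le_iff.1 (hlast ▸ hall' (Fin.last n))
    rw [htop, card_top] at hOc
    have h1 : Nat.card H = 1 :=
      Nat.eq_one_of_dvd_coprimes hOc (card_subgroup_dvd_card H) dvd_rfl
    exact hnn (card_eq_one.1 h1 ▸ inferInstance)
  haveI := hMn i.succ
  haveI := hMn i.castSucc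
  set N := O ⊔ M i.succ with hNdef
  have hcN : Nat.card N ∣ Nat.card O * (M i.castSucc).relIndex (M i.succ) := by
    have h1 : Nat.card N = Nat.card O * O.relIndex N := by
      rw [← relIndex_bot_left O, ← relIndex_bot_left N, relIndex_mul_relIndex _ _ _ bot_le le_sup_left]
    rw [h1, hNdef, sup_comm, relIndex_sup_right]
    exact mul_dvd_mul_left _ (relIndex_dvd_of_le_left _ hi)
  have hpi : ∀ q : ℕ, q.Prime → q ∣ (M i.castSucc).relIndex (M i.succ) → q ∣ Nat.card H := by
    rcases hfac i with h | h
    · exact h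
    · exfalso
      refine hi' (le_trans le_sup_right (hmax N inferInstance ?_))
      exact (hOc.mul_left h).coprime_dvd_left hcN
  -- `N` lies in `O ⊔ H`
  have hOH : Nat.card (O ⊔ H : Subgroup G) ∣ Nat.card O * Nat.card H := by
    rw [← relIndex_bot_left O, ← relIndex_bot_left (O ⊔ H : Subgroup G),
      ← relIndex_mul_relIndex ⊥ O (O ⊔ H : Subgroup G) bot_le le_sup_left, sup_comm,
      relIndex_sup_right]
    exact mul_dvd_mul_left _ (relIndex_dvd_card O H)
  have hNle : N ≤ O ⊔ H := by
    set T := N ⊔ (O ⊔ H)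
    have hT : O ⊔ H ≤ T := le_sup_right
    have hd1 : (O ⊔ H).relIndex T ∣ (O ⊔ H : Subgroup G).index := by
      exact Dvd.intro _ (relIndex_mul_index hT)
    have hd2 : (O ⊔ H).relIndex T ∣ O.relIndex N := by
      have e : T = N ⊔ H := by
        refine le_antisymm (sup_le le_sup_left (sup_le (le_trans le_sup_left le_sup_left) le_sup_right))
          (sup_le le_sup_left (le_trans le_sup_right le_sup_right))
      have hA : Nat.card T * (Nat.card (N ⊓ (O ⊔ H) : Subgroup G)) =
          Nat.card N * Nat.card (O ⊔ H : Subgroup G) := by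
        have h6 : N.relIndex T = N.relIndex (O ⊔ H) := by
          rw [show T = (O ⊔ H) ⊔ N from sup_comm _ _]
          exact relIndex_sup_right _ _
        have e1 : Nat.card T = Nat.card N * N.relIndex T := by
          rw [← relIndex_bot_left N, ← relIndex_bot_left T,
            relIndex_mul_relIndex _ _ _ bot_le le_sup_left]
        have e2 : Nat.card (O ⊔ H : Subgroup G) =
            Nat.card (N ⊓ (O ⊔ H) : Subgroup G) * N.relIndex (O ⊔ H) := by
          rw [← inf_relIndex_right N, ← relIndex_bot_left (O ⊔ H : Subgroup G),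
            ← relIndex_bot_left (N ⊓ (O ⊔ H) : Subgroup G),
            relIndex_mul_relIndex _ _ _ bot_le inf_le_right]
        rw [e1, h6, e2]; ring
      have e3 : Nat.card T = Nat.card (O ⊔ H : Subgroup G) * (O ⊔ H).relIndex T := by
        rw [← relIndex_bot_left (O ⊔ H : Subgroup G), ← relIndex_bot_left T,
          relIndex_mul_relIndex _ _ _ bot_le hT]
      have e4 : Nat.card N = Nat.card O * O.relIndex N := by
        rw [← relIndex_bot_left O, ← relIndex_bot_left N, relIndex_mul_relIndex _ _ _ bot_le le_sup_left]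
      have e5 : Nat.card O ∣ Nat.card (N ⊓ (O ⊔ H) : Subgroup G) :=
        card_dvd_of_le (le_inf le_sup_left le_sup_left)
      obtain ⟨c, hc⟩ := e5
      rw [e3, e4, hc] at hA
      have hpos : 0 < Nat.card (O ⊔ H : Subgroup G) * Nat.card O :=
        Nat.mul_pos Nat.card_pos Nat.card_pos
      refine Dvd.intro c (Nat.eq_of_mul_eq_mul_left hpos ?_)
      linarith [hA]
    have hd3 : (O ⊔ H).relIndex T = 1 := by
      refine Nat.eq_one_iff_not_exists_prime_dvd.2 fun p hp hd => ?_
      have h1 : p ∣ H.index := (hd.trans hd1).trans (index_dvd_of_le le_sup_right)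
      have h2 : O.relIndex N ∣ (M i.castSucc).relIndex (M i.succ) := by
        rw [hNdef, sup_comm, relIndex_sup_right]
        exact relIndex_dvd_of_le_left _ hi
      exact hp.ne_one (Nat.eq_one_of_dvd_coprimes hall (hpi p hp ((hd.trans hd2).trans h2)) h1)
    exact le_sup_left.trans (relIndex_eq_one.1 hd3)
  -- `X := H ⊓ N`
  have hNH : ∀ g ∈ N, ∃ o ∈ O, ∃ x ∈ H ⊓ N, g = o * x := by
    intro g hg
    obtain ⟨o, ho, x, hx, rfl⟩ := mem_sup_of_normal_left.1 (hNle hg)
    refine ⟨o, ho, x, ⟨hx, ?_⟩, rfl⟩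
    have := N.mul_mem (N.inv_mem (le_sup_left (a := O) ho)) hg
    rwa [inv_mul_cancel_left] at this
  have hX : H ⊓ N ≠ ⊥ := by
    intro hb
    refine hi' ((le_sup_right : M i.succ ≤ N).trans (fun g hg => ?_))
    obtain ⟨o, ho, x, hx, rfl⟩ := hNH g hg
    rw [hb, mem_bot] at hx
    rw [hx, mul_one]; exact ho
  obtain ⟨p, hp, hpd⟩ := Nat.exists_prime_and_dvd (fun h1 => hX (card_eq_one.1 h1) :
    Nat.card (H ⊓ N : Subgroup G) ≠ 1)
  haveI := Fact.mk hp
  obtain ⟨P0⟩ : Nonempty (Sylow p (H ⊓ N : Subgroup G)) := inferInstance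
  set P1 := (P0 : Subgroup (H ⊓ N : Subgroup G)).map (H ⊓ N : Subgroup G).subtype with hP1
  have hP1X : P1 ≤ H ⊓ N := map_subtype_le _
  have hP1ne : P1 ≠ ⊥ := by
    intro hb
    rw [hP1, map_eq_bot_iff_of_injective _ (H ⊓ N : Subgroup G).subtype_injective] at hb
    exact P0.ne_bot_of_dvd_card hpd hb
  have hpO : ¬ p ∣ Nat.card O := fun h => hp.ne_one
    (Nat.eq_one_of_dvd_coprimes hOc h (hpd.trans (card_dvd_of_le inf_le_left)))
  have hidx : ¬ p ∣ P1.relIndex N := by
    have h1 : P1.relIndex (H ⊓ N) = (P0 : Subgroup (H ⊓ N : Subgroup G)).index := by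
      rw [hP1, Subgroup.relIndex, ← comap_subtype,
        comap_map_eq_self_of_injective (H ⊓ N : Subgroup G).subtype_injective]
    have h3 : Nat.card N ∣ Nat.card O * Nat.card (H ⊓ N : Subgroup G) := by
      have e : O ⊔ (H ⊓ N) = N := le_antisymm (sup_le le_sup_left inf_le_right) fun g hg => by
        obtain ⟨o, ho, x, hx, rfl⟩ := hNH g hg
        exact mul_mem (mem_sup_left ho) (mem_sup_right hx)
      have h3' : Nat.card (O ⊔ (H ⊓ N) : Subgroup G) ∣
          Nat.card O * Nat.card (H ⊓ N : Subgroup G) := by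
        rw [← relIndex_bot_left O, ← relIndex_bot_left (O ⊔ (H ⊓ N) : Subgroup G),
          ← relIndex_mul_relIndex ⊥ O (O ⊔ (H ⊓ N) : Subgroup G) bot_le le_sup_left, sup_comm,
          relIndex_sup_right]
        exact mul_dvd_mul_left _ (relIndex_dvd_card O _)
      rwa [e] at h3'
    intro hd
    rw [← relIndex_mul_relIndex P1 (H ⊓ N) N hP1X inf_le_right, h1] at hd
    rcases hp.dvd_mul.1 hd with h | h
    · exact P0.not_dvd_index h
    · refine hpO (h.trans ?_)
      have e1 : Nat.card N = Nat.card (H ⊓ N : Subgroup G) * (H ⊓ N).relIndex N := by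
        rw [← relIndex_bot_left (H ⊓ N : Subgroup G), ← relIndex_bot_left N,
          relIndex_mul_relIndex _ _ _ bot_le inf_le_right]
      rw [e1, mul_comm (Nat.card O)] at h3
      exact Nat.dvd_of_mul_dvd_mul_left Nat.card_pos h3
  let PN : Sylow p N := IsPGroup.toSylow (P := P1.subgroupOf N)
    ((P0.2.map _).of_equiv (subgroupOfEquivOfLe (hP1X.trans inf_le_right)).symm) hidx
  have hfr := Sylow.normalizer_sup_eq_top PN
  rw [show ((PN : Subgroup N).map N.subtype) = P1 from
    map_subgroupOf_eq_of_le (hP1X.trans inf_le_right)] at hfr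
  have hfrat : O ⊔ normalizer (H : Set G) = ⊤ := by
    refine top_unique (hfr.ge.trans (sup_le ((normalizer_le_of_ti hTI (hP1X.trans inf_le_left)
      hP1ne).trans le_sup_right) (hNle.trans (sup_le_sup_left le_normalizer O))))
  refine ⟨hTI, hnn, hall, hOn, hOc, hmax, hfrat, ?_⟩
  rw [← normalizer_eq_top_iff, ← top_le_iff, ← hfrat]
  refine sup_le (le_sup_left.trans le_normalizer) ?_
  refine le_trans (le_inf le_rfl le_top) ?_
  intro g hg
  have hgO : g ∈ normalizer (O : Set G) := by rw [normalizer_eq_top]; exact mem_top g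
  exact Coprime.le_normalizer_sup (A := zpowers g) (zpowers_le.2 hgO) (zpowers_le.2 hg.1)
    (Subgroup.mem_zpowers g)

theorem TIHall.inf_normalizer (h : TIHall H O) {o : G} (ho : o ∈ O) (hN : o ∈ normalizer (H : Set G))
    {x : G} (hx : x ∈ H) : o * x = x * o := by
  haveI := h.normal
  have h1 : o * x * o⁻¹ * x⁻¹ ∈ H :=
    mul_mem ((mem_normalizer_iff.1 hN x).1 hx) (inv_mem hx)
  have h2 : o * x * o⁻¹ * x⁻¹ ∈ O := by
    have := O.mul_mem ho (h.normal.conj_mem o⁻¹ (inv_mem ho) x)
    simpa [mul_assoc] using this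
  have h3 : O ⊓ H = ⊥ := inf_eq_bot_of_coprime h.cop
  exact mul_inv_eq_iff_eq_mul.1 (mul_inv_eq_one.1 (mem_bot.1 (h3 ▸ mem_inf.2 ⟨h2, h1⟩)))

/-- For solvable `O`, `H` acts without fixed points on a section of `O`. -/
theorem TIHall.exists_fpf (h : TIHall H O) (hOs : Group.IsSolvable O) :
    ∃ (L : Type) (_ : Group L) (_ : Finite L) (H' : Subgroup L),
      Cfsg.IsFrobeniusComplement H' ∧ Nonempty (H ≃* H') := by
  haveI := h.normal
  set C := O ⊓ centralizer (H : Set G) with hC
  have hHO : H ≤ normalizer (O : Set G) := by rw [normalizer_eq_top]; exact le_top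
  obtain ⟨q, hq, P, hHP, hPC⟩ : ∃ (q : ℕ) (_ : Fact q.Prime) (P : Sylow q O),
      H ≤ normalizer ((P : Subgroup O).map O.subtype : Set G) ∧
        ¬ (P : Subgroup O).map O.subtype ≤ C := by
    by_contra hcon
    have hOC : O ≤ C := by
      have hd : Nat.card O ∣ Nat.card C := by
        refine (Nat.factorization_prime_le_iff_dvd Nat.card_pos.ne' Nat.card_pos.ne').1 fun p hp => ?_
        haveI := Fact.mk hp
        obtain ⟨P, hP⟩ := Coprime.exists_invariant_sylow H O hHO h.cop.symm (Or.inr hOs) p
        have hle : (P : Subgroup O).map O.subtype ≤ C := by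
          by_contra hn
          exact hcon ⟨p, Fact.mk hp, P, hP, hn⟩
        have := card_dvd_of_le hle
        rw [card_map_of_injective O.subtype_injective, P.card_eq_multiplicity] at this
        exact (hp.pow_dvd_iff_le_factorization Nat.card_pos.ne').1 this
      exact (eq_of_le_of_card_ge (inf_le_left : C ≤ O) (Nat.le_of_dvd Nat.card_pos hd)).ge
    apply h.nn
    rw [← normalizer_eq_top_iff, ← top_le_iff, ← h.frattini]
    exact sup_le ((hOC.trans inf_le_right).trans (centralizer_le_normalizer _)) le_rfl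
  set P1 := (P : Subgroup O).map O.subtype
  set D := P1 ⊓ centralizer (H : Set G) with hD
  have hDP : D < P1 := lt_of_le_of_ne inf_le_left fun e => hPC
    (le_inf (map_subtype_le _) (e ▸ inf_le_right))
  have hP1q : IsPGroup q P1 := P.2.map _
  obtain ⟨x, hxP, hxD, hxN⟩ : ∃ x ∈ P1, x ∉ D ∧ x ∈ normalizer (D : Set G) := by
    haveI := hP1q.isNilpotent
    have hlt : D.subgroupOf P1 < ⊤ := lt_top_iff_ne_top.2 fun e =>
      hDP.not_ge (subgroupOf_eq_top.1 e)
    obtain ⟨⟨x, hx⟩, hxn, hxd⟩ := SetLike.exists_of_lt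
      (Group.normalizerCondition_of_isNilpotent (G := P1) _ hlt)
    refine ⟨x, hx, hxd, mem_normalizer_iff.2 fun y => ⟨fun hy => ?_, fun hy => ?_⟩⟩
    · exact (mem_normalizer_iff.1 hxn ⟨y, hDP.le hy⟩).1 hy
    · have hyP : y ∈ P1 := by
        have := P1.mul_mem (P1.mul_mem (inv_mem hx) (hDP.le hy)) hx
        simpa [mul_assoc] using this
      exact (mem_normalizer_iff.1 hxn ⟨y, hyP⟩).2 hy
  have hHD : H ≤ normalizer (D : Set G) :=
    Coprime.le_normalizer_inf hHP (Coprime.le_normalizer_centralizer le_normalizer)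
  set L := normalizer (D : Set G)
  haveI : (D.subgroupOf L).Normal := normal_in_normalizer
  let π : L →* L ⧸ D.subgroupOf L := QuotientGroup.mk' _
  let A : Subgroup (L ⧸ D.subgroupOf L) := (H.subgroupOf L).map π
  let V : Subgroup (L ⧸ D.subgroupOf L) := (P1.subgroupOf L).map π
  have hPL : H.subgroupOf L ≤ normalizer ((P1.subgroupOf L : Subgroup L) : Set L) := by
    refine Coprime.le_normalizer_of_conj_mem fun a ha y hy => ?_
    exact (mem_normalizer_iff.1 (hHP ha) (y : G)).1 hy
  have hAV : A ≤ normalizer (V : Set (L ⧸ D.subgroupOf L)) :=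
    (map_mono hPL).trans (le_normalizer_map π)
  have hVne : V ≠ ⊥ := by
    intro e
    have : π ⟨x, hxN⟩ ∈ V := mem_map_of_mem π hxP
    rw [e, mem_bot] at this
    exact hxD ((QuotientGroup.eq_one_iff (N := D.subgroupOf L) _).1 this)
  have hcopD : (Nat.card H).Coprime (Nat.card D) :=
    h.cop.symm.coprime_dvd_right (card_dvd_of_le (hDP.le.trans (map_subtype_le _)))
  have hinjA : ∀ a : L, (a : G) ∈ H → π a = 1 → (a : G) = 1 := fun a ha e => by
    have h1 : (a : G) ∈ D := (QuotientGroup.eq_one_iff (N := D.subgroupOf L) _).1 e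
    exact mem_bot.1 (inf_eq_bot_of_coprime hcopD ▸ mem_inf.2 ⟨ha, h1⟩)
  let e : H ≃* A := MulEquiv.ofBijective
    (((π.subgroupMap (H.subgroupOf L))).comp (subgroupOfEquivOfLe hHD).symm.toMonoidHom) (by
      refine ⟨(injective_iff_map_eq_one _).2 fun a ha => Subtype.ext ?_, ?_⟩
      · exact hinjA ⟨(a : G), hHD a.2⟩ a.2 (congrArg Subtype.val ha)
      · exact (π.subgroupMap_surjective _).comp (subgroupOfEquivOfLe hHD).symm.surjective)
  have hfpf : Frobenius.IsFPF A V := by
    refine ⟨hAV, ?_⟩
    rintro _ ⟨a, ha, rfl⟩ ha1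
    rw [eq_bot_iff_forall]
    rintro _ ⟨⟨v, hv, rfl⟩, hvc⟩
    have hc := mem_centralizer_singleton_iff.1 hvc
    have haN : zpowers (a : G) ≤ normalizer (D : Set G) := zpowers_le.2 a.2
    obtain ⟨d, hd, hcc⟩ := Coprime.exists_fixed_in_coset_of_normal (zpowers (a : G)) D haN
      (hcopD.coprime_dvd_left (card_dvd_of_le (zpowers_le.2 ha)))
      (Or.inl (Group.isSolvable_of_comm fun b c => mul_comm' b c)) (v : G) v.2 (by
        intro b hb
        obtain ⟨m, rfl⟩ := mem_zpowers_iff.1 hb
        have h1 : π (a ^ m * v * (a ^ m)⁻¹ * v⁻¹) = 1 := by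
          simp only [map_mul, map_inv, map_zpow]
          rw [((show Commute (π a) (π v) from hc.symm).zpow_left m).eq]
          group
        simpa [mem_subgroupOf] using (QuotientGroup.eq_one_iff (N := D.subgroupOf L) _).1 h1)
    have haG : (a : G) ∈ H := ha
    have ha1' : (a : G) ≠ 1 := fun e => ha1 (by rw [show a = 1 from Subtype.ext e, map_one])
    set w := (v : G) * d
    have hwP : w ∈ P1 := mul_mem hv (hDP.le hd)
    have hwc : (a : G) * w = w * a :=
      (mem_centralizer_iff.1 hcc _ (Subgroup.mem_zpowers _))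
    have hwN : w ∈ normalizer (H : Set G) := mem_normalizer_of_ti h.ti haG ha1' (by
      rw [← hwc, mul_inv_cancel_right]; exact haG)
    have hwD : w ∈ D := ⟨hwP, mem_centralizer_iff.2 fun y hy =>
      (h.inf_normalizer (map_subtype_le _ hwP) hwN hy).symm⟩
    refine (QuotientGroup.eq_one_iff (N := D.subgroupOf L) _).2 ?_
    show (v : G) ∈ D
    have := D.mul_mem hwD (D.inv_mem hd)
    simpa [w] using this
  have hA1 : A ≠ ⊥ := by
    intro he
    refine ne_bot_of_not_normal h.nn ((eq_bot_iff_forall H).2 fun y hy => ?_)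
    have : (e ⟨y, hy⟩ : L ⧸ D.subgroupOf L) ∈ A := SetLike.coe_mem _
    simp only [he, mem_bot] at this
    exact congrArg Subtype.val (e.injective ((Subtype.ext this : e ⟨y, hy⟩ = 1).trans (map_one e).symm))
  obtain ⟨L', i1, i2, H', hH', ⟨e'⟩⟩ := fc_of_isFPF hfpf hA1 hVne
  exact ⟨L', i1, i2, H', hH', ⟨e.trans e'⟩⟩

theorem not_solvable_sl25 : ¬ Group.IsSolvable (Matrix.SpecialLinearGroup (Fin 2) (ZMod 5)) := by
  intro hs
  haveI := hs
  have hR5 := Pres.rels5
  obtain ⟨e⟩ := nonempty_P120_sl
  have hrel : ∀ w ∈ rels120,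
      FreeGroup.lift ![Pres.x5, Pres.y5, (1 : alternatingGroup (Fin 5))] w = 1 := by
    rintro w (rfl | rfl | rfl | rfl | rfl | rfl) <;>
      simp only [map_mul, map_pow, map_inv, FreeGroup.lift_apply_of, Matrix.cons_val] <;>
      decide +kernel
  let φ : P120 →* alternatingGroup (Fin 5) := PresentedGroup.toGroup hrel
  have hφ : Function.Surjective φ := by
    rw [← MonoidHom.range_eq_top]
    refine top_unique (Pres.gen5.ge.trans ((closure_le _).2 ?_))
    rintro w (rfl | rfl)
    · exact ⟨PresentedGroup.of 0, PresentedGroup.toGroup.of hrel⟩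
    · exact ⟨PresentedGroup.of 1, PresentedGroup.toGroup.of hrel⟩
  exact not_solvable_a5 (Group.isSolvable_of_surjective (f := φ.comp e.symm.toMonoidHom)
    (hφ.comp e.symm.surjective))

/-- The solvability criterion. -/
theorem TIHall.solvable_iff (h : TIHall H O) :
    Group.IsSolvable G ↔ Group.IsSolvable O ∧
      ∀ K : Subgroup G, K ≤ H → ¬ Nonempty (K ≃* Matrix.SpecialLinearGroup (Fin 2) (ZMod 5)) := by
  haveI := h.normal
  constructor
  · intro hs
    haveI := hs
    refine ⟨inferInstance, fun K _ ⟨e⟩ => ?_⟩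
    haveI : Group.IsSolvable K := inferInstance
    haveI : Group.IsSolvable (Matrix.SpecialLinearGroup (Fin 2) (ZMod 5)) :=
      Group.isSolvable_of_surjective (f := e.toMonoidHom) e.surjective
    exact not_solvable_sl25 this
  rintro ⟨hOs, hK⟩
  have hFC := h.exists_fpf hOs
  have hHs : Group.IsSolvable H := by
    by_contra hns
    obtain ⟨hd, hev⟩ := data_of_fc hFC
    obtain ⟨R, hR, ρ, ζ, hr, hζ⟩ := hev (by_contra fun h2 => hns (solvable_of_odd hd h2))
    obtain ⟨G₀, -, -, S, M, -, -, -, ⟨eS⟩, -, -⟩ := structure_nonsolvable hr hζ hd hns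
    exact hK (S.map H.subtype) (map_subtype_le S)
      ⟨(S.equivMapOfInjective _ H.subtype_injective).symm.trans eS⟩
  haveI := hOs
  haveI := hHs
  haveI hAut := isSolvable_mulAut_fc hFC hHs
  set OH := O ⊔ H
  haveI := h.sup_normal
  haveI : Group.IsSolvable OH := by
    haveI hO1 : Group.IsSolvable (O.subgroupOf OH) :=
      Group.isSolvable_of_isSolvable_injective (f := (subgroupOfEquivOfLe (le_sup_left : O ≤ OH)).toMonoidHom)
        (subgroupOfEquivOfLe (le_sup_left : O ≤ OH)).injective
    haveI : Group.IsSolvable (OH ⧸ O.subgroupOf OH) := by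
      refine Group.isSolvable_of_surjective (f := (QuotientGroup.mk' (O.subgroupOf OH)).comp
        (Subgroup.inclusion (le_sup_right : H ≤ OH))) fun t => ?_
      obtain ⟨⟨g, hg⟩, rfl⟩ := QuotientGroup.mk'_surjective (O.subgroupOf OH) t
      obtain ⟨o, ho, y, hy, rfl⟩ := mem_sup_of_normal_left.1 hg
      refine ⟨⟨y, hy⟩, ?_⟩
      refine QuotientGroup.eq.2 ?_
      show y⁻¹ * (o * y) ∈ O
      rw [← mul_assoc]
      have := h.normal.conj_mem o ho y⁻¹
      rwa [inv_inv] at this
    exact Group.isSolvable_of_ker_le_range (O.subgroupOf OH).subtype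
      (QuotientGroup.mk' (O.subgroupOf OH)) (by rw [QuotientGroup.ker_mk', range_subtype])
  set N := normalizer (H : Set G)
  haveI : Group.IsSolvable N := by
    let φ : N →* MulAut H := normalizerMonoidHom H
    haveI : Group.IsSolvable φ.ker := by
      -- the centraliser is central in `H` times a normal `π'`-part
      set C := centralizer (H : Set G) with hCdef
      have hCle : C ≤ O ⊔ H := by
        set Z := (H.subgroupOf C)
        haveI hZn : Z.Normal := ⟨fun n hn g => by
          show (g : G) * n * (g : G)⁻¹ ∈ H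
          rw [← mem_centralizer_iff.1 g.2 (n : G) hn, mul_inv_cancel_right]
          exact hn⟩
        have hZc : (Nat.card Z).Coprime Z.index := by
          have hCN : C ≤ N := centralizer_le_normalizer _
          have h1 : Nat.card Z ∣ Nat.card H :=
            card_dvd_of_injective
              ({ toFun := fun z => ⟨((z : C) : G), z.2⟩, map_one' := rfl,
                 map_mul' := fun _ _ => rfl } : Z →* H) (fun a b hab =>
              Subtype.ext (Subtype.ext (congrArg (fun w : H => (w : G)) hab)))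
          have h2 : Z.index ∣ H.index := by
            have hd : H.relIndex C ∣ H.relIndex N := by
              haveI : (H.subgroupOf N).Normal := normal_in_normalizer
              exact (relIndex_subgroupOf hCN) ▸ relIndex_dvd_index_of_normal _ _
            exact hd.trans (Dvd.intro _ (relIndex_mul_index (le_normalizer : H ≤ N)))
          exact Nat.Coprime.coprime_dvd_left h1 (h.hall.coprime_dvd_right h2)
        obtain ⟨K, hK'⟩ := exists_right_complement'_of_coprime hZc
        have hKcard : (Nat.card (K.map C.subtype)).Coprime (Nat.card H) := by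
          rw [card_map_of_injective C.subtype_injective, ← hK'.symm.index_eq_card]
          have hd : Z.index ∣ H.index := by
            haveI : (H.subgroupOf N).Normal := normal_in_normalizer
            exact ((relIndex_subgroupOf (H := H) (centralizer_le_normalizer _ : C ≤ N)) ▸
              relIndex_dvd_index_of_normal _ _ : H.relIndex C ∣ H.relIndex N).trans
              (Dvd.intro _ (relIndex_mul_index (le_normalizer : H ≤ N)))
          exact (h.hall.coprime_dvd_right hd).symm
        set K' := K.map C.subtype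
        have hdec : ∀ c ∈ C, ∃ z ∈ H, ∃ k ∈ K', c = z * k := fun c hc => by
          obtain ⟨⟨z, k⟩, hzk⟩ := (hK'.existsUnique ⟨c, hc⟩).exists
          exact ⟨((z : C) : G), z.2, ((k : C) : G), mem_map_of_mem _ k.2,
            (congrArg Subtype.val hzk).symm⟩
        -- `O ⊔ K'` is normal
        have hKn : N ≤ normalizer (K' : Set G) := by
          refine Coprime.le_normalizer_of_conj_mem fun g hg k hk => ?_
          have hkC : k ∈ C := map_subtype_le _ hk
          have hgC : g * k * g⁻¹ ∈ C := by
            exact (mem_normalizer_iff.1 (Coprime.le_normalizer_centralizer (A := N) (H := H) le_rfl hg) k).1 hkC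
          obtain ⟨z, hz, k', hk', he⟩ := hdec _ hgC
          have hzk : Commute z k' := mem_centralizer_iff.1 (map_subtype_le K hk') z hz
          have hk'ord : orderOf (g * k * g⁻¹) = orderOf k := by
            rw [← MulAut.conj_apply g k]; exact MulEquiv.orderOf_eq _ _
          have hz1 : z = 1 := by
            have ho1 : orderOf (z * k') ∣ Nat.card K' := by
              rw [← he, hk'ord]; exact Subgroup.orderOf_dvd_natCard K' hk
            have hzd : z ^ Nat.card K' = 1 := by
              have h1 := orderOf_dvd_iff_pow_eq_one.1 ho1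
              rw [hzk.mul_pow, orderOf_dvd_iff_pow_eq_one.1 (Subgroup.orderOf_dvd_natCard K' hk'),
                mul_one] at h1
              exact h1
            exact orderOf_eq_one_iff.1 (Nat.eq_one_of_dvd_coprimes hKcard.symm
              (Subgroup.orderOf_dvd_natCard H hz) (orderOf_dvd_of_pow_eq_one hzd))
          rw [he, hz1, one_mul]; exact hk'
        have hOK : (O ⊔ K').Normal := by
          rw [← normalizer_eq_top_iff, ← top_le_iff, ← h.frattini]
          refine sup_le (le_sup_left.trans le_normalizer) fun g hg => ?_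
          have hgO : g ∈ normalizer (O : Set G) := by rw [normalizer_eq_top]; exact mem_top g
          exact Coprime.le_normalizer_sup (A := zpowers g) (zpowers_le.2 hgO)
            (zpowers_le.2 (hKn hg)) (Subgroup.mem_zpowers g)
        have hcard : (Nat.card (O ⊔ K' : Subgroup G)).Coprime (Nat.card H) := by
          refine (h.cop.mul_left hKcard).coprime_dvd_left ?_
          rw [← relIndex_bot_left O, ← relIndex_bot_left (O ⊔ K' : Subgroup G),
            ← relIndex_mul_relIndex ⊥ O (O ⊔ K' : Subgroup G) bot_le le_sup_left, sup_comm,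
            relIndex_sup_right]
          exact mul_dvd_mul_left _ (relIndex_dvd_card O K')
        intro c hc
        obtain ⟨z, hz, k, hk, rfl⟩ := hdec c hc
        exact mul_mem (mem_sup_right hz)
          (mem_sup_left ((le_sup_right.trans (h.max _ hOK hcard)) hk))
      refine Group.isSolvable_of_isSolvable_injective (f := ((N.subtype.comp φ.ker.subtype).codRestrict OH
        fun k => hCle ?_)) ?_
      · rw [hCdef, mem_centralizer_iff]
        intro y hy
        have h1 := congrArg (fun a : MulAut H => ((a ⟨y, hy⟩ : H) : G)) (show φ k = 1 from k.2)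
        have h2 : ((k : N) : G) * y * ((k : N) : G)⁻¹ = y := h1
        exact (mul_inv_eq_iff_eq_mul.1 h2).symm
      · exact fun a b hab => Subtype.ext (Subtype.ext (congrArg (fun z : OH => (z : G)) hab))
    exact Group.isSolvable_of_ker_le_range φ.ker.subtype φ (by rw [range_subtype])
  haveI : Group.IsSolvable (G ⧸ OH) := by
    refine Group.isSolvable_of_surjective (f := (QuotientGroup.mk' OH).comp N.subtype) fun t => ?_
    obtain ⟨g, rfl⟩ := QuotientGroup.mk'_surjective OH t
    obtain ⟨o, ho, n, hn, rfl⟩ := mem_sup_of_normal_left.1 (h.frattini ▸ mem_top g :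
      g ∈ O ⊔ normalizer (H : Set G))
    refine ⟨⟨n, hn⟩, QuotientGroup.eq.2 ?_⟩
    show n⁻¹ * (o * n) ∈ OH
    rw [← mul_assoc]
    have := h.normal.conj_mem o ho n⁻¹
    rw [inv_inv] at this
    exact mem_sup_left this
  exact Group.isSolvable_of_ker_le_range OH.subtype (QuotientGroup.mk' OH)
    (by rw [QuotientGroup.ker_mk', range_subtype])

end Cfsg.Agent.FPFStructure
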