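import Cfsg.Agent.FPFStructure.SolvStruct

set_option autoImplicit false
set_option linter.style.haveILetI false

/-!
The largest normal `Z`-subgroup of a fixed-point-free group and its quotient.
-/

namespace Cfsg.Agent.FPFStructure

universe u

open Subgroup

theorem perm_five_normal_solvable (N : Subgroup (Equiv.Perm (Fin 5))) [N.Normal]
    (h : Group.IsSolvable N) : N = ⊥ := by
  haveI := h
  haveI : IsSimpleGroup (alternatingGroup (Fin 5)) := alternatingGroup.isSimpleGroup_five
  rcases (inferInstance : (N.subgroupOf (alternatingGroup (Fin 5))).Normal).eq_bot_or_eq_top with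
    hb | ht
  · refine (eq_bot_iff_forall N).2 fun x hx => ?_
    by_contra hx1
    have hmem : ∀ y ∈ N, y ∈ alternatingGroup (Fin 5) → y = 1 := fun y hy hy' =>
      congrArg Subtype.val (show (⟨y, hy'⟩ : alternatingGroup (Fin 5)) = 1 from
        mem_bot.1 (hb ▸ (hy : (⟨y, hy'⟩ : alternatingGroup (Fin 5)) ∈ N.subgroupOf _)))
    -- `N` is central
    have hc : ∀ y : Equiv.Perm (Fin 5), y * x = x * y := by
      intro y
      have h1 := hmem (y * x * y⁻¹ * x⁻¹)
        (mul_mem ((inferInstance : N.Normal).conj_mem x hx y) (inv_mem hx)) (by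
          rw [Equiv.Perm.mem_alternatingGroup]
          simp only [map_mul, map_inv, mul_comm (Equiv.Perm.sign y) (Equiv.Perm.sign x)]
          group)
      exact mul_inv_eq_iff_eq_mul.1 (mul_inv_eq_one.1 h1)
    have h2 : x = 1 := by
      have hcen : ∀ z : Equiv.Perm (Fin 5), (∀ i j : Fin 5, Equiv.swap i j * z = z * Equiv.swap i j) →
          z = 1 := by decide +kernel
      exact hcen x fun i j => hc _
    exact hx1 h2
  · exfalso
    have hle : alternatingGroup (Fin 5) ≤ N := subgroupOf_eq_top.1 ht
    haveI : Group.IsSolvable (alternatingGroup (Fin 5)) :=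
      Group.isSolvable_of_isSolvable_injective (Subgroup.inclusion_injective hle)
    obtain ⟨a, b, hab⟩ : ∃ a b : alternatingGroup (Fin 5), a * b ≠ b * a :=
      ⟨Pres.x5, Pres.y5, by decide +kernel⟩
    exact hab (IsSimpleGroup.comm_iff_isSolvable.2 inferInstance a b)

theorem not_solvable_a5 : ¬ Group.IsSolvable (alternatingGroup (Fin 5)) := by
  intro h
  haveI := h
  haveI : IsSimpleGroup (alternatingGroup (Fin 5)) := alternatingGroup.isSimpleGroup_five
  obtain ⟨a, b, hab⟩ : ∃ a b : alternatingGroup (Fin 5), a * b ≠ b * a :=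
    ⟨Pres.x5, Pres.y5, by decide +kernel⟩
  exact hab (IsSimpleGroup.comm_iff_isSolvable.2 inferInstance a b)

theorem not_solvable_s5 : ¬ Group.IsSolvable (Equiv.Perm (Fin 5)) := fun h =>
  not_solvable_a5 (by haveI := h; infer_instance)

/-- Quotient isomorphic to `A₅` or `S₅`, packaged as a map to `S₅`. -/
theorem eq_of_five {G : Type u} [Group G] [Finite G] {f g : G →* Equiv.Perm (Fin 5)}
    (hf : alternatingGroup (Fin 5) ≤ f.range) (hg : Group.IsSolvable g.ker) : g.ker ≤ f.ker := by
  haveI := hg
  intro x hx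
  let H := f.range
  let M : Subgroup (Equiv.Perm (Fin 5)) := g.ker.map f
  haveI hMs : Group.IsSolvable M :=
    Group.isSolvable_of_surjective (f.subgroupMap_surjective g.ker)
  have hMH : M ≤ H := map_le_range f _
  haveI hMn : (M.subgroupOf H).Normal := by
    refine ⟨fun n hn y => ?_⟩
    obtain ⟨z, hz, he⟩ := hn
    obtain ⟨w, hw⟩ := y.2
    refine ⟨w * z * w⁻¹, (inferInstance : g.ker.Normal).conj_mem z hz w, ?_⟩
    rw [map_mul, map_mul, map_inv, he, hw]
    rfl
  rcases eq_or_ne H ⊤ with hH | hH
  · haveI : M.Normal := ⟨fun n hn y => by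
      have := hMn.conj_mem ⟨n, hMH hn⟩ hn ⟨y, hH ▸ mem_top y⟩
      exact this⟩
    have : M = ⊥ := perm_five_normal_solvable M hMs
    exact mem_bot.1 (this ▸ mem_map_of_mem f hx)
  · have hA : H = alternatingGroup (Fin 5) := by
      refine le_antisymm ?_ hf
      by_contra hne
      apply hH
      have h2 : (alternatingGroup (Fin 5)).index = 2 := alternatingGroup.index_eq_two
      obtain ⟨y, hy, hyA⟩ := SetLike.not_le_iff_exists.1 hne
      refine eq_top_iff.2 fun z _ => ?_
      by_cases hz : z ∈ alternatingGroup (Fin 5)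
      · exact hf hz
      · have : y⁻¹ * z ∈ alternatingGroup (Fin 5) := by
          rw [mul_mem_iff_of_index_two h2, inv_mem_iff]
          exact ⟨fun h => absurd h hyA, fun h => absurd h hz⟩
        simpa using H.mul_mem hy (hf this)
    haveI : IsSimpleGroup H := by
      haveI : IsSimpleGroup (alternatingGroup (Fin 5)) := alternatingGroup.isSimpleGroup_five
      exact hA ▸ this
    rcases hMn.eq_bot_or_eq_top with hb | ht
    · have h1 : (⟨f x, hMH (mem_map_of_mem f hx)⟩ : H) ∈ M.subgroupOf H := mem_map_of_mem f hx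
      rw [hb, mem_bot] at h1
      exact congrArg Subtype.val h1
    · exfalso
      have hle : alternatingGroup (Fin 5) ≤ M := hA ▸ subgroupOf_eq_top.1 ht
      exact not_solvable_a5 (Group.isSolvable_of_isSolvable_injective (Subgroup.inclusion_injective hle))

end Cfsg.Agent.FPFStructure
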