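import Cfsg.Agent.FPFStructure.Zassenhaus

set_option autoImplicit false
set_option linter.style.haveILetI false

/-!
Existence and uniqueness of the normal `Z`-subgroup with one of the five quotients.
-/

namespace Cfsg.Agent.FPFStructure

universe u

open Subgroup

/-- Quotient isomorphic to `A₅` or `S₅`. -/
def Five (G : Type u) [Group G] (N : Subgroup G) : Prop :=
  (∃ f : G →* alternatingGroup (Fin 5), Function.Surjective f ∧ f.ker = N) ∨
    (∃ f : G →* Equiv.Perm (Fin 5), Function.Surjective f ∧ f.ker = N)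

theorem Five.exists_perm {G : Type u} [Group G] {N : Subgroup G} (h : Five G N) :
    ∃ g : G →* Equiv.Perm (Fin 5), g.ker = N ∧ alternatingGroup (Fin 5) ≤ g.range := by
  rcases h with ⟨f, hf, rfl⟩ | ⟨f, hf, rfl⟩
  · refine ⟨(alternatingGroup (Fin 5)).subtype.comp f, ?_, fun x hx => ?_⟩
    · ext x; simp [MonoidHom.mem_ker]
    · obtain ⟨y, hy⟩ := hf ⟨x, hx⟩
      exact ⟨y, congrArg Subtype.val hy⟩
  · exact ⟨f, rfl, fun x _ => hf x⟩

theorem Five.not_isSolvable {G : Type u} [Group G] {N : Subgroup G} (h : Five G N) :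
    ¬ Group.IsSolvable G := by
  intro hs
  haveI := hs
  rcases h with ⟨f, hf, -⟩ | ⟨f, hf, -⟩
  · exact not_solvable_a5 (Group.isSolvable_of_surjective hf)
  · exact not_solvable_s5 (Group.isSolvable_of_surjective hf)

/-- The dichotomy behind Zassenhaus' theorem. -/
theorem exists_quotient {G : Type u} [Group G] [Finite G]
    (hFC : ∃ (L : Type) (_ : Group L) (_ : Finite L) (H : Subgroup L),
      Cfsg.IsFrobeniusComplement H ∧ Nonempty (G ≃* H)) :
    (IsZGroup G) ∨
    (Group.IsSolvable G ∧ ∃ N : Subgroup G, N.Normal ∧ IsZGroup N ∧ Small G N ∧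
      ∀ N' : Subgroup G, N'.Normal → IsZGroup N' → Small G N' → N' = N) ∨
    (¬ Group.IsSolvable G ∧ ∃ N : Subgroup G, N.Normal ∧ IsZGroup N ∧ Five G N ∧
      ∀ N' : Subgroup G, N'.Normal → IsZGroup N' → Five G N' → N' = N) := by
  obtain ⟨hd, hev⟩ := data_of_fc hFC
  by_cases h2 : 2 ∣ Nat.card G
  swap
  · refine Or.inl ((isZGroup_iff G).2 fun p hp S => ?_)
    haveI := Fact.mk hp
    rcases eq_or_ne p 2 with rfl | hne
    · have : (S : Subgroup G) = ⊥ := by
        by_contra hS
        obtain ⟨k, hk⟩ := S.2.exists_card_eq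
        rcases Nat.eq_zero_or_pos k with rfl | hk0
        · exact hS (card_eq_one.1 (hk.trans (pow_zero 2)))
        · exact h2 ((dvd_pow_self 2 hk0.ne').trans (hk ▸ card_subgroup_dvd_card _))
      rw [this]; infer_instance
    · exact hd.odd_cyclic p hp hne S S.2
  obtain ⟨R, hR, ρ, ζ, hr, hζ⟩ := hev h2
  by_cases hs : Group.IsSolvable G
  · haveI := hs
    rcases solvable_structure hd (cq_of_rep hr hζ) with hZ | h
    · exact Or.inl hZ
    · exact Or.inr (Or.inl ⟨hs, h⟩)
  · obtain ⟨⟨ψ, hZ, hle⟩, -⟩ := structure_nonsolvable' hr hζ hd hs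
    refine Or.inr (Or.inr ⟨hs, ψ.ker, inferInstance, hZ, ?_, fun N' hN' hZ' h5 => ?_⟩)
    · by_cases htop : ψ.range = ⊤
      · exact Or.inr ⟨ψ, MonoidHom.range_eq_top.1 htop, rfl⟩
      · have heq : ψ.range = alternatingGroup (Fin 5) := by
          refine le_antisymm ?_ hle
          by_contra hne
          apply htop
          have h2 : (alternatingGroup (Fin 5)).index = 2 := alternatingGroup.index_eq_two
          obtain ⟨y, hy, hyA⟩ := SetLike.not_le_iff_exists.1 hne
          refine eq_top_iff.2 fun z _ => ?_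
          by_cases hz : z ∈ alternatingGroup (Fin 5)
          · exact hle hz
          · have : y⁻¹ * z ∈ alternatingGroup (Fin 5) := by
              rw [mul_mem_iff_of_index_two h2, inv_mem_iff]
              exact ⟨fun h => absurd h hyA, fun h => absurd h hz⟩
            simpa using ψ.range.mul_mem hy (hle this)
        refine Or.inl ⟨ψ.codRestrict (alternatingGroup (Fin 5)) (fun x => heq ▸ ⟨x, rfl⟩),
          fun y => ?_, MonoidHom.ker_codRestrict _ _ _⟩
        obtain ⟨x, hx⟩ : (y : Equiv.Perm (Fin 5)) ∈ ψ.range := heq.symm ▸ y.2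
        exact ⟨x, Subtype.ext hx⟩
    · obtain ⟨g, hgk, hgr⟩ := h5.exists_perm
      haveI := hZ
      haveI := hZ'
      rw [← hgk]
      refine le_antisymm (eq_of_five hle ?_) (eq_of_five hgr ?_)
      · rw [hgk]; infer_instance
      · infer_instance

end Cfsg.Agent.FPFStructure
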